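import Cfsg.Agent.Omega.IIa4.AllOf
import Cfsg.Agent.Omega.IIa4.Lay
import Cfsg.Agent.Omega.Exits

/-!
# The leaf II.a, `q ≥ 4` (`FrameFF.LeafA4 K`) from its parts (project OMEGA, assembler: helper978)

Situation: `IIa4.Sit S P g M`, i.e. `Ctx G`, `Full S`, `AllIn S`, `AllFree S`, `MinSame S P g`, `V = V_P = zl S P`
natural for `SL₂(F)` (`M : NatMod F V`), `|F| ≥ 4`.  `R i = pt M i` the points of `V`, `W i = ⟨V^{N(R i)}⟩`,
`Q i = O₂(N(R i))`, `U i = C_{W i}(V)`, `A = U j Q i / Q i`.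

Landed and plugged in: `b = 2` (`IIa4.Sit.V_le_QQ`), the structure `BTC` (`IIa4.Sit.btc`), coordinates, torus,
`Coord.semi` (#11043).

Parts (each a Prop):
* `LayP K` : the layer of `N(R)/O₂(N(R))` (`IIa4.Lay`; the component theorem);
* `SEP K` : `C_{W/R}(S₁ ∩ C(R)) = V/R`;
* `TIRP` : `R` is a TI-set (THEOREM TIR, K-free): proved by helper450, `IIa4.tirp` (`IIa4/Tirp.lean`);
* `AllP` : `⟨N(V), N(R)⟩ = G` (THEOREM ALL, K-free): proved, `allP`;
* `LieBNP K` : a subgroup `G₀ ≠ 1` with a BN-pair, normalised by `N(V)` and `N(R)` (or `G` is known).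

`leafA4_of` : `LeafA4 K` from S1143, S1144 and these; `Node/LeafA4Main.lean` has the version without `TIRP`.
-/

set_option autoImplicit false
set_option linter.unusedSectionVars false

namespace Cfsg.Agent.Omega.IIa4

open Subgroup Cfsg Cfsg.Agent.ZN Cfsg.Agent.Omega.NatPair Cfsg.Agent.Omega.BTwo
open Cfsg.Agent.Omega.Frame Cfsg.Agent.Omega.FrameFF

universe u

/-! ### Predicates of the configuration -/

/-- `R i` is a TI-set: `1 ≠ r ∈ R i`, `r^g ∈ R i` imply `g ∈ N(R i)` -/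
def TIR {G : Type*} [Group G] {ι : Type*} (R : ι → Subgroup G) : Prop :=
  ∀ (i : ι) (g r : G), r ∈ R i → r ≠ 1 → g * r * g⁻¹ ∈ R i → g ∈ normalizer (R i : Set G)

/-- `C_{W/R}(S₁ ∩ C(R)) = V/R` for the Sylow 2-subgroups `S₁` of `G` in `N(V) ∩ N(R)` -/
def CenSE {G : Type*} [Group G] {ι : Type*} (V : Subgroup G) (R : ι → Subgroup G) : Prop :=
  ∀ (i : ι) (S₁ : Sylow 2 G), (S₁ : Subgroup G) ≤ normalizer (V : Set G) →
    (S₁ : Subgroup G) ≤ normalizer (R i : Set G) →
    ∀ x ∈ WW V (R i), (∀ s ∈ (S₁ : Subgroup G), s ∈ centralizer (R i : Set G) → s * x * s⁻¹ * x⁻¹ ∈ R i) → x ∈ V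

/-- `N(V)` and `N(R i)` generate `G` -/
def GenVR {G : Type*} [Group G] {ι : Type*} (V : Subgroup G) (R : ι → Subgroup G) : Prop :=
  ∀ (i : ι) (Y : Subgroup G), normalizer (V : Set G) ≤ Y → normalizer (R i : Set G) ≤ Y → Y = ⊤

/-- a BN-pair as needed in S1143 or S1144 -/
def HasBN (X : Type*) [Group X] : Prop :=
  (∃ B : BNPair X, 3 ≤ B.rank ∧ B.Irreducible) ∨ ∃ B : BNPair X, 1 ≤ B.rank ∧ B.IsSplit

/-- a subgroup `G₀ ≠ 1` with a BN-pair normalised by `N(V)` and `N(R i)` -/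
def GZero {G : Type*} [Group G] {ι : Type*} (V : Subgroup G) (R : ι → Subgroup G) : Prop :=
  ∃ (i : ι) (G₀ : Subgroup G), G₀ ≠ ⊥ ∧ normalizer (V : Set G) ≤ normalizer (G₀ : Set G) ∧
    normalizer (R i : Set G) ≤ normalizer (G₀ : Set G) ∧ HasBN ↥G₀

/-! ### The parts -/

section parts

variable (K : Cls.{u})

/-- **LAYER** (the component theorem).
Text: #11541 (2)-(5) with #12957, #13121 (`q ≥ 8`); #12098, #12707, #12397 (`q = 4`).  Assembly: helper287
(`Omega/Lie/Layer*.lean`), with helper452 (Quot), 484 (Exo), 843, 932 (odd part), 835, 898 (T2), 460 (LQ). -/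
def LayP : Prop :=
  ∀ (G : Type u) [Group G] [Finite G], K G → ∀ (S : Sylow 2 G) (P : Subgroup G) (g : G) (F : Type) [Field F]
    [Finite F] [CharP F 2] (M : NatMod F (zl (S : Subgroup G) P)), Sit S P g M →
      LayAll (zl (S : Subgroup G) P) (pt M) F

/-- **`C_M(S_E) = e`** : `C_{W/R}(S₁ ∩ C(R)) = V/R`.
Text: LEMMA CEN #14596 (helper95), THEOREM D #15015 (helper407).  Owner: helper95 (`Omega/Lie/SE.lean`), helper407
(`Omega/Lie/ThmD.lean`). -/
def SEP : Prop :=
  ∀ (G : Type u) [Group G] [Finite G], K G → ∀ (S : Sylow 2 G) (P : Subgroup G) (g : G) (F : Type) [Field F]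
    [Finite F] [CharP F 2] (M : NatMod F (zl (S : Subgroup G) P)), Sit S P g M →
      LayAll (zl (S : Subgroup G) P) (pt M) F →
      SemiOut (zl (S : Subgroup G) P) (pt M) → CenSE (zl (S : Subgroup G) P) (pt M)

/-- **THEOREM TIR** (K-free): `R` is a TI-set.  Text: #13229 (helper522), #13299 (helper450).
Owner: helper450 (`Omega/BTwo/Cz.lean`), helper522. -/
def TIRP : Prop :=
  ∀ (G : Type u) [Group G] [Finite G] (S : Sylow 2 G) (P : Subgroup G) (g : G) (F : Type) [Field F]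
    [Finite F] [CharP F 2] (M : NatMod F (zl (S : Subgroup G) P)), Sit S P g M →
      SemiOut (zl (S : Subgroup G) P) (pt M) → CenSE (zl (S : Subgroup G) P) (pt M) → TIR (pt M)

/-- **THEOREM ALL** (K-free): every `P' ∈ P(S)` lies in `N(R)` or in `N(V)`, so `⟨N(V), N(R)⟩ = G`.
Text: #13114 (helper47), #13498 (helper221).  Proved: `allP`. -/
def AllP : Prop :=
  ∀ (G : Type u) [Group G] [Finite G] (S : Sylow 2 G) (P : Subgroup G) (g : G) (F : Type) [Field F]
    [Finite F] [CharP F 2] (M : NatMod F (zl (S : Subgroup G) P)), Sit S P g M →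
      SemiOut (zl (S : Subgroup G) P) (pt M) → CenSE (zl (S : Subgroup G) P) (pt M) → TIR (pt M) →
      GenVR (zl (S : Subgroup G) P) (pt M)

/-- **The BN-pair of `G₀`**.  Text: NODE THEOREM #14331 (helper493), architecture #14551 (helper43): THEOREM PAR
(`ParSys/PSysMain.lean`); rank two end: `SQEnd` (helper326, 195; `|k| = 4`: `G` is known). -/
def LieBNP : Prop :=
  ∀ (G : Type u) [Group G] [Finite G], K G → ∀ (S : Sylow 2 G) (P : Subgroup G) (g : G) (F : Type) [Field F]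
    [Finite F] [CharP F 2] (M : NatMod F (zl (S : Subgroup G) P)), Sit S P g M →
      LayAll (zl (S : Subgroup G) P) (pt M) F →
      SemiOut (zl (S : Subgroup G) P) (pt M) → CenSE (zl (S : Subgroup G) P) (pt M) → TIR (pt M) →
      GZero (zl (S : Subgroup G) P) (pt M) ∨ IsKnownSimple' G

end parts

/-! ### The glue -/

namespace Sit

variable {G : Type u} [Group G] [Finite G] {S : Sylow 2 G} {P : Subgroup G} {g : G} {F : Type} [Field F]
  [Finite F] [CharP F 2] {M : NatMod F (zl (S : Subgroup G) P)} (h : Sit S P g M)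
include h

/-- the point normalised by `S` -/
theorem exists_pt : ∃ i : Pt M, (S : Subgroup G) ≤ normalizer (pt M i : Set G) := by
  obtain ⟨i, -, -⟩ := h.exists_pair
  have hZ : zc (S : Subgroup G) ≠ ⊥ := by
    refine MinSimple.Basic.zc_ne_bot S.isPGroup' fun h0 => h.bt.R_ne i (eq_bot_iff.2 ?_)
    exact ((h.bt.R_le i).trans ((h.allIn P h.isParS).trans (All.o2_CZ_le S))).trans_eq h0
  obtain ⟨z, hz1⟩ := Subgroup.ne_bot_iff_exists_ne_one.1 hZ
  have hz := MinSimple.VModule.mem_zc.1 z.2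
  obtain ⟨i₀, -, hi₀⟩ := exists_fixed h.bt h.le_N (h.zc_le z.2) (fun h0 => hz1 (Subtype.ext h0)) hz.2.1
  exact ⟨i₀, hi₀⟩

theorem exists_ne_pt (i : Pt M) : ∃ j : Pt M, i ≠ j := by
  obtain ⟨i', j', hij⟩ := h.exists_pair
  by_cases h1 : i = i'
  · exact ⟨j', h1 ▸ hij⟩
  · exact ⟨i', h1⟩

theorem perf_of_lay (hl : LayAll (zl (S : Subgroup G) P) (pt M) F) :
    ∃ i j : Pt M, i ≠ j ∧ Perf (zl (S : Subgroup G) P) (pt M) i j := by
  obtain ⟨i, hR⟩ := h.exists_pt
  obtain ⟨j, hij⟩ := h.exists_ne_pt i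
  obtain ⟨v, w1, w2, c⟩ := h.exists_coord hij
  obtain ⟨t, τ⟩ := h.exists_torD c
  exact ⟨i, j, hij, (hl i j hij v w1 w2 t c τ S h.le_N hR).perf h.bt hij⟩

theorem semi_of_lay (hl : LayAll (zl (S : Subgroup G) P) (pt M) F) :
    SemiOut (zl (S : Subgroup G) P) (pt M) := by
  obtain ⟨i, j, hij, hp⟩ := h.perf_of_lay hl
  exact h.semi hij hp

end Sit

/-- THEOREM ALL, from helper221's `All.sup_eq_top` and helper942's `All.mixed` -/
theorem allP : AllP.{u} := by
  intro G _ _ S P g F _ _ _ M h hsemi hcen hti i Y hV hR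
  exact h.genVR hsemi hcen hti i hV hR

/-- A simple group with a BN-pair is known. -/
theorem known_of_hasBN (h43 : Exits.St1143.{u}) (h44 : Exits.St1144.{u}) {X : Type u} [Group X] [Finite X]
    [IsSimpleGroup X] (h : HasBN X) : IsKnownSimple' X := by
  rcases h with ⟨B, h1, h2⟩ | ⟨B, h1, h2⟩
  · exact Exits.known_lie (h43 X B h1 h2)
  · exact Exits.known_lie (h44 X B h1 h2)

theorem known_of_gZero (h43 : Exits.St1143.{u}) (h44 : Exits.St1144.{u}) {G : Type u} [Group G] [Finite G]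
    (hG : Ctx G) {ι : Type*} {V : Subgroup G} {R : ι → Subgroup G} (hgen : GenVR V R) (h : GZero V R) :
    IsKnownSimple' G := by
  have hs := hG.simple
  obtain ⟨i, G₀, hne, h1, h2, hBN⟩ := h
  have h3 : G₀.Normal := normalizer_eq_top_iff.mp (hgen i _ h1 h2)
  have h4 : G₀ = ⊤ := h3.eq_bot_or_eq_top.resolve_left hne
  have e : ↥G₀ ≃* G := (MulEquiv.subgroupCongr h4).trans Subgroup.topEquiv
  have hs' : IsSimpleGroup ↥G₀ := OddHalf.Known.isSimple_congr e.symm hs
  exact OddHalf.Known.isKnownSimple'_congr e (Exits.not_comm_congr e.symm hG.nonComm)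
    (known_of_hasBN h43 h44 hBN)

/-- **The leaf II.a, `q ≥ 4`.** -/
theorem leafA4_of {K : Cls.{u}} (h43 : Exits.St1143.{u}) (h44 : Exits.St1144.{u}) (hlay : LayP K)
    (hse : SEP K) (htir : TIRP.{u}) (hbn : LieBNP K) : LeafA4 K := by
  intro G _ _ hG hK S hF hLE hAF P g hmin F _ _ _ M h4
  have h : Sit S P g M := ⟨hG, hF, hLE, hAF, hmin, h4⟩
  have hl := hlay G hK S P g F M h
  have hsemi := h.semi_of_lay hl
  have hcen := hse G hK S P g F M h hl hsemi
  have hti := htir G S P g F M h hsemi hcen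
  rcases hbn G hK S P g F M h hl hsemi hcen hti with h1 | h1
  · exact known_of_gZero h43 h44 hG (allP G S P g F M h hsemi hcen hti) h1
  · exact h1

end Cfsg.Agent.Omega.IIa4
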