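import Cfsg.Agent.Omega.Node.NO1
import Cfsg.Agent.Omega.NO1.Tens.Plug
import Cfsg.Agent.Omega.NO1.Tens.GinOne
import Cfsg.Agent.Omega.NO1.Gamma.Out
import Cfsg.Agent.Omega.NO1.Gamma.Final
import Cfsg.Agent.Omega.All.NOne.Top

/-!
# `EndPlusQ`: type (γ) of the leaf N1 (= NO-1'), `q ≥ 4` (text: bb OMEGA #15588; cut: helper983)

* `exists_gin1` : `Cfg S P`, `PlusQ F P V` (`|F| ≥ 4`, `|V/E| ≥ 4`) give `Gamma.Gin1` (914, 198, 983); no open input;
* `ExtPlus` : `All.NOne.Ext` for type (γ) (owner: helper869, helper647);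
* `Hty` : the cores of all `P' ∈ P*(S)` with `V_{P'} ≰ Q` (owner: helper940, helper177);
* `false_of`, `endPlusQ_of` : the end is a contradiction (321: `Gin.pout`; 749: `Bip.false`; 983).
-/

set_option autoImplicit false
set_option linter.unusedSectionVars false

namespace Cfsg.Agent.Omega.NO1.EndP

open Subgroup Cfsg Cfsg.Agent.ZN Cfsg.Agent.Omega.MinPar Cfsg.Agent.Omega.Frame
open Cfsg.Agent.Omega.NO1.Beta.Meet (cj mem_cj cj_of_mem_normalizer)
open Cfsg.Agent.Omega.NO1.BetaPlus (QQ)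
open Cfsg.Agent.Omega.NO1.Gamma

universe u

section pre

variable {G : Type u} [Group G] [Finite G] {S : Sylow 2 G} {P : Subgroup G} {F : Type} [Field F] [Finite F]
  [CharP F 2]

/-- **BETA (γ) in the configuration of N1**: the grid, the coordinates and `Core`. -/
theorem exists_gin1 (h : Cfg S P) (m : PlusQ F P (zl (S : Subgroup G) P)) (h4 : 4 ≤ Nat.card F)
    (hE : 4 ≤ (EE (S : Subgroup G) P).relIndex (zl (S : Subgroup G) P)) :
    ∃ D : PlusQ F (P ⊔ centralizer (zl (S : Subgroup G) P : Set G)) (zl (S : Subgroup G) P),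
      Gin1 F S (zl (S : Subgroup G) P) (fun i j => D.R i j) (fun i j => QQ (D.R i j)) none (some 0) none (some 0)
        (fun a b c d => D.v !![a, b; c, d]) D.al D.be := by
  obtain ⟨D, hD, hR, hZ, hC, -⟩ := m.main h h4 hE
  exact ⟨D, hC.gin1 hD.meet S h.V_le_S hD.S_N (fun s hs => (hR s hs).mem_nor) hZ h4⟩

/-- `R` is a TI subgroup. -/
theorem ti_of {T : Type*} [AddCommGroup T] [Module F T] {V R Q X : Subgroup G} {e : F → T → F → G} {N : T → F}
    {B : T → T → F} (c : All.NOne.Core (S : Subgroup G) V R Q X e N B) (hG : IsCharacteristicTwoType G)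
    (hZ : zc (S : Subgroup G) ≠ ⊥) (g : G) (hg : R ⊓ cj g R ≠ ⊥) : cj g R = R := by
  obtain ⟨⟨r, hr⟩, hr1⟩ := ne_bot_iff_exists_ne_one.1 hg
  have hr1' : r ≠ 1 := fun e => hr1 (Subtype.ext e)
  obtain ⟨hrR, hrg⟩ := mem_inf.1 hr
  rw [mem_cj] at hrg
  refine cj_of_mem_normalizer (c.ti S hG hZ hrg (fun h0 => hr1' ?_) ?_)
  · calc r = g * (g⁻¹ * r * g) * g⁻¹ := by group
      _ = 1 := by rw [h0]; group
  · have e : g * (g⁻¹ * r * g) * g⁻¹ = r := by group
    rw [e]; exact hrR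

end pre

/-- **`All.NOne.Ext` for type (γ)**.  Owner: helper869 (`Pair.ext`), helper647 (`OfGamma`). -/
def ExtPlus : Prop :=
  ∀ (G : Type u) [Group G] [Finite G] (F : Type) [Field F] [Finite F] (S : Sylow 2 G) (V : Subgroup G)
    (R Q : Option F → Option F → Subgroup G) (i0 i1 j0 j1 : Option F) (v : F → F → F → F → G) (p p' : G → F),
    Gin1 F S V R Q i0 i1 j0 j1 v p p' → IsCharacteristicTwoType G → zc (S : Subgroup G) ≠ ⊥ →
      ∃ D : Subgroup G, All.NOne.Ext (S : Subgroup G) V (R i0 j0) (Q i0 j0) D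
        (fun a (b : F × F) d => v a b.1 b.2 d)

/-- **All members of `P*(S)` with `V_P ≰ Q` have a core** (`q ≥ 4`), if one of them has one.
Owner: helper940 (small types), helper177 (`minusQ`). -/
def Hty : Prop :=
  ∀ (G : Type u) [Group G] [Finite G] (S : Sylow 2 G), Ctx G → Full (S : Subgroup G) →
    ∀ (F T : Type) [Field F] [AddCommGroup T] [Module F T] (V R Q X : Subgroup G) (e : F → T → F → G)
      (N : T → F) (B : T → T → F), All.NOne.Core (S : Subgroup G) V R Q X e N B →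
      ∀ P : Subgroup G, IsParS (S : Subgroup G) P → ¬ zl (S : Subgroup G) P ≤ o2 (FrameNOFF.CZ (S : Subgroup G)) →
        ∃ (F' T' : Type) (_ : Field F') (_ : AddCommGroup T') (_ : Module F' T') (R' Q' X' : Subgroup G)
          (e' : F' → T' → F' → G) (N' : T' → F') (B' : T' → T' → F'),
          All.NOne.Core (S : Subgroup G) (zl (S : Subgroup G) P) R' Q' X' e' N' B'

/-- **Type (γ), `q ≥ 4`, does not occur.** -/
theorem false_of (hExt : ExtPlus.{u}) (hty : Hty.{u}) {G : Type u} [Group G] [Finite G] {S : Sylow 2 G}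
    {P : Subgroup G} (h : Cfg S P) {F : Type} [Field F] [Finite F] [CharP F 2] (h4 : 4 ≤ Nat.card F)
    (hE : 4 ≤ (EE (S : Subgroup G) P).relIndex (zl (S : Subgroup G) P)) (m : PlusQ F P (zl (S : Subgroup G) P)) :
    False := by
  have hG := h.ctx.char2
  have hZ : zc (S : Subgroup G) ≠ ⊥ := MinSimple.Basic.zc_ne_bot S.isPGroup' (h.ctx.sylow_ne_bot S)
  obtain ⟨D, g1⟩ := exists_gin1 h m h4 hE
  have g0 := g1.gin0 hG hZ
  obtain ⟨E, hEx⟩ := hExt G F S _ _ _ _ _ _ _ _ _ _ g1 hG hZ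
  have := h.ctx.simple
  refine g0.false g0.gin.pout (ti_of g1.core hG hZ) ?_
  exact All.NOne.sup_eq_top S g1.core hG hZ hEx
    (fun P' hP' hV => hty G S h.ctx h.full F (F × F) _ _ _ _ _ _ _ g1.core P' hP' hV) h.full

/-- **`EndPlusQ` from its parts.** -/
theorem endPlusQ_of {K : Cls.{u}} (hExt : ExtPlus.{u}) (hty : Hty.{u}) : EndPlusQ K :=
  fun _ _ _ _ _ h _ _ _ _ _ h4 hE m => (false_of hExt hty h h4 hE m).elim

end Cfsg.Agent.Omega.NO1.EndP
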