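import Cfsg.Agent.Omega.Node.SymG
import Cfsg.Agent.Omega.OM.Lev.UniPlus

/-!
# The dichotomy over the case (L) of GammaFF: `KX = ⟨C_G(Z_J), FF-blocks (L', V') over B with V' ≤ X⟩`

In the case (L) an FF-block `(L', V')` over `B` need not be centralised by `O₂(P)`; only the blocks with
`V' ≤ X = V_P = Ω₁(Z(O₂(P)))` are used.

* `FBX B X`, `KX B ZJ X`; `famX`, `casesX` : the dichotomy; `KX_le` : `KX ≤ KZ`;
* `uniX` : UNI+ over `FrL` for the blocks with `V' ≤ X` (any index type, any `q`); `uniTwoX`, `KX_eq` (`q = 2`):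
  `KX = ⟨C_G(Z_J), L_i⟩`;
* `MulL` : the frame of `CaseL`, `V_P` natural; `exists_mulL`; sockets `OmX K c`, `EX K c`; `multiTwoX_of`, `multiQX_of`;
* `SymL` : the frame of `CaseL`, `V_P` symmetric; `exists_symL`; sockets `OmSX K c`, `ESX K c`; `symX_of`.
-/

set_option autoImplicit false
set_option linter.unusedSectionVars false

namespace Cfsg.Agent.Omega.Node.MulX

open Subgroup Cfsg Cfsg.Agent.ZN.ChoiceBase Cfsg.Agent.ZN.ChoiceSit
open Cfsg.Agent.ZN (jj zj bau zc zl o2)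
open Cfsg.Agent.Omega.FFThm (NatK NatKM SymKM)
open Cfsg.Agent.Omega.FrameFF (cv)
open Cfsg.Agent.Omega.NO3S (HypF HypN Hyp FrP CaseLP MultiTwoH MultiQH SymTwoH SymBigH SymManyH)
open Cfsg.Agent.Omega.NO3S.Level (lev nxt Lev BO CaseL)
open Cfsg.Agent.Omega.Frame (Cls)
open Cfsg.Agent.Omega.NO3S.EThree.Frame (Bg Fg)
open Cfsg.Agent.Omega.OM
open Cfsg.Agent.Omega.OM.LevD (LB)
open Cfsg.Agent.Omega.OM.Uni
open Cfsg.Agent.Omega.OM.Lev.Uni (FrL)
open Cfsg.Agent.Omega.Node.MultiOf Cfsg.Agent.Omega.Node.MulG Cfsg.Agent.Omega.Node.SymG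

universe u

/-! ### The blocks in `X` -/

section blocks

variable {G : Type u} [Group G]

/-- the FF-blocks over `B` with module in `X` -/
def FBX (B X L V : Subgroup G) : Prop := FBl B L V ∧ V ≤ X

/-- `⟨C_G(Z_J), FF-blocks over B with module in X⟩` -/
def KX (B ZJ X : Subgroup G) : Subgroup G := LevD.K0 ZJ (FBX B X)

theorem KX_le {B ZJ X : Subgroup G} : KX B ZJ X ≤ KZ B ZJ :=
  sup_le LevD.cent_le_K0 (iSup_le fun i => LevD.blk_le_K0 (𝓑 := FBl B) i.2.1)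

theorem cent_le {B ZJ X : Subgroup G} : centralizer (ZJ : Set G) ≤ KX B ZJ X := LevD.cent_le_K0

theorem blk_le {B ZJ X L V : Subgroup G} (h : FBX B X L V) : L ≤ KX B ZJ X := LevD.blk_le_K0 h

variable [Finite G] {S : Sylow 2 G} {K B ZJ X : Subgroup G} {ι : Type} {L W : ι → Subgroup G}

theorem famX (hX : normalizer (B : Set G) ≤ normalizer (X : Set G)) (hb : ∀ i, FBl B (L i) (W i))
    (hW : ∀ i, W i ≤ X) (hZ : ZJ ≤ ⨆ i, W i) : LevD.Fam B ZJ (FBX B X) where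
  blk := fun _ _ h => h.1.blk
  conj := fun n hn _ _ h => ⟨h.1.conj hn, by
    rw [← cj_eq_of_mem_normalizer (hX hn)]; exact cj_mono n h.2⟩
  zj_le := hZ.trans (iSup_le fun i =>
    le_iSup (fun i : {x : Subgroup G × Subgroup G // FBX B X x.1 x.2} => i.1.2) ⟨(L i, W i), hb i, hW i⟩)

/-- **the dichotomy** -/
theorem casesX (hL : LB S K B ZJ) (hF : LevD.Fam B ZJ (FBX B X)) :
    NLoc (KX B ZJ X) ∨ (o2 (KX B ZJ X) ≠ ⊥ ∧ o2 (KX B ZJ X) ≤ B ∧
      KX B ZJ X ⊔ normalizer (B : Set G) ≤ normalizer (o2 (KX B ZJ X) : Set G)) := by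
  by_cases h0 : NLoc (KX B ZJ X)
  · exact Or.inl h0
  · right
    unfold NLoc at h0
    push Not at h0
    obtain ⟨R, hR, hRn, hR1⟩ := h0
    exact LevD.Fam.dich hL hF hR hR1 hRn

end blocks

/-! ### UNI+ -/

section uni

variable {G : Type u} [Group G] [Finite G]

/-- **UNI+ over a level, all FF-blocks over `B` with module in `Ω₁(Z(K₀))`.** -/
theorem uniX {ι : Type*} [Finite ι] (S : Sylow 2 G) {K₀ B Q V X ZJ : Subgroup G} {L W Z C A : ι → Subgroup G}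
    {q : ℕ} (hK : Lev (S : Subgroup G) K₀) (eX : X = zc K₀)
    (eqB : B = (S : Subgroup G) ⊓ centralizer (zc (nxt (S : Subgroup G) K₀) : Set G))
    (h : FrL B Q V X ZJ L W Z C A q) {L' V' : Subgroup G} (h' : FBX B X L' V') :
    ∃ Z', FB B L' V' Z' q ∧ ∃ i, Z' = Z i ∧ UniPlus.NB B L' V' (Z i) q ∧ V' ≤ W i ⊔ ZJ ∧
      (∀ z ∈ ZJ, z ∈ C i ↔ ∀ l ∈ L', l * z = z * l) ∧
        (q = 2 → V' = W i ∧ L' ≤ L i ⊔ centralizer ((W i ⊔ ZJ : Subgroup G) : Set G)) := by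
  obtain ⟨⟨⟨Z', q', hF⟩, hb⟩, hX⟩ := h'
  have hB : IsPGroup 2 B := S.isPGroup'.to_le (eqB ▸ inf_le_left)
  have hWC := Lev.Wc.wc_cent_Lev hK.next eqB
  have hp : ∀ g ∈ normalizer (B : Set G), ∀ j, ∃ k, cj g (Z j) = Z k := by
    intro g hg j
    have h1 := Lev.Wc.norm_B_Lev hK eqB hg
    obtain ⟨k, hk, -⟩ := (h.norm_of hg (by rw [eX]; exact NO3S.Level.normalizer_le_zc _ h1)).2 j
    exact ⟨k, hk⟩
  obtain ⟨rfl, i, hZ, h1⟩ := Lev.UniPlus.uniPlusX h hB hWC hp hF hX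
  exact ⟨Z', hF, i, hZ, h1⟩

/-- **UNI+, `q = 2`.** -/
theorem uniTwoX {ι : Type*} [Finite ι] (S : Sylow 2 G) {K₀ B Q V X ZJ : Subgroup G} {L W Z C A : ι → Subgroup G}
    (hK : Lev (S : Subgroup G) K₀) (eX : X = zc K₀)
    (eqB : B = (S : Subgroup G) ⊓ centralizer (zc (nxt (S : Subgroup G) K₀) : Set G))
    (h : FrL B Q V X ZJ L W Z C A 2) {L' V' : Subgroup G} (h' : FBX B X L' V') :
    ∃ i, V' = W i ∧ L' ≤ L i ⊔ centralizer ((W i ⊔ ZJ : Subgroup G) : Set G) := by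
  obtain ⟨-, -, i, -, -, -, -, h1⟩ := uniX S hK eX eqB h h'
  exact ⟨i, h1 rfl⟩

/-- **`KX = ⟨C_G(Z_J), L_i⟩`**, `q = 2`. -/
theorem KX_eq {ι : Type} [Finite ι] (S : Sylow 2 G) {K₀ B Q V X ZJ : Subgroup G} {L W Z C A : ι → Subgroup G}
    (hK : Lev (S : Subgroup G) K₀) (eX : X = zc K₀)
    (eqB : B = (S : Subgroup G) ⊓ centralizer (zc (nxt (S : Subgroup G) K₀) : Set G))
    (h : FrL B Q V X ZJ L W Z C A 2) (hb : ∀ i, FBl B (L i) (W i)) :
    KX B ZJ X = centralizer (ZJ : Set G) ⊔ ⨆ i, L i := by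
  apply le_antisymm
  · refine sup_le le_sup_left (iSup_le ?_)
    rintro ⟨⟨L', V'⟩, hb'⟩
    obtain ⟨i, -, hle⟩ := uniTwoX S hK eX eqB h hb'
    refine hle.trans (sup_le (le_sup_of_le_right (le_iSup L i)) (le_sup_of_le_left (centralizer_le ?_)))
    exact_mod_cast (le_sup_right : ZJ ≤ W i ⊔ ZJ)
  · exact sup_le cent_le (iSup_le fun i => blk_le ⟨hb i, (h.WV i).trans h.VX⟩)

end uni

/-! ### `CaseL`, natural blocks -/

section nat

variable {G : Type u} [Group G] [Finite G]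

/-- **Several natural blocks in the case (L).** -/
structure MulL (S : Sylow 2 G) (P B ZJ : Subgroup G) {k : ℕ} (L W Z C A : Fin k → Subgroup G) (q : ℕ) : Prop where
  cl : CaseL S P
  eZ : ZJ = zc (nxt (S : Subgroup G) (o2 P))
  eB : B = (S : Subgroup G) ⊓ centralizer (ZJ : Set G)
  bg : Bg S P B ZJ L W Z C q
  fr : FrL B (o2 P) (zl (S : Subgroup G) P) (zl (S : Subgroup G) P) ZJ L W Z C A q
  nat : ∃ (F : Type) (_ : Field F) (_ : Finite F) (_ : CharP F 2), Nat.card F = q ∧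
    Nonempty (NatKM F (S : Subgroup G) P (zl (S : Subgroup G) P) (cv (S : Subgroup G) P) k)

theorem exists_mulL {S : Sylow 2 G} {P : Subgroup G} (h : CaseL S P) {F : Type} [Field F] [Finite F]
    [CharP F 2] {k : ℕ} (hk : 2 ≤ k)
    (N : NatKM F (S : Subgroup G) P (zl (S : Subgroup G) P) (cv (S : Subgroup G) P) k) :
    ∃ (B ZJ : Subgroup G) (L W Z C A : Fin k → Subgroup G), MulL S P B ZJ L W Z C A (Nat.card F) := by
  obtain ⟨M, L, Z, A, -, hF, hB, -⟩ := Lev.Main.bg_K h.hypN h.levQ le_rfl (exists_BO_caseL h) hk N rfl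
  rw [h.zc_eq] at hF
  exact ⟨_, _, L, _, Z, _, A, h, rfl, rfl, hB, hF, F, inferInstance, inferInstance, inferInstance, rfl, ⟨N⟩⟩

namespace MulL

variable {S : Sylow 2 G} {P B ZJ : Subgroup G} {k : ℕ} {L W Z C A : Fin k → Subgroup G} {q : ℕ}
  (h : MulL S P B ZJ L W Z C A q)
include h

theorem toG : MulG S P (nxt (S : Subgroup G) (o2 P)) B ZJ L W Z C q := by
  obtain ⟨h1, rfl, rfl, h2, -, h3⟩ := h
  exact ⟨h1.hypF, StgG.lev _ (top_caseL h1), h2, h3⟩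

theorem lb : LB S (nxt (S : Subgroup G) (o2 P)) B ZJ := h.toG.lb

theorem eqB : B = (S : Subgroup G) ⊓ centralizer (zc (nxt (S : Subgroup G) (o2 P)) : Set G) := by
  rw [h.eB, h.eZ]

theorem fbx (i : Fin k) : FBX B (zl (S : Subgroup G) P) (L i) (W i) := ⟨h.toG.fbl i, h.fr.WV i⟩

/-- `N_G(B) ≤ N_G(V_P)` -/
theorem norm_le : normalizer (B : Set G) ≤ normalizer (zl (S : Subgroup G) P : Set G) :=
  h.cl.norm_le h.fr.QB (h.eB.trans_le inf_le_left)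

theorem fam : LevD.Fam B ZJ (FBX B (zl (S : Subgroup G) P)) :=
  famX h.norm_le h.toG.fbl h.fr.WV (h.fr.ZJV.trans (Fg_V_le h.bg.fr))

/-- **the dichotomy** -/
theorem cases : NLoc (KX B ZJ (zl (S : Subgroup G) P)) ∨ (o2 (KX B ZJ (zl (S : Subgroup G) P)) ≠ ⊥ ∧
    o2 (KX B ZJ (zl (S : Subgroup G) P)) ≤ B ∧
    KX B ZJ (zl (S : Subgroup G) P) ⊔ normalizer (B : Set G) ≤
      normalizer (o2 (KX B ZJ (zl (S : Subgroup G) P)) : Set G)) := casesX h.lb h.fam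

theorem uni {L' V' : Subgroup G} (h' : FBX B (zl (S : Subgroup G) P) L' V') :
    ∃ Z', FB B L' V' Z' q ∧ ∃ i, Z' = Z i ∧ UniPlus.NB B L' V' (Z i) q ∧ V' ≤ W i ⊔ ZJ ∧
      (∀ z ∈ ZJ, z ∈ C i ↔ ∀ l ∈ L', l * z = z * l) ∧
        (q = 2 → V' = W i ∧ L' ≤ L i ⊔ centralizer ((W i ⊔ ZJ : Subgroup G) : Set G)) := by
  exact uniX S h.cl.levQ h.cl.zc_eq.symm h.eqB h.fr h'

end MulL

/-- **`KX = ⟨C_G(Z_J), L_i⟩`**, `q = 2`. -/
theorem MulL.KX_eq {S : Sylow 2 G} {P B ZJ : Subgroup G} {k : ℕ} {L W Z C A : Fin k → Subgroup G}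
    (h : MulL S P B ZJ L W Z C A 2) :
    KX B ZJ (zl (S : Subgroup G) P) = centralizer (ZJ : Set G) ⊔ ⨆ i, L i := by
  exact MulX.KX_eq S h.cl.levQ h.cl.zc_eq.symm h.eqB h.fr h.toG.fbl

end nat

/-! ### `CaseL`, symmetric blocks -/

section sym

variable {G : Type u} [Group G] [Finite G]

/-- **Symmetric blocks in the case (L).** -/
structure SymL (S : Sylow 2 G) (P B ZJ : Subgroup G) {ι : Type} (L W Z C A : ι → Subgroup G) (k m : ℕ) : Prop where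
  cl : CaseL S P
  eZ : ZJ = zc (nxt (S : Subgroup G) (o2 P))
  eB : B = (S : Subgroup G) ⊓ centralizer (ZJ : Set G)
  sym : Nonempty (SymKM (S : Subgroup G) P (zl (S : Subgroup G) P) (cv (S : Subgroup G) P) k m)
  fr : FrL B (o2 P) (zl (S : Subgroup G) P) (zl (S : Subgroup G) P) ZJ L W Z C A 2
  fin : Finite ι
  two : ∀ i : ι, ∃ j, j ≠ i

theorem exists_symL {S : Sylow 2 G} {P : Subgroup G} (h : CaseL S P) {k m : ℕ} (hk : 0 < k) (hm : 2 ≤ m)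
    (N : SymKM (S : Subgroup G) P (zl (S : Subgroup G) P) (cv (S : Subgroup G) P) k m) :
    ∃ (B ZJ : Subgroup G) (ι : Type) (L W Z C A : ι → Subgroup G), SymL S P B ZJ L W Z C A k m := by
  obtain ⟨ι, hι, W, d, t, r, L, A, -, -, -, -, h2, hF⟩ := Lev.Sym.exists_sym_lev FF.Glob.ffthmM
    h.ctx.char2 h.pss.par h.levQ le_rfl h.hypN.toHyp.inf_eq_bot (exists_BO_caseL h) hk hm N
  rw [h.zc_eq] at hF
  exact ⟨_, _, ι, L, W, _, _, A, h, rfl, rfl, ⟨N⟩, hF, hι, h2⟩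

namespace SymL

variable {S : Sylow 2 G} {P B ZJ : Subgroup G} {ι : Type} {L W Z C A : ι → Subgroup G} {k m : ℕ}
  (h : SymL S P B ZJ L W Z C A k m)
include h

theorem toG : MulSG S P (nxt (S : Subgroup G) (o2 P)) B ZJ L W Z C k m := by
  obtain ⟨h1, rfl, rfl, h2, h3, h4, h5⟩ := h
  exact ⟨h1.hypF, StgG.lev _ (top_caseL h1), h2, Lev.Main.toFg h3, h4, h5⟩

theorem lb : LB S (nxt (S : Subgroup G) (o2 P)) B ZJ := h.toG.lb

theorem eqB : B = (S : Subgroup G) ⊓ centralizer (zc (nxt (S : Subgroup G) (o2 P)) : Set G) := by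
  rw [h.eB, h.eZ]

theorem fbx (i : ι) : FBX B (zl (S : Subgroup G) P) (L i) (W i) := ⟨h.toG.fbl i, h.fr.WV i⟩

theorem norm_le : normalizer (B : Set G) ≤ normalizer (zl (S : Subgroup G) P : Set G) :=
  h.cl.norm_le h.fr.QB (h.eB.trans_le inf_le_left)

theorem fam : LevD.Fam B ZJ (FBX B (zl (S : Subgroup G) P)) := by
  have := h.fin
  exact famX h.norm_le h.toG.fbl h.fr.WV (h.fr.ZJV.trans (Fg_V_le h.toG.fr))

/-- **the dichotomy** -/
theorem cases : NLoc (KX B ZJ (zl (S : Subgroup G) P)) ∨ (o2 (KX B ZJ (zl (S : Subgroup G) P)) ≠ ⊥ ∧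
    o2 (KX B ZJ (zl (S : Subgroup G) P)) ≤ B ∧
    KX B ZJ (zl (S : Subgroup G) P) ⊔ normalizer (B : Set G) ≤
      normalizer (o2 (KX B ZJ (zl (S : Subgroup G) P)) : Set G)) := casesX h.lb h.fam

/-- **`KX = ⟨C_G(Z_J), L_i⟩`** -/
theorem KX_eq : KX B ZJ (zl (S : Subgroup G) P) = centralizer (ZJ : Set G) ⊔ ⨆ i, L i := by
  have := h.fin
  exact MulX.KX_eq S h.cl.levQ h.cl.zc_eq.symm h.eqB h.fr h.toG.fbl

end SymL

end sym

/-! ### Sockets -/

section sockets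

variable (K : Cls.{u}) (c : ℕ → ℕ → Prop)

/-- **(Om)**, case (L), natural blocks, for the `(k, q)` with `c k q`. -/
def OmX : Prop :=
  ∀ (G : Type u) [Group G] [Finite G], K G → ∀ (S : Sylow 2 G) (P B ZJ : Subgroup G) (k : ℕ)
    (L W Z C A : Fin k → Subgroup G) (q : ℕ), 2 ≤ k → c k q → MulL S P B ZJ L W Z C A q →
      o2 (KX B ZJ (zl (S : Subgroup G) P)) ≠ ⊥ → o2 (KX B ZJ (zl (S : Subgroup G) P)) ≤ B →
      KX B ZJ (zl (S : Subgroup G) P) ⊔ normalizer (B : Set G) ≤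
        normalizer (o2 (KX B ZJ (zl (S : Subgroup G) P)) : Set G) → IsKnownSimple' G

/-- **(E)**, case (L), natural blocks, for the `(k, q)` with `c k q`. -/
def EX : Prop :=
  ∀ (G : Type u) [Group G] [Finite G], K G → ∀ (S : Sylow 2 G) (P B ZJ : Subgroup G) (k : ℕ)
    (L W Z C A : Fin k → Subgroup G) (q : ℕ), 2 ≤ k → c k q → MulL S P B ZJ L W Z C A q →
      NLoc (KX B ZJ (zl (S : Subgroup G) P)) → IsKnownSimple' G

/-- **(Om)**, case (L), symmetric blocks, for the `(k, m)` with `c k m`. -/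
def OmSX : Prop :=
  ∀ (G : Type u) [Group G] [Finite G], K G → ∀ (S : Sylow 2 G) (P B ZJ : Subgroup G) (ι : Type)
    (L W Z C A : ι → Subgroup G) (k m : ℕ), 0 < k → 2 ≤ m → c k m → SymL S P B ZJ L W Z C A k m →
      o2 (KX B ZJ (zl (S : Subgroup G) P)) ≠ ⊥ → o2 (KX B ZJ (zl (S : Subgroup G) P)) ≤ B →
      KX B ZJ (zl (S : Subgroup G) P) ⊔ normalizer (B : Set G) ≤
        normalizer (o2 (KX B ZJ (zl (S : Subgroup G) P)) : Set G) → IsKnownSimple' G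

/-- **(E)**, case (L), symmetric blocks, for the `(k, m)` with `c k m`. -/
def ESX : Prop :=
  ∀ (G : Type u) [Group G] [Finite G], K G → ∀ (S : Sylow 2 G) (P B ZJ : Subgroup G) (ι : Type)
    (L W Z C A : ι → Subgroup G) (k m : ℕ), 0 < k → 2 ≤ m → c k m → SymL S P B ZJ L W Z C A k m →
      NLoc (centralizer (ZJ : Set G) ⊔ ⨆ i, L i) → IsKnownSimple' G

end sockets

variable {K : Cls.{u}}

theorem known_of {c : ℕ → ℕ → Prop} (hO : OmX K c) (hE : EX K c) (G : Type u) [Group G] [Finite G] (hK : K G)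
    (S : Sylow 2 G) (P : Subgroup G) (h : CaseL S P) (F : Type) [Field F] [Finite F] [CharP F 2] (k : ℕ) (hk : 2 ≤ k)
    (hc : c k (Nat.card F))
    (N : NatKM F (S : Subgroup G) P (zl (S : Subgroup G) P) (cv (S : Subgroup G) P) k) : IsKnownSimple' G := by
  obtain ⟨B, ZJ, L, W, Z, C, A, hM⟩ := exists_mulL h hk N
  rcases hM.cases with h1 | ⟨h1, h2, h3⟩
  · exact hE G hK S P B ZJ k L W Z C A _ hk hc hM h1
  · exact hO G hK S P B ZJ k L W Z C A _ hk hc hM h1 h2 h3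

/-- **`MultiTwoH K CaseLP`.** -/
theorem multiTwoX_of (hO : OmX K fun _ q => q = 2) (hE : EX K fun k q => k = 2 ∧ q = 2)
    (hE' : EX K fun k q => 3 ≤ k ∧ q = 2) : MultiTwoH K CaseLP := by
  intro G _ _ hK S P h F _ _ _ k hk hq N
  refine known_of (c := fun _ q => q = 2) hO ?_ G hK S P h F k hk hq N
  intro G _ _ hK S P B ZJ k L W Z C A q hk hq hM hN
  rcases Nat.lt_or_ge k 3 with hk3 | hk3
  · exact hE G hK S P B ZJ k L W Z C A q hk ⟨by omega, hq⟩ hM hN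
  · exact hE' G hK S P B ZJ k L W Z C A q hk ⟨hk3, hq⟩ hM hN

/-- **`MultiQH K CaseLP`.** -/
theorem multiQX_of (hO : OmX K fun _ q => 4 ≤ q) (hE : EX K fun k q => k = 2 ∧ 4 ≤ q)
    (hE' : EX K fun k q => 3 ≤ k ∧ 4 ≤ q) : MultiQH K CaseLP := by
  intro G _ _ hK S P h F _ _ _ k hk hq N
  refine known_of (c := fun _ q => 4 ≤ q) hO ?_ G hK S P h F k hk hq N
  intro G _ _ hK S P B ZJ k L W Z C A q hk hq hM hN
  rcases Nat.lt_or_ge k 3 with hk3 | hk3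
  · exact hE G hK S P B ZJ k L W Z C A q hk ⟨by omega, hq⟩ hM hN
  · exact hE' G hK S P B ZJ k L W Z C A q hk ⟨hk3, hq⟩ hM hN

theorem knownS_of {c : ℕ → ℕ → Prop} (hO : OmSX K c) (hE : ESX K c) (G : Type u) [Group G] [Finite G] (hK : K G)
    (S : Sylow 2 G) (P : Subgroup G) (h : CaseL S P) (k m : ℕ) (hk : 0 < k) (hm : 2 ≤ m) (hc : c k m)
    (N : SymKM (S : Subgroup G) P (zl (S : Subgroup G) P) (cv (S : Subgroup G) P) k m) : IsKnownSimple' G := by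
  obtain ⟨B, ZJ, ι, L, W, Z, C, A, hM⟩ := exists_symL h hk hm N
  rcases hM.cases with h1 | ⟨h1, h2, h3⟩
  · exact hE G hK S P B ZJ ι L W Z C A _ _ hk hm hc hM (hM.KX_eq ▸ h1)
  · exact hO G hK S P B ZJ ι L W Z C A _ _ hk hm hc hM h1 h2 h3

/-- **`SymTwoH K CaseLP`** -/
theorem symTwoX_of (hO : OmSX K fun k m => k = 1 ∧ m = 2) (hE : ESX K fun k m => k = 1 ∧ m = 2) :
    SymTwoH K CaseLP := by
  intro G _ _ hK S P h N
  exact knownS_of (c := fun k m => k = 1 ∧ m = 2) hO hE G hK S P h 1 2 one_pos le_rfl ⟨rfl, rfl⟩ N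

/-- **`SymBigH K CaseLP`** -/
theorem symBigX_of (hO : OmSX K fun k m => k = 1 ∧ 3 ≤ m) (hE : ESX K fun k m => k = 1 ∧ 3 ≤ m) :
    SymBigH K CaseLP := by
  intro G _ _ hK S P h m hm N
  exact knownS_of (c := fun k m => k = 1 ∧ 3 ≤ m) hO hE G hK S P h 1 m one_pos (by omega) ⟨rfl, hm⟩ N

/-- **`SymManyH K CaseLP`** -/
theorem symManyX_of (hO : OmSX K fun k _ => 2 ≤ k) (hE : ESX K fun k _ => 2 ≤ k) : SymManyH K CaseLP := by
  intro G _ _ hK S P h k m hk hm N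
  exact knownS_of (c := fun k _ => 2 ≤ k) hO hE G hK S P h k m (by omega) hm hk N

end Cfsg.Agent.Omega.Node.MulX
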