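import Cfsg.Agent.Omega.NO3S.Basic
import Cfsg.Agent.Classification.TitsFin.Defs

/-!
# The leaf NO-3S from its parts (project OMEGA, assembler: helper172)

The leaf is `FrameNOFF.NodeNO3S K` (`Omega/FrameNOFF.lean`): NOFF, `V_P ≤ O₂(C_G(Z))` for all `P ∈ P*(S)`,
`⟨P, C_G(Z)⟩` nonlocal.  `K` is the class parameter of `Frame.lean` (`Frame.All` for the even half, `StrQ` for
SQT).  Every input is a named `Prop` below, with its owner in the doc string; `In K` collects them,
`In.node : In K → NodeNO3S K`; the inputs which are still open are the fields of `Open K`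
(`Node/NO3SPlug.lean`).

`P** =` the members `P` of `P*(S)` with `⟨P, C_G(Z)⟩` nonlocal.

```
NodeNO3S
├── Two        some P in P** has |V_P| = 4                  (q = 2; hypothesis `Hyp` only: also EXIT N2)
│   ├── TwoFar n ≥ 3 impossible        ├── TwoMid n = 2 impossible
│   └── TwoOne n = 1   ├── TwoOneFin   the final configuration `FinHyp`      └── TitsIso
├── some P in P** has J(S) ≰ O₂(P)  (`HypJ S P`)
│   ├── NatQ       V_P natural SL₂(q), q ≥ 4
│   │   ├── Fld    |Z| ≠ q (field automorphisms in S)      ├── UniqQ  |Z| = q: P is the only line type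
│   │   ├── FarQ   n ≥ 3 impossible        ├── MidQ   n = 2 impossible      └── OneQ    n = 1: ²F₄(q)
│   └── Multi      V_P not natural SL₂(q)
│       ├── MultiTwo  k ≥ 2 naturals, q = 2        ├── MultiQ  k ≥ 2 naturals, q ≥ 4
│       └── MultiSym  even-subset modules: SymTwo (k = 1, m = 2), SymBig (k = 1, m ≥ 3), SymMany (k ≥ 2)
└── all P in P** have J(S) ≤ O₂(P)  (`HypC S`)
    ├── NotFF      no V_P, P in P**, is an FF-module
    └── FFJ        some V_P, P in P**, is an FF-module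
```
-/

set_option autoImplicit false

namespace Cfsg.Agent.Omega.NO3S

open Subgroup Cfsg Cfsg.Agent.ZN Cfsg.Agent.Omega.MinPar Cfsg.Agent.Omega.Frame Cfsg.Agent.Omega.FrameNOFF
open Cfsg.Agent.Omega.FrameFF (NatOver cv Single Free)
open Cfsg.Agent.Omega.FFThm (Stmt NatK SymK)
open Cfsg.Agent.Omega.NoFF.Lines Cfsg.Agent.Omega.NatPair
open Cfsg.Agent.MinSimple.VModule
open Cfsg.Agent.Classification.TitsFin (FinHyp)
open scoped Pointwise

universe u

variable (K : Cls.{u})

/-! ### Level 1 -/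

/-- **NO-3S, `q = 2`**: `|V_P| = 4`; only `Hyp` (nothing about the other members of `P*(S)`), because it is also
the target of "EXIT N2" of case FF (#12838, #12859; use `Hyp.of_four`). -/
def Two : Prop :=
  ∀ (G : Type u) [Group G] [Finite G], K G → ∀ (S : Sylow 2 G) (P : Subgroup G), Hyp S P →
    Nat.card (zl (S : Subgroup G) P) = 4 → IsKnownSimple' G

/-- **NO-3S, natural, `q ≥ 4`, `J(S) ≰ O₂(P)`**. -/
def NatQ : Prop :=
  ∀ (G : Type u) [Group G] [Finite G], K G → ∀ (S : Sylow 2 G) (P : Subgroup G), HypJ S P →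
    ∀ (F : Type) [Field F] [Finite F] [CharP F 2], 4 ≤ Nat.card F →
      NatP F (zl (S : Subgroup G) P) P → IsKnownSimple' G

/-- **NO-3S, not natural, `J(S) ≰ O₂(P)`** (`k ≥ 2` blocks or `S_{2^m+1}`). -/
def Multi : Prop :=
  ∀ (G : Type u) [Group G] [Finite G], K G → ∀ (S : Sylow 2 G) (P : Subgroup G), HypJ S P →
    ¬ Single (S : Subgroup G) P → IsKnownSimple' G

/-- **NO-3S, `J(S) ≤ O₂(P)` for all `P ∈ P**`**. -/
def JC : Prop :=
  ∀ (G : Type u) [Group G] [Finite G], K G → ∀ S : Sylow 2 G, HypC S → IsKnownSimple' G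

variable {K}

theorem card_field {F : Type*} [Field F] [Finite F] [CharP F 2] : ∃ n, 1 ≤ n ∧ Nat.card F = 2 ^ n := by
  have : Fintype F := Fintype.ofFinite F
  obtain ⟨k, -, hk⟩ := FiniteField.card F 2
  exact ⟨k, k.pos, by rw [Nat.card_eq_fintype_card, hk]⟩

theorem card_field' {F : Type*} [Field F] [Finite F] [CharP F 2] : Nat.card F = 2 ∨ 4 ≤ Nat.card F := by
  obtain ⟨n, hn, h⟩ := card_field (F := F)
  rcases Nat.lt_or_ge n 2 with h1 | h1
  · left
    have : n = 1 := by omega
    rw [h, this, pow_one]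
  · right
    rw [h]
    calc 4 = 2 ^ 2 := by norm_num
      _ ≤ 2 ^ n := Nat.pow_le_pow_right (by norm_num) h1

/-- **The leaf from level 1.** -/
theorem nodeNO3S (h1 : Two K) (h2 : NatQ K) (h3 : Multi K) (h4 : JC K) : NodeNO3S K := by
  intro G _ _ hG hK S hF hm hlow hex
  by_cases hfour : ∃ P : Subgroup G, IsParS (S : Subgroup G) P ∧ NonLoc P (CZ (S : Subgroup G)) ∧
      Nat.card (zl (S : Subgroup G) P) = 4
  · obtain ⟨P, hP, hn, hc⟩ := hfour
    exact h1 G hK S P (Hyp.of hG hF hm hlow hP hn) hc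
  push Not at hfour
  by_cases hJ : ∃ P : Subgroup G, IsParS (S : Subgroup G) P ∧ NonLoc P (CZ (S : Subgroup G)) ∧
      ¬ jj (S : Subgroup G) ≤ o2 P
  · obtain ⟨P, hP, hn, hj⟩ := hJ
    have h : HypJ S P := ⟨HypN.of hG hF hm hlow hP hn, hj⟩
    by_cases hN : Single (S : Subgroup G) P
    · obtain ⟨F, _, _, _, ⟨M⟩⟩ := h.toHyp.exists_natP hN
      refine h2 G hK S P h F ?_ M
      rcases card_field' (F := F) with h5 | h5
      · exact absurd (by rw [M.card, h5]; norm_num) (hfour P hP hn)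
      · exact h5
    · exact h3 G hK S P h hN
  · push Not at hJ
    exact h4 G hK S ⟨hG, hF, hm, hlow, hex, hfour, hJ⟩

/-! ### Level 2, `q = 2` -/

variable (K)

/-- `q = 2`, critical distance `n ≥ 3`: impossible. Paper: helper292 #13844 (refereed by helper438; helper263
#12025, helper557 #14156) with (F1) = helper299 #12132; Lean: helper127, 293, 210, 441, 784, 451. -/
def TwoFar : Prop :=
  ∀ (G : Type u) [Group G] [Finite G], K G → ∀ (S : Sylow 2 G) (P : Subgroup G), Hyp S P →
    Nat.card (zl (S : Subgroup G) P) = 4 →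
      ∀ (n : ℕ) (y : G), 3 ≤ n → CritP (S : Subgroup G) P n 1 y → IsKnownSimple' G

/-- `q = 2`, critical distance `n = 2`: impossible. Owners: helper986, 424, 804, 502; Lean: helper740, 701. -/
def TwoMid : Prop :=
  ∀ (G : Type u) [Group G] [Finite G], K G → ∀ (S : Sylow 2 G) (P : Subgroup G), Hyp S P →
    Nat.card (zl (S : Subgroup G) P) = 4 →
      ∀ y : G, CritP (S : Subgroup G) P 2 1 y → IsKnownSimple' G

/-- `q = 2`, critical distance `n = 1`: the Tits group. -/
def TwoOne : Prop :=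
  ∀ (G : Type u) [Group G] [Finite G], K G → ∀ (S : Sylow 2 G) (P : Subgroup G), Hyp S P →
    Nat.card (zl (S : Subgroup G) P) = 4 →
      ∀ y : G, CritP (S : Subgroup G) P 1 1 y → IsKnownSimple' G

/-- `q = 2`, critical distance `n = 1`: the final configuration of the Tits group (all other modules
`W / Z` are impossible). Paper: helper881 #12858, #13700; helper311 #13963; helper986, 424; end: helper55
#12700. Lean: helper391, 862, 568, 539, 204, 409, 312, 258. -/
def TwoOneFin : Prop :=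
  ∀ (G : Type u) [Group G] [Finite G], K G → ∀ (S : Sylow 2 G) (P : Subgroup G), Hyp S P →
    Nat.card (zl (S : Subgroup G) P) = 4 →
      ∀ y : G, CritP (S : Subgroup G) P 1 1 y → (∃ z p : G, FinHyp z p) ∨ IsKnownSimple' G

/-- The final configuration gives the Tits group. LANDED (`Omega/TitsIso/MainIso.lean`). -/
def TitsIso : Prop :=
  ∀ (G : Type u) [Group G] [Finite G], IsSimpleGroup G → IsCharacteristicTwoType G →
    ∀ z p : G, FinHyp z p → Lie.IsoTits G

variable {K}

theorem two (h1 : TwoFar K) (h2 : TwoMid K) (h3 : TwoOne K) : Two K := by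
  intro G _ _ hK S P h hc
  obtain ⟨n, hn, y, hy⟩ := h.exists_crit
  rcases Nat.lt_or_ge n 3 with h4 | h4
  · interval_cases n
    · exact h3 G hK S P h hc y hy
    · exact h2 G hK S P h hc y hy
  · exact h1 G hK S P h hc n y h4 hy

theorem IsKnownSimple'.of_tits {G : Type*} [Group G] (h : Lie.IsoTits G) : IsKnownSimple' G := by
  refine Or.inr (Or.inr (Or.inr (Or.inr (Or.inr (Or.inr (Or.inr (Or.inr (Or.inl ?_))))))))
  unfold IsExceptionalLieType
  tauto

theorem twoOne (h1 : TwoOneFin K) (h2 : TitsIso.{u}) : TwoOne K := by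
  intro G _ _ hK S P h hc y hy
  rcases h1 G hK S P h hc y hy with ⟨z, p, hf⟩ | h3
  · exact IsKnownSimple'.of_tits (h2 G h.ctx.simple h.ctx.char2 z p hf)
  · exact h3

/-! ### Level 2, `q ≥ 4` -/

variable (K)

/-- `q ≥ 4`, `Z` is not an `F`-line of `V` (field automorphisms in `S`). Owners: helper973 (paper), helper163. -/
def Fld : Prop :=
  ∀ (G : Type u) [Group G] [Finite G], K G → ∀ (S : Sylow 2 G) (P : Subgroup G), HypJ S P →
    ∀ (F : Type) [Field F] [Finite F] [CharP F 2], 4 ≤ Nat.card F →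
      NatP F (zl (S : Subgroup G) P) P → Nat.card (zc (S : Subgroup G)) ≠ Nat.card F → IsKnownSimple' G

/-- `Z` a line: `V_R = V_P` and `C_Z(R) = 1` for all `R ∈ P*(S)`; gives (TI) and (NS). Paper: helper44
#14528 (LEMMA UNIQ); Lean: helper880, 812. -/
def UniqQ : Prop :=
  ∀ (G : Type u) [Group G] [Finite G], K G → ∀ (S : Sylow 2 G) (P : Subgroup G), HypJ S P →
    ∀ (F : Type) [Field F] [Finite F] [CharP F 2], 4 ≤ Nat.card F →
      NatP F (zl (S : Subgroup G) P) P → Nat.card (zc (S : Subgroup G)) = Nat.card F →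
      Uniq (S : Subgroup G) P ∨ IsKnownSimple' G

/-- `q ≥ 4`, `Z` a line, critical distance `n ≥ 3` (points = conjugates of `Z`). Paper: helper263 #12025,
helper44 #13339. Lean: helper127, 49, 471, 694. -/
def FarQ : Prop :=
  ∀ (G : Type u) [Group G] [Finite G], K G → ∀ (S : Sylow 2 G) (P : Subgroup G), HypJ S P →
    ∀ (F : Type) [Field F] [Finite F] [CharP F 2], 4 ≤ Nat.card F →
      NatP F (zl (S : Subgroup G) P) P → Nat.card (zc (S : Subgroup G)) = Nat.card F → Uniq (S : Subgroup G) P →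
      ∀ (n : ℕ) (y : G), 3 ≤ n → CritN (S : Subgroup G) P n 1 y → IsKnownSimple' G

/-- `q ≥ 4`, `Z` a line, critical distance `n = 2`. Owners: helper44, 426, 397; Lean: helper805, 475. -/
def MidQ : Prop :=
  ∀ (G : Type u) [Group G] [Finite G], K G → ∀ (S : Sylow 2 G) (P : Subgroup G), HypJ S P →
    ∀ (F : Type) [Field F] [Finite F] [CharP F 2], 4 ≤ Nat.card F →
      NatP F (zl (S : Subgroup G) P) P → Nat.card (zc (S : Subgroup G)) = Nat.card F → Uniq (S : Subgroup G) P →
      ∀ y : G, CritN (S : Subgroup G) P 2 1 y → IsKnownSimple' G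

/-- `q ≥ 4`, `Z` a line, critical distance `n = 1`: `²F₄(q)`. Owners: helper742, 153 #12862 (down to `Sz(q)`),
helper279 #12906 (from `Sz(q)` to the hypotheses of the recognition theorem), helper382 #13707 (`G = ⟨M, C⟩`).
Lean: helper258, 248, 452, 606, 382. -/
def OneQ : Prop :=
  ∀ (G : Type u) [Group G] [Finite G], K G → ∀ (S : Sylow 2 G) (P : Subgroup G), HypJ S P →
    ∀ (F : Type) [Field F] [Finite F] [CharP F 2], 4 ≤ Nat.card F →
      NatP F (zl (S : Subgroup G) P) P → Nat.card (zc (S : Subgroup G)) = Nat.card F → Uniq (S : Subgroup G) P →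
      ∀ y : G, CritN (S : Subgroup G) P 1 1 y → IsKnownSimple' G

variable {K}

theorem natQ (h0 : Fld K) (h' : UniqQ K) (h1 : FarQ K) (h2 : MidQ K) (h3 : OneQ K) : NatQ K := by
  intro G _ _ hK S P h F _ _ _ hF M
  by_cases hZ : Nat.card (zc (S : Subgroup G)) = Nat.card F
  · rcases h' G hK S P h F hF M hZ with hT | h5
    · obtain ⟨n, hn, y, hy⟩ := h.toHyp.exists_critN
      rcases Nat.lt_or_ge n 3 with h4 | h4
      · interval_cases n
        · exact h3 G hK S P h F hF M hZ hT y hy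
        · exact h2 G hK S P h F hF M hZ hT y hy
      · exact h1 G hK S P h F hF M hZ hT n y h4 hy
    · exact h5
  · exact h0 G hK S P h F hF M hZ

/-! ### Level 2, FF-modules with several blocks (with the FF theorem, `FF/GlobEnd.lean`) -/

variable (K)

/-- `V_P` is the sum of `k ≥ 2` natural `SL₂(2)`-modules. Owners: helper790, 8 (OM1 = #13281, (R7)). -/
def MultiTwo : Prop :=
  ∀ (G : Type u) [Group G] [Finite G], K G → ∀ (S : Sylow 2 G) (P : Subgroup G), HypJ S P →
    ∀ (F : Type) [Field F] [Finite F] [CharP F 2] (k : ℕ), 2 ≤ k → Nat.card F = 2 →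
      NatK F (S : Subgroup G) P (zl (S : Subgroup G) P) (cv (S : Subgroup G) P) k → IsKnownSimple' G

/-- `V_P` is the sum of `k ≥ 2` natural `SL₂(q)`-modules, `q ≥ 4`. Owners: helper4, 997 (#13281 (R6), #14470). -/
def MultiQ : Prop :=
  ∀ (G : Type u) [Group G] [Finite G], K G → ∀ (S : Sylow 2 G) (P : Subgroup G), HypJ S P →
    ∀ (F : Type) [Field F] [Finite F] [CharP F 2] (k : ℕ), 2 ≤ k → 4 ≤ Nat.card F →
      NatK F (S : Subgroup G) P (zl (S : Subgroup G) P) (cv (S : Subgroup G) P) k → IsKnownSimple' G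

/-- `V_P` is the sum of `k ≥ 1` even-subset modules of `S_{2^m+1}`, `m ≥ 2`. -/
def MultiSym : Prop :=
  ∀ (G : Type u) [Group G] [Finite G], K G → ∀ (S : Sylow 2 G) (P : Subgroup G), HypJ S P →
    ∀ k m : ℕ, 0 < k → 2 ≤ m →
      SymK (S : Subgroup G) P (zl (S : Subgroup G) P) (cv (S : Subgroup G) P) k m → IsKnownSimple' G

/-- `MultiSym`, `k = 1`, `m = 2`: `P / C_P(V) = S₅`, `V = O₄⁻(2)`. Owners: helper215 #14965. -/
def SymTwo : Prop :=
  ∀ (G : Type u) [Group G] [Finite G], K G → ∀ (S : Sylow 2 G) (P : Subgroup G), HypJ S P →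
      SymK (S : Subgroup G) P (zl (S : Subgroup G) P) (cv (S : Subgroup G) P) 1 2 → IsKnownSimple' G

/-- `MultiSym`, `k = 1`, `m ≥ 3`. Owner: helper62 (blueprints/OMEGA-NO3S-Sym-helper62.md). -/
def SymBig : Prop :=
  ∀ (G : Type u) [Group G] [Finite G], K G → ∀ (S : Sylow 2 G) (P : Subgroup G), HypJ S P →
    ∀ m : ℕ, 3 ≤ m →
      SymK (S : Subgroup G) P (zl (S : Subgroup G) P) (cv (S : Subgroup G) P) 1 m → IsKnownSimple' G

/-- `MultiSym`, `k ≥ 2`. Owners: helper215, 237, 977. -/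
def SymMany : Prop :=
  ∀ (G : Type u) [Group G] [Finite G], K G → ∀ (S : Sylow 2 G) (P : Subgroup G), HypJ S P →
    ∀ k m : ℕ, 2 ≤ k → 2 ≤ m →
      SymK (S : Subgroup G) P (zl (S : Subgroup G) P) (cv (S : Subgroup G) P) k m → IsKnownSimple' G

variable {K}

theorem multiSym (h1 : SymTwo K) (h2 : SymBig K) (h3 : SymMany K) : MultiSym K := by
  intro G _ _ hK S P h k m hk hm M
  rcases Nat.lt_or_ge k 2 with hk2 | hk2
  · obtain rfl : k = 1 := by omega
    rcases Nat.lt_or_ge m 3 with hm2 | hm2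
    · obtain rfl : m = 2 := by omega
      exact h1 G hK S P h M
    · exact h2 G hK S P h m hm2 M
  · exact h3 G hK S P h k m hk2 hm M

theorem multi (hFF : Stmt.{u}) (h1 : MultiTwo K) (h2 : MultiQ K) (h3 : MultiSym K) : Multi K := by
  intro G _ _ hK S P h hs
  obtain ⟨-, ⟨F, _, _, _, k, hk, ⟨M⟩⟩ | ⟨k, m, hk, hm, ⟨M⟩⟩⟩ := h.ff hFF
  · rcases Nat.lt_or_ge k 2 with hk2 | hk2
    · obtain rfl : k = 1 := by omega
      exact absurd M.single hs
    · rcases card_field' (F := F) with h5 | h5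
      · exact h1 G hK S P h F k hk2 h5 M
      · exact h2 G hK S P h F k hk2 h5 M
  · exact h3 G hK S P h k m hk hm M

/-! ### Level 2, `J(S) ≤ O₂(P)` for all `P ∈ P**` -/

variable (K)

/-- No `V_P`, `P ∈ P**`, is an FF-module. Owners: helper672 (local part), 768, 498, 857, 329, 897, 99 #13645,
706 #14028, 265, 526, 510. -/
def NotFF : Prop :=
  ∀ (G : Type u) [Group G] [Finite G], K G → ∀ S : Sylow 2 G, HypC S →
    (∀ P : Subgroup G, IsParS (S : Subgroup G) P → NonLoc P (CZ (S : Subgroup G)) →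
      ¬ FFMod (S : Subgroup G) P) → IsKnownSimple' G

/-- Some `V_P`, `P ∈ P**`, is an FF-module, but `J(S) ≤ O₂(P)` for all `P ∈ P**` (types of `V_P`:
`FFThm.StmtM`, `Hyp.ff`). Owner: ? (helper163's (G0) #14711, helper4) -/
def FFJ : Prop :=
  ∀ (G : Type u) [Group G] [Finite G], K G → ∀ (S : Sylow 2 G) (P : Subgroup G), HypC S →
    IsParS (S : Subgroup G) P → NonLoc P (CZ (S : Subgroup G)) → FFMod (S : Subgroup G) P → IsKnownSimple' G

variable {K}

theorem jc (h1 : NotFF K) (h2 : FFJ K) : JC K := by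
  intro G _ _ hK S h
  by_cases hf : ∃ P : Subgroup G, IsParS (S : Subgroup G) P ∧ NonLoc P (CZ (S : Subgroup G)) ∧
      FFMod (S : Subgroup G) P
  · obtain ⟨P, hP, hn, hff⟩ := hf
    exact h2 G hK S P h hP hn hff
  · push Not at hf
    exact h1 G hK S h hf

/-! ### The leaf -/

/-- **All the inputs of the leaf**; the proved ones are discharged in `Node/NO3SPlug.lean`
(`Open K`, `Open.toIn`). -/
structure In (K : Cls.{u}) : Prop where
  ff : Stmt.{u}
  twoFar : TwoFar K
  twoMid : TwoMid K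
  twoOneFin : TwoOneFin K
  titsIso : TitsIso.{u}
  fld : Fld K
  uniqQ : UniqQ K
  farQ : FarQ K
  midQ : MidQ K
  oneQ : OneQ K
  multiTwo : MultiTwo K
  multiQ : MultiQ K
  symTwo : SymTwo K
  symBig : SymBig K
  symMany : SymMany K
  notFF : NotFF K
  ffJ : FFJ K

/-- **The leaf.** -/
theorem In.node (I : In K) : NodeNO3S K :=
  nodeNO3S (two I.twoFar I.twoMid (twoOne I.twoOneFin I.titsIso)) (natQ I.fld I.uniqQ I.farQ I.midQ I.oneQ)
    (multi I.ff I.multiTwo I.multiQ (multiSym I.symTwo I.symBig I.symMany)) (jc I.notFF I.ffJ)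

end Cfsg.Agent.Omega.NO3S
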