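import Cfsg.Agent.Omega.Node.MultiOf
import Cfsg.Agent.Omega.NO3S.Level.Gamma

/-!
# The leaves `MultiTwoL`, `MultiQL` of NO-3S over a frame: `HypL` and the case (L) of GammaFF at the same time

`StgG S P K B ZJ` : stage `-1`, or a weakly closed level `K₀` with `K₀ ≤ O₂(R)` for all `R ∈ P*(S)`,
`nxt S K₀ ≰ O₂(P)`: `K = nxt S K₀`, `ZJ = Ω₁(Z(K))`, `B = C_S(ZJ)`. Instances: `K₀ = lev S n` (`HypL`), `K₀ = O₂(P)`
(`CaseL`). `MulG` = `Mul` with `HypF` for `HypL` and `StgG` for `StgP`.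

* `Mul.toG`, `exists_mulG_hypL`, `exists_mulG_caseL`; `MulG.lb/fbl/fam/L_le/cases`;
* sockets `OmOfH K H c`, `EOfH K H c`, `Frm H` (`H` gives `MulG`), `multiTwoH_of`, `multiQH_of`.
-/

set_option autoImplicit false
set_option linter.unusedSectionVars false

namespace Cfsg.Agent.Omega.Node.MulG

open Subgroup Cfsg Cfsg.Agent.ZN.ChoiceBase Cfsg.Agent.ZN.ChoiceSit
open Cfsg.Agent.ZN (jj zj bau zc zl o2)
open Cfsg.Agent.Omega.MinPar (IsParS)
open Cfsg.Agent.Omega.FFThm (NatK NatKM OffM)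
open Cfsg.Agent.Omega.FrameFF (cv)
open Cfsg.Agent.Omega.NO3S (HypL HypF HypN HypJ Hyp PSS FrP CaseLP MultiTwoH MultiQH)
open Cfsg.Agent.Omega.NO3S.Level (lev nxt Lev BO lev_isLev lev_wc wc_nxt CaseL W0 K0)
open Cfsg.Agent.Omega.Frame (Cls)
open Cfsg.Agent.Omega.NO3S.EThree.Frame (Bg Fg)
open Cfsg.Agent.Omega.OM
open Cfsg.Agent.Omega.OM.LevD (LB)
open Cfsg.Agent.Omega.Node.MultiOf

universe u

section defs

variable {G : Type u} [Group G] [Finite G]

/-- **The stage**: a weakly closed level `K₀ ≤ O₂(R)`, `R ∈ P*(S)`, whose next level is not in `O₂(P)`. -/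
structure Top (S : Sylow 2 G) (P K₀ : Subgroup G) : Prop where
  wc : NO3b.Wc.WC (S : Subgroup G) K₀
  lev : Lev (S : Subgroup G) K₀
  all : ∀ R, IsParS (S : Subgroup G) R → K₀ ≤ o2 R
  le : K₀ ≤ o2 P
  nxt : ¬ nxt (S : Subgroup G) K₀ ≤ o2 P

/-- The level `(K, B, Z_J)` of `P`, general form. -/
inductive StgG (S : Sylow 2 G) (P : Subgroup G) : Subgroup G → Subgroup G → Subgroup G → Prop
  | neg (h : ¬ jj (S : Subgroup G) ≤ o2 P) : StgG S P (jj (S : Subgroup G)) (bau (S : Subgroup G)) (zj (S : Subgroup G))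
  | lev (K₀ : Subgroup G) (h : Top S P K₀) : StgG S P (nxt (S : Subgroup G) K₀)
      ((S : Subgroup G) ⊓ centralizer (zc (nxt (S : Subgroup G) K₀) : Set G)) (zc (nxt (S : Subgroup G) K₀))

theorem lb_nxt {S : Sylow 2 G} {K₀ : Subgroup G} (h : NO3b.Wc.WC (S : Subgroup G) K₀) :
    LB S (nxt (S : Subgroup G) K₀) ((S : Subgroup G) ⊓ centralizer (zc (nxt (S : Subgroup G) K₀) : Set G))
      (zc (nxt (S : Subgroup G) K₀)) where
  KB := le_inf (NO3S.Level.nxt_le _ _) (NO3S.Level.le_centralizer_zc _)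
  eqB := rfl
  nrm := fun _ hT hK _ hg =>
    NO3S.Level.normalizer_le_zc _ (mem_normalizer_iff_cj.2 (LevD.norm_of_wc (wc_nxt h) hT hK hg))
  ZK := ZN.zc_le _
  sq := fun _ hz => (mem_zc.1 hz).2.1

theorem StgG.lb {S : Sylow 2 G} {P K B ZJ : Subgroup G} (h : StgG S P K B ZJ) : LB S K B ZJ := by
  cases h with
  | neg h => exact LB.neg S
  | lev K₀ h => exact lb_nxt h.wc

theorem _root_.Cfsg.Agent.Omega.Node.MultiOf.StgP.toG {S : Sylow 2 G} {P K B ZJ : Subgroup G}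
    (h : StgP S P K B ZJ) : StgG S P K B ZJ := by
  cases h with
  | neg h => exact StgG.neg h
  | lev n hall hn hn1 => exact StgG.lev (lev (S : Subgroup G) n) ⟨lev_wc n, lev_isLev _ n, hall, hn, hn1⟩

/-- **Several natural blocks, general frame.** -/
structure MulG (S : Sylow 2 G) (P K B ZJ : Subgroup G) {k : ℕ} (L W Z C : Fin k → Subgroup G) (q : ℕ) : Prop where
  hyp : HypF S P
  stg : StgG S P K B ZJ
  bg : Bg S P B ZJ L W Z C q
  nat : ∃ (F : Type) (_ : Field F) (_ : Finite F) (_ : CharP F 2), Nat.card F = q ∧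
    Nonempty (NatKM F (S : Subgroup G) P (zl (S : Subgroup G) P) (cv (S : Subgroup G) P) k)

theorem _root_.Cfsg.Agent.Omega.Node.MultiOf.Mul.toG {S : Sylow 2 G} {P K B ZJ : Subgroup G} {k : ℕ}
    {L W Z C : Fin k → Subgroup G} {q : ℕ} (h : Mul S P K B ZJ L W Z C q) : MulG S P K B ZJ L W Z C q :=
  ⟨h.hyp.toHypF, h.stg.toG, h.bg, h.nat⟩

theorem exists_mulG_hypL {S : Sylow 2 G} {P : Subgroup G} (h : HypL S P) {F : Type} [Field F] [Finite F] [CharP F 2]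
    {k : ℕ} (hk : 2 ≤ k) (N : NatKM F (S : Subgroup G) P (zl (S : Subgroup G) P) (cv (S : Subgroup G) P) k) :
    ∃ (K B ZJ : Subgroup G) (L W Z C : Fin k → Subgroup G), MulG S P K B ZJ L W Z C (Nat.card F) := by
  obtain ⟨K, B, ZJ, L, W, Z, C, h1⟩ := exists_mul h hk N
  exact ⟨K, B, ZJ, L, W, Z, C, h1.toG⟩

/-- In the case (L) some best offender on `V_P = Ω₁(Z(O₂(P)))` in `S` is not in `O₂(P)`. -/
theorem exists_BO_caseL {S : Sylow 2 G} {P : Subgroup G} (h : CaseL S P) :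
    ∃ A ∈ BO (S : Subgroup G) (o2 P), ¬ A ≤ o2 P := by
  have hG := h.ctx.char2
  obtain ⟨A, hAS, hAo⟩ := h.ff P h.pss
  by_contra hcon
  push Not at hcon
  have h1 : nxt (S : Subgroup G) (K0 (S : Subgroup G)) ≤ K0 (S : Subgroup G) := by
    rw [h.K0_eq]
    refine sup_le ?_ (sSup_le hcon)
    rw [h.zc_eq, IsParS.inf_centralizer S hG h.pss.par]
  have w : W0 S := { toHypC := h.toHypC, ff := h.ff, nxt := h1 }
  refine w.noOff (A := A) (hAS.trans ((NO3S.Level.S_le_M0 _).trans (NO3S.Level.M0_norm _))) ?_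
  rw [h.eq]
  exact hAo

theorem top_caseL {S : Sylow 2 G} {P : Subgroup G} (h : CaseL S P) : Top S P (o2 P) where
  wc := h.wc
  lev := h.levQ
  all := fun _ hR => h.o2_le hR
  le := le_rfl
  nxt := fun hc => by
    obtain ⟨A, hA, hn⟩ := exists_BO_caseL h
    exact hn ((le_sSup hA).trans (le_sup_right.trans hc))

theorem exists_mulG_caseL {S : Sylow 2 G} {P : Subgroup G} (h : CaseL S P) {F : Type} [Field F] [Finite F]
    [CharP F 2] {k : ℕ} (hk : 2 ≤ k)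
    (N : NatKM F (S : Subgroup G) P (zl (S : Subgroup G) P) (cv (S : Subgroup G) P) k) :
    ∃ (K B ZJ : Subgroup G) (L W Z C : Fin k → Subgroup G), MulG S P K B ZJ L W Z C (Nat.card F) := by
  obtain ⟨M, L, Z, A, -, -, hB, -⟩ := Lev.Main.bg_K h.hypN h.levQ le_rfl (exists_BO_caseL h) hk N rfl
  exact ⟨_, _, _, L, _, Z, _, h.hypF, StgG.lev _ (top_caseL h), hB, F, inferInstance, inferInstance, inferInstance,
    rfl, ⟨N⟩⟩

namespace MulG

variable {S : Sylow 2 G} {P K B ZJ : Subgroup G} {k : ℕ} {L W Z C : Fin k → Subgroup G} {q : ℕ}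
  (h : MulG S P K B ZJ L W Z C q)
include h

theorem lb : LB S K B ZJ := h.stg.lb

theorem fbl (i : Fin k) : FBl B (L i) (W i) := ⟨⟨_, _, h.bg.fr.blk i⟩, h.bg.block i⟩

theorem fam : LevD.Fam B ZJ (FBl B) where
  blk := fun _ _ hb => hb.blk
  conj := fun _ hn _ _ hb => hb.conj hn
  zj_le := by
    refine (h.bg.fr.ZJV.trans (Fg_V_le h.bg.fr)).trans (iSup_le fun i => ?_)
    exact le_iSup (fun i : {x : Subgroup G × Subgroup G // FBl B x.1 x.2} => i.1.2) ⟨(L i, W i), h.fbl i⟩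

theorem L_le (i : Fin k) : L i ≤ KZ B ZJ := LevD.blk_le_K0 (h.fbl i)

/-- **the dichotomy** -/
theorem cases : NLoc (KZ B ZJ) ∨ (o2 (KZ B ZJ) ≠ ⊥ ∧ o2 (KZ B ZJ) ≤ B ∧
    KZ B ZJ ⊔ normalizer (B : Set G) ≤ normalizer (o2 (KZ B ZJ) : Set G)) := by
  by_cases h0 : NLoc (KZ B ZJ)
  · exact Or.inl h0
  · right
    unfold NLoc at h0
    push Not at h0
    obtain ⟨R, hR, hRn, hR1⟩ := h0
    exact LevD.Fam.dich h.lb h.fam hR hR1 hRn

end MulG

end defs

/-! ### Sockets over a frame `H` -/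

section sockets

variable (K : Cls.{u}) (H : FrP.{u}) (c : ℕ → ℕ → Prop)

/-- **(Om)** over the frame `H`. -/
def OmOfH : Prop :=
  ∀ (G : Type u) [Group G] [Finite G], K G → ∀ (S : Sylow 2 G) (P K' B ZJ : Subgroup G) (k : ℕ)
    (L W Z C : Fin k → Subgroup G) (q : ℕ), H G S P → 2 ≤ k → c k q → MulG S P K' B ZJ L W Z C q →
      o2 (KZ B ZJ) ≠ ⊥ → o2 (KZ B ZJ) ≤ B →
      KZ B ZJ ⊔ normalizer (B : Set G) ≤ normalizer (o2 (KZ B ZJ) : Set G) → IsKnownSimple' G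

/-- **(E)** over the frame `H`. -/
def EOfH : Prop :=
  ∀ (G : Type u) [Group G] [Finite G], K G → ∀ (S : Sylow 2 G) (P K' B ZJ : Subgroup G) (k : ℕ)
    (L W Z C : Fin k → Subgroup G) (q : ℕ), H G S P → 2 ≤ k → c k q → MulG S P K' B ZJ L W Z C q →
      NLoc (KZ B ZJ) → IsKnownSimple' G

end sockets

/-- `H` gives the general frame. -/
def Frm (H : FrP.{u}) : Prop :=
  ∀ (G : Type u) [Group G] [Finite G] (S : Sylow 2 G) (P : Subgroup G), H G S P →
    ∀ (F : Type) [Field F] [Finite F] [CharP F 2] (k : ℕ), 2 ≤ k →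
      NatKM F (S : Subgroup G) P (zl (S : Subgroup G) P) (cv (S : Subgroup G) P) k →
        ∃ (K B ZJ : Subgroup G) (L W Z C : Fin k → Subgroup G), MulG S P K B ZJ L W Z C (Nat.card F)

/-- The frame `HypL`. -/
def HypLP : FrP.{u} := fun _ _ _ S P => HypL S P

theorem frm_hypL : Frm HypLP.{u} := fun _ _ _ _ _ h _ _ _ _ _ hk N => exists_mulG_hypL h hk N

theorem frm_caseL : Frm CaseLP.{u} := fun _ _ _ _ _ h _ _ _ _ _ hk N => exists_mulG_caseL h hk N

variable {K : Cls.{u}} {H : FrP.{u}}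

theorem known_of (hH : Frm H) {c : ℕ → ℕ → Prop} (hO : OmOfH K H c) (hE : EOfH K H c) (G : Type u) [Group G]
    [Finite G] (hK : K G) (S : Sylow 2 G) (P : Subgroup G) (h : H G S P) (F : Type) [Field F] [Finite F] [CharP F 2]
    (k : ℕ) (hk : 2 ≤ k) (hc : c k (Nat.card F))
    (N : NatKM F (S : Subgroup G) P (zl (S : Subgroup G) P) (cv (S : Subgroup G) P) k) : IsKnownSimple' G := by
  obtain ⟨K', B, ZJ, L, W, Z, C, hM⟩ := hH G S P h F k hk N
  rcases hM.cases with h1 | ⟨h1, h2, h3⟩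
  · exact hE G hK S P K' B ZJ k L W Z C _ h hk hc hM h1
  · exact hO G hK S P K' B ZJ k L W Z C _ h hk hc hM h1 h2 h3

/-- **`MultiTwoH K H`.** -/
theorem multiTwoH_of (hH : Frm H) (hO : OmOfH K H fun _ q => q = 2) (hE : EOfH K H fun k q => k = 2 ∧ q = 2)
    (hE' : EOfH K H fun k q => 3 ≤ k ∧ q = 2) : MultiTwoH K H := by
  intro G _ _ hK S P h F _ _ _ k hk hq N
  refine known_of hH (c := fun _ q => q = 2) hO ?_ G hK S P h F k hk hq N
  intro G _ _ hK S P K' B ZJ k L W Z C q h hk hq hM hN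
  rcases Nat.lt_or_ge k 3 with hk3 | hk3
  · exact hE G hK S P K' B ZJ k L W Z C q h hk ⟨by omega, hq⟩ hM hN
  · exact hE' G hK S P K' B ZJ k L W Z C q h hk ⟨hk3, hq⟩ hM hN

/-- **`MultiQH K H`.** -/
theorem multiQH_of (hH : Frm H) (hO : OmOfH K H fun _ q => 4 ≤ q) (hE : EOfH K H fun k q => k = 2 ∧ 4 ≤ q)
    (hE' : EOfH K H fun k q => 3 ≤ k ∧ 4 ≤ q) : MultiQH K H := by
  intro G _ _ hK S P h F _ _ _ k hk hq N
  refine known_of hH (c := fun _ q => 4 ≤ q) hO ?_ G hK S P h F k hk hq N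
  intro G _ _ hK S P K' B ZJ k L W Z C q h hk hq hM hN
  rcases Nat.lt_or_ge k 3 with hk3 | hk3
  · exact hE G hK S P K' B ZJ k L W Z C q h hk ⟨by omega, hq⟩ hM hN
  · exact hE' G hK S P K' B ZJ k L W Z C q h hk ⟨hk3, hq⟩ hM hN

/-- `EOfH` over `HypL` gives the old socket. -/
theorem eOf_of_H {c : ℕ → ℕ → Prop} (h : EOfH K HypLP c) : EOf K c :=
  fun G _ _ hK S P K' B ZJ k L W Z C q hk hc hM hN => h G hK S P K' B ZJ k L W Z C q hM.hyp hk hc hM.toG hN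

end Cfsg.Agent.Omega.Node.MulG
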