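import Cfsg.Agent.Omega.Node.MulG
import Cfsg.Agent.Omega.EK3.OfMul

/-!
# The leaves `MultiTwoH`, `MultiQH` of GammaFF over `CaseLP`

`K₀ = O₂(P)`, `K = nxt S (O₂(P))`, `ZJ = Ω₁(Z(K))`, `B = C_S(ZJ)`.

* `OmC K c`, `EC K c` : the sockets (`c` = the condition on `(k, q)`); `multiTwoC_of`, `multiQC_of`;
* `KZ_eq` : `KZ = ⟨C_G(Z_J), L_1, .., L_k⟩` over `Bg`, `q = 2`;
* `UniC K` : UNI+ and block generation; `EEndTwo K`, `EEndK K` : the ends of case (E) over `MulG`, `UniTwo`, `BlkS`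
  (any frame); `eC_two`, `eC_three`, `eFrK_of_end`.
-/

set_option autoImplicit false
set_option linter.unusedSectionVars false

namespace Cfsg.Agent.Omega.Node.MulC

open Subgroup Cfsg Cfsg.Agent.ZN.ChoiceBase Cfsg.Agent.ZN.ChoiceSit
open Cfsg.Agent.ZN (jj zj bau zc zl o2)
open Cfsg.Agent.Omega.MinPar (IsParS)
open Cfsg.Agent.Omega.FFThm (NatK NatKM)
open Cfsg.Agent.Omega.FrameFF (cv)
open Cfsg.Agent.Omega.NO3S (HypL HypF HypN HypJ Hyp PSS FrP CaseLP MultiTwoH MultiQH)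
open Cfsg.Agent.Omega.NO3S.Level (lev nxt Lev CaseL)
open Cfsg.Agent.Omega.Frame (Cls)
open Cfsg.Agent.Omega.NO3S.EThree.Frame (Bg Fg)
open Cfsg.Agent.Omega.OM
open Cfsg.Agent.Omega.Node.MultiOf Cfsg.Agent.Omega.Node.MulG
open Cfsg.Agent.Omega.TC.OfMul (BlkS)

universe u

section sockets

variable (K : Cls.{u}) (c : ℕ → ℕ → Prop)

/-- **(Om)**, case (L). -/
def OmC : Prop :=
  ∀ (G : Type u) [Group G] [Finite G], K G → ∀ (S : Sylow 2 G) (P : Subgroup G), CaseL S P →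
    ∀ (B ZJ : Subgroup G) (k : ℕ) (L W Z C : Fin k → Subgroup G) (q : ℕ), 2 ≤ k → c k q →
      ZJ = zc (nxt (S : Subgroup G) (o2 P)) → B = (S : Subgroup G) ⊓ centralizer (ZJ : Set G) →
      MulG S P (nxt (S : Subgroup G) (o2 P)) B ZJ L W Z C q → o2 (KZ B ZJ) ≠ ⊥ → o2 (KZ B ZJ) ≤ B →
      KZ B ZJ ⊔ normalizer (B : Set G) ≤ normalizer (o2 (KZ B ZJ) : Set G) → IsKnownSimple' G

/-- **(E)**, case (L). -/
def EC : Prop :=
  ∀ (G : Type u) [Group G] [Finite G], K G → ∀ (S : Sylow 2 G) (P : Subgroup G), CaseL S P →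
    ∀ (B ZJ : Subgroup G) (k : ℕ) (L W Z C : Fin k → Subgroup G) (q : ℕ), 2 ≤ k → c k q →
      ZJ = zc (nxt (S : Subgroup G) (o2 P)) → B = (S : Subgroup G) ⊓ centralizer (ZJ : Set G) →
      MulG S P (nxt (S : Subgroup G) (o2 P)) B ZJ L W Z C q → NLoc (KZ B ZJ) → IsKnownSimple' G

/-- **UNI+ and block generation** in the case (L), `q = 2`. -/
def UniC : Prop :=
  ∀ (G : Type u) [Group G] [Finite G], K G → ∀ (S : Sylow 2 G) (P : Subgroup G), CaseL S P →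
    ∀ (F : Type) [Field F] [Finite F] [CharP F 2] (k : ℕ), Nat.card F = 2 → 2 ≤ k →
      NatKM F (S : Subgroup G) P (zl (S : Subgroup G) P) (cv (S : Subgroup G) P) k →
        ∀ B ZJ : Subgroup G, ZJ = zc (nxt (S : Subgroup G) (o2 P)) →
          B = (S : Subgroup G) ⊓ centralizer (ZJ : Set G) → NLoc (KZ B ZJ) →
          ∃ L W Z C : Fin k → Subgroup G, Bg S P B ZJ L W Z C 2 ∧ UniTwo B ZJ L W ∧
            (3 ≤ k → BlkS (nxt (S : Subgroup G) (o2 P)) B B) ∧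
            ∀ i : Fin k, k = 2 → BlkS (nxt (S : Subgroup G) (o2 P)) B ((S : Subgroup G) ⊓ normalizer (Z i : Set G))

/-- **the end of (E), `k = 2`, `q = 2`**, over the general frame: `EFr` without levels. -/
def EEndTwo : Prop :=
  ∀ (G : Type u) [Group G] [Finite G], K G → ∀ (S : Sylow 2 G) (P K' B ZJ : Subgroup G)
    (L W Z C : Fin 2 → Subgroup G), MulG S P K' B ZJ L W Z C 2 → NLoc (KZ B ZJ) → UniTwo B ZJ L W →
      BlkS K' B ((S : Subgroup G) ⊓ normalizer (Z 0 : Set G)) → IsKnownSimple' G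

/-- **the end of (E), `k ≥ 3`, `q = 2`**, over the general frame. -/
def EEndK : Prop :=
  ∀ (G : Type u) [Group G] [Finite G], K G → ∀ (S : Sylow 2 G) (P K' B ZJ : Subgroup G) (k : ℕ)
    (L W Z C : Fin k → Subgroup G), 3 ≤ k → MulG S P K' B ZJ L W Z C 2 → NLoc (KZ B ZJ) →
      UniTwo B ZJ L W → BlkS K' B B → IsKnownSimple' G

end sockets

variable {K : Cls.{u}}

theorem known_of {c : ℕ → ℕ → Prop} (hO : OmC K c) (hE : EC K c) (G : Type u) [Group G] [Finite G] (hK : K G)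
    (S : Sylow 2 G) (P : Subgroup G) (h : CaseL S P) (F : Type) [Field F] [Finite F] [CharP F 2] (k : ℕ) (hk : 2 ≤ k)
    (hc : c k (Nat.card F))
    (N : NatKM F (S : Subgroup G) P (zl (S : Subgroup G) P) (cv (S : Subgroup G) P) k) : IsKnownSimple' G := by
  obtain ⟨M, L, Z, A, -, -, hB, -⟩ := Lev.Main.bg_K h.hypN h.levQ le_rfl (exists_BO_caseL h) hk N rfl
  have hM : MulG S P _ _ _ L _ Z _ (Nat.card F) :=
    ⟨h.hypF, StgG.lev _ (top_caseL h), hB, F, inferInstance, inferInstance, inferInstance, rfl, ⟨N⟩⟩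
  rcases hM.cases with h1 | ⟨h1, h2, h3⟩
  · exact hE G hK S P h _ _ k L _ Z _ _ hk hc rfl rfl hM h1
  · exact hO G hK S P h _ _ k L _ Z _ _ hk hc rfl rfl hM h1 h2 h3

/-- **`MultiTwoH K CaseLP`.** -/
theorem multiTwoC_of (hO : OmC K fun _ q => q = 2) (hE : EC K fun k q => k = 2 ∧ q = 2)
    (hE' : EC K fun k q => 3 ≤ k ∧ q = 2) : MultiTwoH K CaseLP := by
  intro G _ _ hK S P h F _ _ _ k hk hq N
  refine known_of (c := fun _ q => q = 2) hO ?_ G hK S P h F k hk hq N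
  intro G _ _ hK S P h B ZJ k L W Z C q hk hq e1 e2 hM hN
  rcases Nat.lt_or_ge k 3 with hk3 | hk3
  · exact hE G hK S P h B ZJ k L W Z C q hk ⟨by omega, hq⟩ e1 e2 hM hN
  · exact hE' G hK S P h B ZJ k L W Z C q hk ⟨hk3, hq⟩ e1 e2 hM hN

/-- **`MultiQH K CaseLP`.** -/
theorem multiQC_of (hO : OmC K fun _ q => 4 ≤ q) (hE : EC K fun k q => k = 2 ∧ 4 ≤ q)
    (hE' : EC K fun k q => 3 ≤ k ∧ 4 ≤ q) : MultiQH K CaseLP := by
  intro G _ _ hK S P h F _ _ _ k hk hq N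
  refine known_of (c := fun _ q => 4 ≤ q) hO ?_ G hK S P h F k hk hq N
  intro G _ _ hK S P h B ZJ k L W Z C q hk hq e1 e2 hM hN
  rcases Nat.lt_or_ge k 3 with hk3 | hk3
  · exact hE G hK S P h B ZJ k L W Z C q hk ⟨by omega, hq⟩ e1 e2 hM hN
  · exact hE' G hK S P h B ZJ k L W Z C q hk ⟨hk3, hq⟩ e1 e2 hM hN

/-- `EOfH` over `CaseLP` gives `EC`. -/
theorem eC_of_H {c : ℕ → ℕ → Prop} (h : EOfH K CaseLP c) : EC K c :=
  fun G _ _ hK S P hL B ZJ k L W Z C q hk hc _ _ hM hN => h G hK S P _ B ZJ k L W Z C q hL hk hc hM hN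

theorem omC_of_H {c : ℕ → ℕ → Prop} (h : OmOfH K CaseLP c) : OmC K c :=
  fun G _ _ hK S P hL B ZJ k L W Z C q hk hc _ _ hM h1 h2 h3 =>
    h G hK S P _ B ZJ k L W Z C q hL hk hc hM h1 h2 h3

/-- **`KZ = ⟨C_G(Z_J), L_1, .., L_k⟩`** over `Bg` and UNI+. -/
theorem KZ_eq {G : Type u} [Group G] [Finite G] {S : Sylow 2 G} {P B ZJ : Subgroup G} {k : ℕ}
    {L W Z C : Fin k → Subgroup G} (h : Bg S P B ZJ L W Z C 2) (hu : UniTwo B ZJ L W) :
    KZ B ZJ = centralizer (ZJ : Set G) ⊔ ⨆ i, L i := by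
  apply le_antisymm
  · refine sup_le le_sup_left (iSup_le ?_)
    rintro ⟨⟨L', V'⟩, hb⟩
    obtain ⟨i, -, hle⟩ := hu L' V' hb
    refine hle.trans (sup_le (le_sup_of_le_right (le_iSup L i)) (le_sup_of_le_left (centralizer_le ?_)))
    exact_mod_cast (le_sup_right : ZJ ≤ W i ⊔ ZJ)
  · refine sup_le LevD.cent_le_K0 (iSup_le fun i => ?_)
    exact LevD.blk_le_K0 (V := W i) (⟨⟨_, _, h.fr.blk i⟩, h.block i⟩ : FBl B (L i) (W i))

/-- case (L), `k = 2`, `q = 2` -/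
theorem eC_two (hU : UniC K) (hE : EEndTwo K) : EC K fun k q => k = 2 ∧ q = 2 := by
  rintro G _ _ hK S P h B ZJ k L W Z C q hk ⟨rfl, rfl⟩ e1 e2 hM hN
  obtain ⟨F, _, _, _, hF, ⟨N⟩⟩ := hM.nat
  obtain ⟨L', W', Z', C', hbg, hu, -, hb⟩ := hU G hK S P h F 2 hF le_rfl N B ZJ e1 e2 hN
  exact hE G hK S P _ B ZJ L' W' Z' C'
    ⟨hM.hyp, hM.stg, hbg, F, inferInstance, inferInstance, inferInstance, hF, ⟨N⟩⟩ hN hu (hb 0 rfl)

/-- case (L), `k ≥ 3`, `q = 2` -/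
theorem eC_three (hU : UniC K) (hE : EEndK K) : EC K fun k q => 3 ≤ k ∧ q = 2 := by
  rintro G _ _ hK S P h B ZJ k L W Z C q hk ⟨hk3, rfl⟩ e1 e2 hM hN
  obtain ⟨F, _, _, _, hF, ⟨N⟩⟩ := hM.nat
  obtain ⟨L', W', Z', C', hbg, hu, hb, -⟩ := hU G hK S P h F k hF (by omega) N B ZJ e1 e2 hN
  exact hE G hK S P _ B ZJ k L' W' Z' C' hk3
    ⟨hM.hyp, hM.stg, hbg, F, inferInstance, inferInstance, inferInstance, hF, ⟨N⟩⟩ hN hu (hb hk3)

/-- the general end gives 574's / 712's end over `Mul` -/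
theorem eFrK_of_end (hE : EEndK K) : EK3.OfMul.EFrK K :=
  fun G _ _ hK S P K' B ZJ k L W Z C hk hM hN hu hb => hE G hK S P K' B ZJ k L W Z C hk hM.toG hN hu hb

end Cfsg.Agent.Omega.Node.MulC
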