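import Cfsg.Agent.Omega.Node.MulX
import Cfsg.Agent.Omega.OM.SwapK.Blk
import Cfsg.Agent.Omega.TC.LevTop
import Cfsg.Agent.Omega.TC.UniLev

/-!
# The case (L) of GammaFF, case (E), `k = 2 = q`, over `MulX.MulL`

* `NoW K` : no weird minimal parabolic `Y` over `B` centralises all `Z l`, `l ≠ j`, and moves `Z_J` (`q = 2`, any `k ≥ 2`);
* `exists_fbx` : a minimal parabolic `R` over `T ≥ B` with `O₂(P) ≤ O₂(R)`, `nxt S (O₂(P)) ≰ O₂(R)`, which moves `Ω₁(Z(T))`, is
  generated by `T` and an FF-block over `B` with module in `V_P`;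
* `uni_of_noW` : the field `uni` of `TC.Fr`;
* **`eX_two : MLK → NoInp → NoW K → EX K (k = 2 ∧ q = 2)`**.
-/

set_option autoImplicit false
set_option linter.unusedSectionVars false

namespace Cfsg.Agent.Omega.Node.MulXTwo

open Subgroup Cfsg Cfsg.Agent.ZN.ChoiceBase
open Cfsg.Agent.ZN.ChoiceSit (Syl o2_le_syl)
open Cfsg.Agent.ZN (jj zj bau zc zl o2)
open Cfsg.Agent.MinSimple.MinParabolic (IsMinPar)
open Cfsg.Agent.MinSimple.VModule (le_normalizer_o2 o2_isPGroup le_o2 o2_le mem_zc)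
open Cfsg.Agent.PLocal.ThompsonJ (isElementaryAbelian_iff)
open Cfsg.Agent.Omega.MinPar (NonLoc)
open Cfsg.Agent.Omega.NO3S.Level (lev nxt Lev BO CaseL)
open Cfsg.Agent.Omega.Frame (Cls)
open Cfsg.Agent.Omega.OM
open Cfsg.Agent.Omega.OM.Uni (FB)
open Cfsg.Agent.Omega.Node.MultiOf Cfsg.Agent.Omega.Node.MulG Cfsg.Agent.Omega.Node.MulX
open Cfsg.Agent.Omega.TC

universe u

/-- **No weird `Y ≤ C_G(Z_l : l ≠ j)`**, `q = 2`. -/
def NoW (K : Cls.{u}) : Prop :=
  ∀ (G : Type u) [Group G] [Finite G], K G → ∀ (S : Sylow 2 G) (P B ZJ : Subgroup G) (k : ℕ)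
    (L W Z C A : Fin k → Subgroup G), 2 ≤ k → MulL S P B ZJ L W Z C A 2 →
      NLoc (KX B ZJ (zl (S : Subgroup G) P)) → ∀ (j : Fin k) (Y : Subgroup G), IsMinPar B Y → Syl B Y →
        Y ⊓ centralizer (o2 Y : Set G) ≤ o2 Y → (∀ l, l ≠ j → Y ≤ centralizer (Z l : Set G)) → ¬ o2 P ≤ o2 Y →
          Y ≤ centralizer (ZJ : Set G)

section

variable {G : Type u} [Group G] [Finite G] {S : Sylow 2 G} {P B ZJ : Subgroup G} {k : ℕ}
  {L W Z C A : Fin k → Subgroup G} {q : ℕ}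

/-- a block `(L', V')` over `B` with `V' ≤ V_P` and `H = ⟨T, L'⟩` -/
theorem exists_fbx (h : MulL S P B ZJ L W Z C A q) {T H : Subgroup G} (hT : Syl T H) (hB : B ≤ T) (hP : IsMinPar T H)
    (hc : H ⊓ centralizer (o2 H : Set G) ≤ o2 H) (hK : o2 P ≤ o2 H)
    (hn : ¬ nxt (S : Subgroup G) (o2 P) ≤ o2 H) (hZ : ¬ H ≤ centralizer (zc T : Set G)) :
    ∃ L' V' : Subgroup G, L' ≤ H ∧ FBX B (zl (S : Subgroup G) P) L' V' ∧ H ≤ T ⊔ L' := by
  have hwl : SwapK.WL S (o2 P) := SwapK.WL.of_top (top_caseL h.cl)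
  have hBK : SwapK.BK (S : Subgroup G) (o2 P) = B := h.eqB.symm
  have hZK : SwapK.ZK (S : Subgroup G) (o2 P) = ZJ := h.eZ.symm
  obtain ⟨L', V', h1, h2, h3⟩ := hwl.exists_fblk hT (by rw [hBK]; exact hB) hP hc hK hn hZ
  have hzB := hwl.zc_B
  rw [hBK] at h2 hzB
  rw [hZK] at hzB
  refine ⟨L', V', h1, ⟨⟨h2.fb, h2.blk⟩, ?_⟩, h3⟩
  obtain ⟨Z', q', hF⟩ := h2.fb
  -- `L' ≤ N(V_P)`
  have hN : H ≤ normalizer (zl (S : Subgroup G) P : Set G) := by
    have h4 : H ≤ normalizer (o2 P : Set G) := (le_normalizer_o2 H).trans (hwl.norm_T (o2_isPGroup H) hK)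
    rw [← h.cl.zc_eq]
    exact h4.trans (NO3S.Level.normalizer_le_zc _)
  have hZ' : Z' ≤ zl (S : Subgroup G) P := by
    refine le_trans ?_ h.fr.ZJV
    intro z hz
    rw [← hzB]
    exact mem_zc.2 ⟨hF.VB (hF.ZV hz), (isElementaryAbelian_iff.1 hF.el).2 z (hF.ZV hz),
      fun y hy => hF.cZ y hy z hz⟩
  obtain ⟨l, hl, hsup⟩ := hF.sup
  have h5 : ⁅V', B⁆ ≤ zl (S : Subgroup G) P := (hF.toMd.comm_le le_rfl).trans hZ'
  refine hsup.trans (sup_le h5 ?_)
  rw [← cj_eq_of_mem_normalizer (hN (h1 hl))]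
  exact cj_mono l h5

end

section two

variable {G : Type u} [Group G] [Finite G] {S : Sylow 2 G} {P B ZJ : Subgroup G}
  {L W Z C A : Fin 2 → Subgroup G}

/-- **The field `uni` of `TC.Fr`.** -/
theorem uni_of_noW (h : MulL S P B ZJ L W Z C A 2)
    (hW : ∀ (j : Fin 2) (Y : Subgroup G), IsMinPar B Y → Syl B Y →
        Y ⊓ centralizer (o2 Y : Set G) ≤ o2 Y → (∀ l, l ≠ j → Y ≤ centralizer (Z l : Set G)) → ¬ o2 P ≤ o2 Y →
          Y ≤ centralizer (ZJ : Set G)) :
    ∀ i j, i ≠ j → ∀ R : Subgroup G, IsMinPar ((S : Subgroup G) ⊓ normalizer (Z 0 : Set G)) R →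
      R ≤ normalizer (Z j : Set G) → ¬ R ≤ normalizer (Z i : Set G) → R ≤ normalizer (W i : Set G) := by
  have hbg := h.bg
  have hlb := h.lb
  obtain ⟨v, hv1, hv, D⟩ := OfBg.exists_sit hbg
  have hN : ∀ i, normalizer (Z i : Set G) = centralizer ({v i} : Set G) := fun i =>
    OfBg.normalizer_eq (hv i) (hv1 i)
  have hTB : (S : Subgroup G) ⊓ normalizer (Z 0 : Set G) = B := UniLev.T_eq hbg
  intro i j hij R hR hRj hRi
  rw [hTB] at hR D
  have h2' : ∀ a b c : Fin 2, a ≠ b → c ≠ a → c = b := by decide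
  have hsyl : Syl B R := by
    have h1 := D.syl j
    rw [← hN j] at h1
    exact ⟨hR.le, h1.2.1, fun Q hQ h2 hle => h1.2.2 Q (hQ.trans hRj) h2 hle⟩
  have hcR : R ⊓ centralizer (o2 R : Set G) ≤ o2 R := by
    have h1 := D.char2 j
    rw [← hN j] at h1
    have h2 : o2 (normalizer (Z j : Set G)) ≤ B := by
      have h3 := D.syl j
      rw [← hN j] at h3
      exact o2_le_syl h3
    have h4 : o2 (normalizer (Z j : Set G)) ≤ o2 R :=
      le_o2 (h2.trans hR.le) (o2_isPGroup _) (hRj.trans (le_normalizer_o2 _))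
    rintro x ⟨hx, hxc⟩
    exact h4 (h1 ⟨hRj hx, centralizer_le (by exact_mod_cast h4) hxc⟩)
  have hvT : ∀ l, v l ∈ zc B := fun l => (D.zT _).2 (by
    have h2 : ∀ a : Fin 2, a = 0 ∨ a = 1 := by decide
    rcases h2 l with rfl | rfl <;> simp)
  have hZJ : ∀ x, x ∈ ZJ ↔ x ∈ zc B := fun x => by rw [D.zT, OfBg.mem_ZJ_iff hbg hv]
  have hvZJ : ∀ l, v l ∈ ZJ := fun l => (hZJ _).2 (hvT l)
  by_cases hQ : o2 P ≤ o2 R
  · by_cases hKR : nxt (S : Subgroup G) (o2 P) ≤ o2 R
    · -- `R` normalises `ZJ`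
      exfalso
      apply hRi
      have h1 : R ≤ normalizer (ZJ : Set G) :=
        (le_normalizer_o2 R).trans (hlb.nrm _ (o2_isPGroup R) hKR)
      rw [hN i]
      intro r hr
      have h2 : r * v i * r⁻¹ ∈ ZJ := (mem_normalizer_iff.1 (h1 hr) _).1 (hvZJ i)
      obtain ⟨l, hl⟩ := hbg.fus (i := i) (g := r) h2 (by
        have e : r⁻¹ * (r * v i * r⁻¹) * r = v i := by group
        rw [e, hv i]; exact Or.inr rfl)
      rcases (hv l _).1 hl with h3 | h3
      · exact absurd (conj_eq_one_iff.1 h3) (hv1 i)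
      · by_cases hli : l = i
        · rw [hli] at h3
          rw [mem_centralizer_singleton_iff]
          exact mul_inv_eq_iff_eq_mul.1 h3
        · exfalso
          rw [h2' i j l hij hli] at h3
          have h4 := hRj hr
          rw [hN j] at h4
          have h5 := mem_centralizer_singleton_iff.1 h4
          have h6 : v i = v j := by
            have h7 : r * v i = r * v j := by
              rw [h5]
              exact mul_inv_eq_iff_eq_mul.1 h3
            exact mul_left_cancel h7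
          have h8 : v i ∈ W i ⊓ W j := ⟨D.mem i, h6 ▸ D.mem j⟩
          rw [D.inf i j hij, mem_bot] at h8
          exact hv1 i h8
    · have hRc : ¬ R ≤ centralizer (zc B : Set G) := fun hc => hRi (by
        rw [hN i]
        exact hc.trans (centralizer_le (Set.singleton_subset_iff.2 (hvT i))))
      obtain ⟨L', V', h1, hX, h2⟩ := exists_fbx h hsyl le_rfl hR hcR hQ hKR hRc
      obtain ⟨l, rfl, -⟩ := uniTwoX S h.cl.levQ h.cl.zc_eq.symm h.eqB h.fr hX
      obtain ⟨⟨Z', q', hF⟩, -⟩ := hX.1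
      have h3 : L' ≤ normalizer (W l : Set G) := fun x hx => by
        rw [mem_normalizer_iff_cj]
        refine Subgroup.eq_of_le_of_card_ge ?_ (by rw [card_cj])
        rintro _ ⟨w, hw, rfl⟩
        exact hF.nV x hx w hw
      have h4 : ¬ L' ≤ normalizer (Z l : Set G) := fun hcon => by
        obtain ⟨x, hx, hne, -⟩ := hF.exists_mv
        apply hne
        have hZ' : Z' = Z l := by
          ext x
          rw [hF.toMd.mem_Z_iff, (hbg.fr.blk l).toMd.mem_Z_iff]
        rw [hZ']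
        exact mem_normalizer_iff_cj.1 (hcon hx)
      have hli : l = i := by
        by_contra hli
        rw [h2' i j l hij hli] at h4
        exact h4 (h1.trans hRj)
      rw [hli] at h3
      refine h2.trans (sup_le ?_ h3)
      rw [D.T_eq i]
      exact inf_le_right
  · exfalso
    apply hRi
    rw [hN i]
    refine (hW i R hR hsyl hcR (fun l hl => ?_) hQ).trans
      (centralizer_le (Set.singleton_subset_iff.2 (hvZJ i)))
    rw [h2' i j l hij hl]
    intro r hr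
    have h4 := hRj hr
    rw [hN j] at h4
    refine mem_centralizer_iff.2 fun x hx => ?_
    rcases (hv j x).1 hx with rfl | rfl
    · simp
    · exact (mem_centralizer_singleton_iff.1 h4).symm

end two

/-- **(E), case (L), `k = 2 = q`.** -/
theorem eX_two {K : Cls.{u}} (hML : ML.Final.MLK.{u, u}) (hKL : KL.Quo.NoInp.{u, u}) (hW : NoW K) :
    EX K fun k q => k = 2 ∧ q = 2 := by
  rintro G _ _ hK S P B ZJ k L W Z C A q hk ⟨rfl, rfl⟩ h hN
  exfalso
  refine LevTop.false_of_uni hML hKL h.toG (uni_of_noW h fun j Y => hW G hK S P B ZJ 2 L W Z C A hk h hN j Y) ?_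
  refine LevTop.nonloc_of_gen h.bg ?_
  rw [← h.KX_eq]
  exact hN

end Cfsg.Agent.Omega.Node.MulXTwo
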