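import Cfsg.Agent.Omega.OM.Lev.Main
import Cfsg.Agent.Omega.OM.Lev.Dich
import Cfsg.Agent.Omega.OM.KZero
import Cfsg.Agent.Omega.OM.Swap.Plug
import Cfsg.Agent.Omega.OM.Swap.Facts
import Cfsg.Agent.Omega.Node.NO3SLevel

/-!
# The leaves `MultiTwoL`, `MultiQL` of NO-3S: the tree (assembler: helper388)

`HypL S P`, `V_P` a sum of `k ≥ 2` natural `SL₂(q)`-modules.  `StgP S P K B ZJ` is the level of `P`: stage `-1`:
`(jj S, bau S, zj S)`; stage `n`: `(lev S (n + 1), C_S(ZJ), Ω₁(Z(lev S (n + 1))))`. `Mul` collects `HypL`, `StgP` and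
the frame `Bg` (helper186, helper109). `KZ B ZJ = ⟨C_G(Z_J), all FF-blocks over B⟩`.

```
MultiTwoL, MultiQL
├── (Om) KZ normalises a nontrivial 2-group: OmOf K c
│     q = 2: THEOREM SW (394, 590, 100, 323), at levels helper590;  q ≥ 4: THEOREM Y (350), (4F) (203, 87)
└── (E)  KZ normalises no nontrivial 2-group: EOf K c, c = the condition on (k, q)
      q = 2: k = 2, k ≥ 3;  q ≥ 4: k = 2, k ≥ 3
```

* `Mul`, `exists_mul`, `Mul.fam`, `Mul.cases`;
* `multiTwoL_of`, `multiQL_of`;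
* `K_eq` : `q = 2`: `KZ = ⟨C_G(Z_J), L_1, .., L_k⟩`;
* `omOf_of` : (Om) = stage `-1` (`OmNeg`) and stage `n` (`OmLev`); `noOm_neg`, `omNeg_two` : `OmNeg` for `q = 2`, modulo
  `SitFalse`.
-/

set_option autoImplicit false
set_option linter.unusedSectionVars false

namespace Cfsg.Agent.Omega.Node.MultiOf

open Subgroup Cfsg Cfsg.Agent.ZN.ChoiceBase Cfsg.Agent.ZN.ChoiceSit
open Cfsg.Agent.ZN (jj zj bau zc zl o2)
open Cfsg.Agent.Omega.FFThm (NatK NatKM)
open Cfsg.Agent.Omega.FrameFF (cv)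
open Cfsg.Agent.Omega.LemmaK (Block)
open Cfsg.Agent.Omega.NO3S (HypL HypN HypJ Hyp PSS)
open Cfsg.Agent.Omega.NO3S.Level (lev)
open Cfsg.Agent.Omega.Frame (Cls)
open Cfsg.Agent.Omega.NO3S.EThree.Frame (Bg Fg)
open Cfsg.Agent.Omega.OM
open Cfsg.Agent.Omega.OM.Uni (FB)
open Cfsg.Agent.Omega.OM.LevD (LB)
open Cfsg.Agent.Omega.OM.Swap (SitFalse)

universe u

section defs

variable {G : Type u} [Group G]

/-- `L` is an FF-block over `B` with module `V`. -/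
structure FBl (B L V : Subgroup G) : Prop where
  fb : ∃ Z q, FB B L V Z q
  blk : Block 2 B L V

theorem FBl.conj {B L V : Subgroup G} (h : FBl B L V) {n : G} (hn : n ∈ normalizer (B : Set G)) :
    FBl B (cj n L) (cj n V) := by
  obtain ⟨Z, q, hF⟩ := h.fb
  have e := cj_eq_of_mem_normalizer hn
  refine ⟨⟨cj n Z, q, ?_⟩, ?_⟩
  · have := hF.conj n
    rwa [e] at this
  · have := BlkGen.block_conj h.blk n
    rwa [e] at this

/-- `K0 = ⟨C_G(Z_J), all FF-blocks over B⟩` -/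
def KZ (B ZJ : Subgroup G) : Subgroup G := LevD.K0 ZJ (FBl B)

/-- `H` normalises no nontrivial 2-subgroup. -/
def NLoc (H : Subgroup G) : Prop :=
  ∀ R : Subgroup G, IsPGroup 2 R → H ≤ normalizer (R : Set G) → R = ⊥

theorem NLoc.mono {H K : Subgroup G} (h : NLoc H) (hK : H ≤ K) : NLoc K := fun R hR hKR => h R hR (hK.trans hKR)

variable [Finite G]

/-- The level `(K, B, Z_J)` of `P`. -/
inductive StgP (S : Sylow 2 G) (P : Subgroup G) : Subgroup G → Subgroup G → Subgroup G → Prop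
  | neg (h : ¬ jj (S : Subgroup G) ≤ o2 P) : StgP S P (jj (S : Subgroup G)) (bau (S : Subgroup G)) (zj (S : Subgroup G))
  | lev (n : ℕ) (hall : ∀ R, MinPar.IsParS (S : Subgroup G) R → lev (S : Subgroup G) n ≤ o2 R)
      (hn : lev (S : Subgroup G) n ≤ o2 P) (hn1 : ¬ lev (S : Subgroup G) (n + 1) ≤ o2 P) :
      StgP S P (lev (S : Subgroup G) (n + 1))
        ((S : Subgroup G) ⊓ centralizer (zc (lev (S : Subgroup G) (n + 1)) : Set G))
        (zc (lev (S : Subgroup G) (n + 1)))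

theorem StgP.lb {S : Sylow 2 G} {P K B ZJ : Subgroup G} (h : StgP S P K B ZJ) : LB S K B ZJ := by
  cases h with
  | neg h => exact LB.neg S
  | lev n _ _ _ => exact LB.lev S (n + 1)

/-- **Several natural blocks.** `V_P = W 1 × .. × W k`, the level and the frame. -/
structure Mul (S : Sylow 2 G) (P K B ZJ : Subgroup G) {k : ℕ} (L W Z C : Fin k → Subgroup G) (q : ℕ) : Prop where
  hyp : HypL S P
  stg : StgP S P K B ZJ
  bg : Bg S P B ZJ L W Z C q
  /-- the field -/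
  nat : ∃ (F : Type) (_ : Field F) (_ : Finite F) (_ : CharP F 2), Nat.card F = q ∧
    Nonempty (NatKM F (S : Subgroup G) P (zl (S : Subgroup G) P) (cv (S : Subgroup G) P) k)

theorem exists_mul {S : Sylow 2 G} {P : Subgroup G} (h : HypL S P) {F : Type} [Field F] [Finite F] [CharP F 2]
    {k : ℕ} (hk : 2 ≤ k) (N : NatKM F (S : Subgroup G) P (zl (S : Subgroup G) P) (cv (S : Subgroup G) P) k) :
    ∃ (K B ZJ : Subgroup G) (L W Z C : Fin k → Subgroup G), Mul S P K B ZJ L W Z C (Nat.card F) := by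
  rcases h.stage with hj | ⟨n, hn, hn1⟩
  · obtain ⟨L, W, Z, C, hB⟩ := Lev.Main.bg_J ⟨h.toHypN, hj⟩ hk N.toNatK
    exact ⟨_, _, _, L, W, Z, C, h, StgP.neg hj, hB, F, inferInstance, inferInstance, inferInstance, rfl, ⟨N⟩⟩
  · obtain ⟨M, L, Z, A, -, -, hB, -⟩ := Lev.Main.bg_lev h.toHypN (hn P h.star) hn1 hk N rfl
    exact ⟨_, _, _, L, _, Z, _, h, StgP.lev n hn (hn P h.star) hn1, hB, F, inferInstance, inferInstance,
      inferInstance, rfl, ⟨N⟩⟩

end defs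

/-- `V = ∏ W i` -/
theorem Fg_V_le {G : Type u} [Group G] {ι : Type*} [Finite ι] {B Q V ZJ : Subgroup G}
    {L W Z C : ι → Subgroup G} {q : ℕ} (h : Fg B Q V ZJ L W Z C q) : V ≤ ⨆ i, W i := by
  classical
  have : Fintype ι := Fintype.ofFinite ι
  have key : ∀ s : Finset ι, ∀ v ∈ V, ∃ w ∈ (⨆ i, W i), w ∈ V ∧ ∀ i ∈ s, w⁻¹ * v ∈ C i := by
    intro s
    induction s using Finset.induction_on with
    | empty => exact fun v _ => ⟨1, one_mem _, one_mem _, fun i hi => by simp at hi⟩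
    | insert j s hj ih =>
      intro v hv
      obtain ⟨w, hw, hwV, hwC⟩ := ih v hv
      obtain ⟨a, ha, c, hc, e⟩ := h.WC j (w⁻¹ * v) (mul_mem (inv_mem hwV) hv)
      refine ⟨w * a, mul_mem hw ((le_iSup W j) ha), mul_mem hwV (h.WV j ha), fun i hi => ?_⟩
      have e1 : (w * a)⁻¹ * v = a⁻¹ * (w⁻¹ * v) := by group
      rw [e1]
      rcases Finset.mem_insert.1 hi with rfl | hi
      · rw [e]
        have : a⁻¹ * (a * c) = c := by group
        rw [this]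
        exact hc
      · have hij : i ≠ j := fun e => hj (e ▸ hi)
        exact mul_mem (inv_mem (h.WjC i j hij ha)) (hwC i hi)
  intro v hv
  obtain ⟨w, hw, hwV, hwC⟩ := key Finset.univ v hv
  have h1 := h.C0 (w⁻¹ * v) (mul_mem (inv_mem hwV) hv) fun i => hwC i (Finset.mem_univ i)
  have h2 : v = w := (inv_mul_eq_one.1 h1).symm
  rw [h2]
  exact hw

namespace Mul

variable {G : Type u} [Group G] [Finite G] {S : Sylow 2 G} {P K B ZJ : Subgroup G} {k : ℕ}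
  {L W Z C : Fin k → Subgroup G} {q : ℕ} (h : Mul S P K B ZJ L W Z C q)
include h

theorem lb : LB S K B ZJ := h.stg.lb

theorem fbl (i : Fin k) : FBl B (L i) (W i) := ⟨⟨_, _, h.bg.fr.blk i⟩, h.bg.block i⟩

theorem fam : LevD.Fam B ZJ (FBl B) where
  blk := fun _ _ hb => hb.blk
  conj := fun _ hn _ _ hb => hb.conj hn
  zj_le := by
    refine (h.bg.fr.ZJV.trans (Fg_V_le h.bg.fr)).trans (iSup_le fun i => ?_)
    exact le_iSup (fun i : {x : Subgroup G × Subgroup G // FBl B x.1 x.2} => i.1.2) ⟨(L i, W i), h.fbl i⟩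

theorem L_le (i : Fin k) : L i ≤ KZ B ZJ := LevD.blk_le_K0 (h.fbl i)

omit h [Finite G] in
theorem cent_le : centralizer (ZJ : Set G) ≤ KZ B ZJ := LevD.cent_le_K0

/-- **the dichotomy** -/
theorem cases : NLoc (KZ B ZJ) ∨ (o2 (KZ B ZJ) ≠ ⊥ ∧ o2 (KZ B ZJ) ≤ B ∧
    KZ B ZJ ⊔ normalizer (B : Set G) ≤ normalizer (o2 (KZ B ZJ) : Set G)) := by
  by_cases h0 : NLoc (KZ B ZJ)
  · exact Or.inl h0
  · right
    unfold NLoc at h0
    push Not at h0
    obtain ⟨R, hR, hRn, hR1⟩ := h0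
    exact LevD.Fam.dich h.lb h.fam hR hR1 hRn

end Mul

/-! ### Sockets -/

section sockets

variable (K : Cls.{u}) (c : ℕ → ℕ → Prop)

/-- **(Om)**, for the `(k, q)` with `c k q`. -/
def OmOf : Prop :=
  ∀ (G : Type u) [Group G] [Finite G], K G → ∀ (S : Sylow 2 G) (P K' B ZJ : Subgroup G) (k : ℕ)
    (L W Z C : Fin k → Subgroup G) (q : ℕ), 2 ≤ k → c k q → Mul S P K' B ZJ L W Z C q →
      o2 (KZ B ZJ) ≠ ⊥ → o2 (KZ B ZJ) ≤ B →
      KZ B ZJ ⊔ normalizer (B : Set G) ≤ normalizer (o2 (KZ B ZJ) : Set G) → IsKnownSimple' G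

/-- **(Om)**, stage `-1`, for the `(k, q)` with `c k q`. -/
def OmNeg : Prop :=
  ∀ (G : Type u) [Group G] [Finite G], K G → ∀ (S : Sylow 2 G) (P : Subgroup G) (k : ℕ), HypL S P → HypJ S P → 2 ≤ k →
    ∀ (F : Type) [Field F] [Finite F] [CharP F 2], c k (Nat.card F) →
      NatKM F (S : Subgroup G) P (zl (S : Subgroup G) P) (cv (S : Subgroup G) P) k →
        o2 (KZ (bau (S : Subgroup G)) (zj (S : Subgroup G))) ≠ ⊥ → IsKnownSimple' G

/-- **(Om)**, stage `n`, for the `(k, q)` with `c k q`; `B = C_S(ZJ)`, `ZJ = Ω₁(Z(lev S (n + 1)))`. -/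
def OmLev : Prop :=
  ∀ (G : Type u) [Group G] [Finite G], K G → ∀ (S : Sylow 2 G) (P : Subgroup G) (k : ℕ), HypL S P → ∀ n : ℕ,
    (∀ R, MinPar.IsParS (S : Subgroup G) R → lev (S : Subgroup G) n ≤ o2 R) →
    ¬ lev (S : Subgroup G) (n + 1) ≤ o2 P → 2 ≤ k →
    ∀ (F : Type) [Field F] [Finite F] [CharP F 2], c k (Nat.card F) →
      NatKM F (S : Subgroup G) P (zl (S : Subgroup G) P) (cv (S : Subgroup G) P) k →
        ∀ B ZJ : Subgroup G, ZJ = zc (lev (S : Subgroup G) (n + 1)) →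
          B = (S : Subgroup G) ⊓ centralizer (zc (lev (S : Subgroup G) (n + 1)) : Set G) →
          o2 (KZ B ZJ) ≠ ⊥ → IsKnownSimple' G

/-- **(E)**, for the `(k, q)` with `c k q`. -/
def EOf : Prop :=
  ∀ (G : Type u) [Group G] [Finite G], K G → ∀ (S : Sylow 2 G) (P K' B ZJ : Subgroup G) (k : ℕ)
    (L W Z C : Fin k → Subgroup G) (q : ℕ), 2 ≤ k → c k q → Mul S P K' B ZJ L W Z C q →
      NLoc (KZ B ZJ) → IsKnownSimple' G

end sockets

variable {K : Cls.{u}}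

theorem omOf_of {c : ℕ → ℕ → Prop} (h1 : OmNeg K c) (h2 : OmLev K c) : OmOf K c := by
  intro G _ _ hK S P K' B ZJ k L W Z C q hk hc hM ho _ _
  obtain ⟨F, _, _, _, rfl, ⟨N⟩⟩ := hM.nat
  cases hM.stg with
  | neg hj => exact h1 G hK S P k hM.hyp ⟨hM.hyp.toHypN, hj⟩ hk F hc N ho
  | lev n hall hn hn1 => exact h2 G hK S P k hM.hyp n hall hn1 hk F hc N _ _ rfl rfl ho

theorem known_of {c : ℕ → ℕ → Prop} (hO : OmOf K c) (hE : EOf K c) (G : Type u) [Group G] [Finite G] (hK : K G)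
    (S : Sylow 2 G) (P : Subgroup G) (h : HypL S P) (F : Type) [Field F] [Finite F] [CharP F 2] (k : ℕ)
    (hk : 2 ≤ k) (hc : c k (Nat.card F))
    (N : NatKM F (S : Subgroup G) P (zl (S : Subgroup G) P) (cv (S : Subgroup G) P) k) : IsKnownSimple' G := by
  obtain ⟨K', B, ZJ, L, W, Z, C, hM⟩ := exists_mul h hk N
  rcases hM.cases with h1 | ⟨h1, h2, h3⟩
  · exact hE G hK S P K' B ZJ k L W Z C _ hk hc hM h1
  · exact hO G hK S P K' B ZJ k L W Z C _ hk hc hM h1 h2 h3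

/-- **`MultiTwoL`** -/
theorem multiTwoL_of (hO : OmOf K fun _ q => q = 2) (hE : EOf K fun k q => k = 2 ∧ q = 2)
    (hE' : EOf K fun k q => 3 ≤ k ∧ q = 2) : NO3S.MultiTwoL K := by
  intro G _ _ hK S P h F _ _ _ k hk hq N
  refine known_of (c := fun _ q => q = 2) hO ?_ G hK S P h F k hk hq N
  intro G _ _ hK S P K' B ZJ k L W Z C q hk hq hM hN
  rcases Nat.lt_or_ge k 3 with hk3 | hk3
  · exact hE G hK S P K' B ZJ k L W Z C q hk ⟨by omega, hq⟩ hM hN
  · exact hE' G hK S P K' B ZJ k L W Z C q hk ⟨hk3, hq⟩ hM hN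

/-- **`MultiQL`** -/
theorem multiQL_of (hO : OmOf K fun _ q => 4 ≤ q) (hE : EOf K fun k q => k = 2 ∧ 4 ≤ q)
    (hE' : EOf K fun k q => 3 ≤ k ∧ 4 ≤ q) : NO3S.MultiQL K := by
  intro G _ _ hK S P h F _ _ _ k hk hq N
  refine known_of (c := fun _ q => 4 ≤ q) hO ?_ G hK S P h F k hk hq N
  intro G _ _ hK S P K' B ZJ k L W Z C q hk hq hM hN
  rcases Nat.lt_or_ge k 3 with hk3 | hk3
  · exact hE G hK S P K' B ZJ k L W Z C q hk ⟨by omega, hq⟩ hM hN
  · exact hE' G hK S P K' B ZJ k L W Z C q hk ⟨hk3, hq⟩ hM hN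

/-! ### `q = 2` -/

section two

variable {G : Type u} [Group G] [Finite G] {S : Sylow 2 G} {P K' B ZJ : Subgroup G} {k : ℕ}
  {L W Z C : Fin k → Subgroup G}

/-- UNI+ for `q = 2` -/
def UniTwo (B ZJ : Subgroup G) {k : ℕ} (L W : Fin k → Subgroup G) : Prop :=
  ∀ L' V' : Subgroup G, FBl B L' V' →
    ∃ i, V' = W i ∧ L' ≤ L i ⊔ centralizer ((W i ⊔ ZJ : Subgroup G) : Set G)

theorem K_eq (h : Mul S P K' B ZJ L W Z C 2) (hu : UniTwo B ZJ L W) :
    KZ B ZJ = centralizer (ZJ : Set G) ⊔ ⨆ i, L i := by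
  apply le_antisymm
  · refine sup_le le_sup_left (iSup_le ?_)
    rintro ⟨⟨L', V'⟩, hb⟩
    obtain ⟨i, -, hle⟩ := hu L' V' hb
    refine hle.trans (sup_le (le_sup_of_le_right (le_iSup L i)) (le_sup_of_le_left (centralizer_le ?_)))
    exact_mod_cast (le_sup_right : ZJ ≤ W i ⊔ ZJ)
  · exact sup_le Mul.cent_le (iSup_le fun i => h.L_le i)

/-- stage `-1`: `KZ = K0 S` -/
theorem KZ_neg (S : Sylow 2 G) : KZ (bau (S : Subgroup G)) (zj (S : Subgroup G)) =
    Dich.K0 (S : Subgroup G) (BlkGen.FBlk (S : Subgroup G)) := by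
  apply le_antisymm
  · refine sup_le Dich.cent_le_K0 (iSup_le fun i => ?_)
    exact Dich.blk_le_K0 (S := S) (V := i.1.2) ⟨i.2.fb, i.2.blk⟩
  · refine sup_le LevD.cent_le_K0 (iSup_le fun i => ?_)
    exact LevD.blk_le_K0 (V := i.1.2) ⟨i.2.fb, i.2.blk⟩

/-- **(Om) is impossible for `q = 2` at stage `-1`** (THEOREM SW). -/
theorem noOm_neg (hs : SitFalse.{u}) (hFF : FFThm.Stmt.{u}) (hA : FFBr.AStmt.{u}) (h : HypJ S P) (hk : 2 ≤ k)
    {F : Type} [Field F] [Finite F] [CharP F 2] (hF : Nat.card F = 2)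
    (N : NatK F (S : Subgroup G) P (zl (S : Subgroup G) P) (cv (S : Subgroup G) P) k) :
    NLoc (KZ (bau (S : Subgroup G)) (zj (S : Subgroup G))) := by
  obtain ⟨L, W, Z, C, A, -, -, -, -, hL⟩ := OM.Line.exists_nat h hk N
  rw [hF] at hL
  have h1 := Swap.noOm hs hL (Swap.mf hL) hFF hA
  rw [KZ_neg]
  exact h1

end two

/-- (Om), stage `-1`, `q = 2`, modulo `SitFalse`. -/
theorem omNeg_two (hs : SitFalse.{u}) (hFF : FFThm.Stmt.{u}) (hA : FFBr.AStmt.{u}) : OmNeg K fun _ q => q = 2 := by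
  intro G _ _ hK S P k h hJ hk F _ _ _ hF N ho
  exact absurd (noOm_neg hs hFF hA hJ hk hF N.toNatK _ (isPGroup_o2 _) (le_normalizer_o2 _)) ho

end Cfsg.Agent.Omega.Node.MultiOf
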