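import Cfsg.Agent.Omega.Node.OmLevOf
import Cfsg.Agent.Omega.OM.SwapL.MainZ

/-!
# NO-3S, (Om), symmetric types: no hypothesis

* `noOm_lev` : (Om) is impossible at stage `n` over the ground frame;
* `omLevS_two : OmLevS K c`, `omS_two : OmS K c`.
-/

set_option autoImplicit false

namespace Cfsg.Agent.Omega.Node.OmLevZ

open Subgroup Cfsg Cfsg.Agent.ZN.ChoiceBase Cfsg.Agent.ZN.ChoiceSit
open Cfsg.Agent.ZN (jj zj bau zc zl o2)
open Cfsg.Agent.Omega.FFThm (SymKM)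
open Cfsg.Agent.Omega.FrameFF (cv)
open Cfsg.Agent.Omega.NO3S (HypL HypN HypJ Hyp PSS)
open Cfsg.Agent.Omega.NO3S.Level (lev lev_isLev)
open Cfsg.Agent.Omega.Frame (Cls)
open Cfsg.Agent.Omega.OM
open Cfsg.Agent.Omega.OM.LevD (Fam)
open Cfsg.Agent.Omega.OM.LevB (FBlk)
open Cfsg.Agent.Omega.OM.SwapL (BL ZL Ln K0_eq)
open Cfsg.Agent.Omega.Node.MultiOf Cfsg.Agent.Omega.Node.SymOf

universe u

/-- **(Om) is impossible at stage `n`, `q = 2`**, frame level. -/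
theorem noOm_lev {G : Type u} [Group G] [Finite G] {S : Sylow 2 G} {P : Subgroup G} {n : ℕ} {ι : Type} [Finite ι]
    {L W Z C A : ι → Subgroup G} (h : Ln S P n L W Z C A 2) (hn1 : ¬ lev (S : Subgroup G) (n + 1) ≤ o2 P)
    (hF : Fam (BL (S : Subgroup G) n) (ZL (S : Subgroup G) n) (FBl (BL (S : Subgroup G) n)))
    (hL : ∀ i, FBl (BL (S : Subgroup G) n) (L i) (W i)) :
    NLoc (KZ (BL (S : Subgroup G) n) (ZL (S : Subgroup G) n)) := by
  have hfam : Fam (BL (S : Subgroup G) n) (ZL (S : Subgroup G) n) (FBlk (BL (S : Subgroup G) n)) := by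
    rw [OmLevOf.fblk_eq]
    exact hF
  have h1 := SwapL.noOm_two h hn1 hfam (fun i => by rw [K0_eq]; exact LevD.blk_le_K0 (hL i))
  rw [K0_eq] at h1
  exact h1

variable {K : Cls.{u}}

/-- **(Om), stage `n`, symmetric types.** -/
theorem omLevS_two {c : ℕ → ℕ → Prop} : OmLevS K c := by
  intro G _ _ _ S P k m h n hall hn1 hk hm _ N B ZJ eZ eB ho
  subst eZ
  subst eB
  obtain ⟨ι, hι, W, d, t, r, L, A, -, -, -, -, h2, hFr⟩ := Lev.Sym.exists_sym_lev FF.Glob.ffthmM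
      h.toHyp.ctx.char2 h.star (lev_isLev (S : Subgroup G) n) (hall P h.star) h.toHyp.inf_eq_bot
      (NO3S.exists_BO h.toHyp.ctx.char2 h.star (hall P h.star) hn1) hk hm N
  have hM : MulS S P _ _ _ L W _ _ k m :=
    ⟨h, StgP.lev n hall (hall P h.star) hn1, ⟨N⟩, Lev.Main.toFg hFr, hι, h2⟩
  have hln : Ln S P n L W _ _ A 2 := ⟨h.toHypN, hall P h.star, hFr, h2⟩
  exact absurd (noOm_lev hln hn1 hM.fam hM.fbl _ (isPGroup_o2 _) (le_normalizer_o2 _)) ho

/-- **(Om), symmetric types, all stages.** -/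
theorem omS_two {c : ℕ → ℕ → Prop} : OmS K c := omS_of (OmLevOf.omNegS K c) omLevS_two

end Cfsg.Agent.Omega.Node.OmLevZ
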