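import Cfsg.Agent.Omega.Node.SymOf
import Cfsg.Agent.Omega.NO3S.Sym.Light

/-!
# `SymTwoL` (`V_P` = even subsets of `{1..5}`) from (Om) and the light case (E)

`ELight K` : (E) with light vectors which are not 2-central (`FiveL`); `symTwoL_of_light : Two K → OmS K (1, 2) →
ELight K → SymTwoL K`.
-/

set_option autoImplicit false

namespace Cfsg.Agent.Omega.Node.SymOf

open Subgroup Cfsg Cfsg.Agent.ZN.ChoiceBase Cfsg.Agent.ZN.ChoiceSit
open Cfsg.Agent.ZN (jj zj bau zc zl o2)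
open Cfsg.Agent.Omega.NO3S (HypL HypN HypJ Hyp PSS)
open Cfsg.Agent.Omega.Frame (Cls)
open Cfsg.Agent.Omega.Node.MultiOf

universe u

/-- **(E)**, `V_P` = even subsets of `{1..5}`, light vectors not 2-central. -/
def ELight (K : Cls.{u}) : Prop :=
  ∀ (G : Type u) [Group G] [Finite G], K G → ∀ (S : Sylow 2 G) (P K' B ZJ : Subgroup G) (ι : Type)
    (L W Z C : ι → Subgroup G), MulS S P K' B ZJ L W Z C 1 2 → NLoc (KZ B ZJ) →
      ∀ p : Fin 5 → G, NO3S.Sym.Light.FiveL S P p → IsKnownSimple' G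

variable {K : Cls.{u}}

/-- (E) from the light case. -/
theorem eS_of_light (h2 : NO3S.Two K) (hl : ELight K) : ES K fun k m => k = 1 ∧ m = 2 := by
  intro G _ _ hK S P K' B ZJ ι L W Z C k m _ _ hkm hM hN
  obtain ⟨rfl, rfl⟩ := hkm
  obtain ⟨M⟩ := hM.sym
  obtain ⟨p, hp⟩ := NO3S.Sym.Exit.exists_five hM.hyp.toHyp M.toSymK
  by_cases hc : ∃ T₀ : Sylow 2 G, ∀ x ∈ (T₀ : Subgroup G), x * NTwo.nn p * x⁻¹ = NTwo.nn p
  · obtain ⟨T₀, hT₀⟩ := hc
    exact NO3S.Sym.Exit.known_of_central h2 hK hp T₀ hT₀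
  · push Not at hc
    exact hl G hK S P K' B ZJ ι L W Z C hM hN p ⟨hp, fun T₀ h0 => by
      obtain ⟨x, hx, h1⟩ := hc T₀
      exact h1 (h0 x hx)⟩

/-- **`SymTwoL`** from (Om) and the light case (E). -/
theorem symTwoL_of_light (h2 : NO3S.Two K) (hO : OmS K fun k m => k = 1 ∧ m = 2) (hl : ELight K) :
    NO3S.SymTwoL K := symTwoL_of hO (eS_of_light h2 hl)

end Cfsg.Agent.Omega.Node.SymOf
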