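import Cfsg.Agent.Omega.Node.SymOf
import Cfsg.Agent.Omega.OM.SwapL.Main
import Cfsg.Agent.Omega.OM.SwapL.BG

/-!
# NO-3S, (Om), symmetric types: THEOREM SW in the form of the sockets (natural types: `OM/SwapL/Main.lean`, helper590)

* `omNegS K c : OmNegS K c` (no hypothesis);
* `LowS K c` : **LL** for symmetric types, in the local groups `M ≥ K0, N_G(B)`;
* `omLevS : LowS K c → OmLevS K c`, `omS : LowS K c → OmS K c`;
* `lowS_of_bg`, `lowTwo_of_bg` : `LowS`, `LowTwo` from `SwapL.BG`.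
-/

set_option autoImplicit false

namespace Cfsg.Agent.Omega.Node.OmLevOf

open Subgroup Cfsg Cfsg.Agent.ZN.ChoiceBase Cfsg.Agent.ZN.ChoiceSit
open Cfsg.Agent.ZN (jj zj bau zc zl o2)
open Cfsg.Agent.Omega.FFThm (NatK NatKM SymK SymKM)
open Cfsg.Agent.Omega.FrameFF (cv)
open Cfsg.Agent.Omega.NO3S (HypL HypN HypJ Hyp PSS)
open Cfsg.Agent.Omega.NO3S.Level (lev lev_isLev)
open Cfsg.Agent.Omega.Frame (Cls)
open Cfsg.Agent.Omega.OM
open Cfsg.Agent.Omega.OM.LevD (Fam)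
open Cfsg.Agent.Omega.OM.LevB (FBlk)
open Cfsg.Agent.Omega.OM.SwapL (BL ZL Ln Low BG SitFFalse sitFFalse K0_eq LowTwo)
open Cfsg.Agent.Omega.Node.MultiOf Cfsg.Agent.Omega.Node.SymOf

universe u

theorem fblk_eq {G : Type u} [Group G] (B : Subgroup G) : FBlk B = FBl B := by
  funext L V
  exact propext ⟨fun h => ⟨h.fb, h.blk⟩, fun h => ⟨h.fb, h.blk⟩⟩

section one

variable {G : Type u} [Group G] [Finite G] {S : Sylow 2 G} {P : Subgroup G} {n : ℕ} {ι : Type} [Finite ι]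
  {L W Z C A : ι → Subgroup G}

/-- **(Om) is impossible at stage `n`, `q = 2`**, frame level. -/
theorem noOm_lev (h : Ln S P n L W Z C A 2) (hn1 : ¬ lev (S : Subgroup G) (n + 1) ≤ o2 P)
    (hF : Fam (BL (S : Subgroup G) n) (ZL (S : Subgroup G) n) (FBl (BL (S : Subgroup G) n)))
    (hL : ∀ i, FBl (BL (S : Subgroup G) n) (L i) (W i))
    (hl : ∀ M : Subgroup G, KZ (BL (S : Subgroup G) n) (ZL (S : Subgroup G) n) ≤ M →
      normalizer (BL (S : Subgroup G) n : Set G) ≤ M → o2 M ≠ ⊥ → Low S n M) :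
    NLoc (KZ (BL (S : Subgroup G) n) (ZL (S : Subgroup G) n)) := by
  have hfam : Fam (BL (S : Subgroup G) n) (ZL (S : Subgroup G) n) (FBlk (BL (S : Subgroup G) n)) := by
    rw [fblk_eq]
    exact hF
  have h1 := SwapL.noOm sitFFalse h hn1 hfam (fun i => by rw [K0_eq]; exact LevD.blk_le_K0 (hL i)) fun M hM hN ho => by
    rw [K0_eq] at hM
    exact hl M hM hN ho
  rw [K0_eq] at h1
  exact h1

end one

section sockets

variable (K : Cls.{u})

/-- **LL for symmetric types** : in a local group `M ≥ K0, N_G(B)` (as in (Om)), the minimal parabolics `Y` of smaller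
stage over a 2-group `T ≥ B` which move `Ω₁Z(T)` lie in `M`. -/
def LowS (c : ℕ → ℕ → Prop) : Prop :=
  ∀ (G : Type u) [Group G] [Finite G], K G → ∀ (S : Sylow 2 G) (P : Subgroup G) (k m : ℕ), HypL S P → ∀ n : ℕ,
    (∀ R, MinPar.IsParS (S : Subgroup G) R → lev (S : Subgroup G) n ≤ o2 R) →
    ¬ lev (S : Subgroup G) (n + 1) ≤ o2 P → 0 < k → 2 ≤ m → c k m →
      SymKM (S : Subgroup G) P (zl (S : Subgroup G) P) (cv (S : Subgroup G) P) k m →
        ∀ M : Subgroup G, KZ (BL (S : Subgroup G) n) (ZL (S : Subgroup G) n) ≤ M →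
          normalizer (BL (S : Subgroup G) n : Set G) ≤ M → o2 M ≠ ⊥ → Low S n M

/-- **(Om) is impossible at stage `-1`, symmetric types.** -/
theorem omNegS (c : ℕ → ℕ → Prop) : OmNegS K c := SymOf.omNegS Swap.sitFalse FF.Glob.ffthm FF.Glob.aStmt c

end sockets

variable {K : Cls.{u}}

/-- (Om), stage `n`, symmetric types. -/
theorem omLevS {c : ℕ → ℕ → Prop} (hl : LowS K c) : OmLevS K c := by
  intro G _ _ hK S P k m h n hall hn1 hk hm hc N B ZJ eZ eB ho
  subst eZ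
  subst eB
  obtain ⟨ι, hι, W, d, t, r, L, A, -, -, -, -, h2, hFr⟩ := Lev.Sym.exists_sym_lev FF.Glob.ffthmM
      h.toHyp.ctx.char2 h.star (lev_isLev (S : Subgroup G) n) (hall P h.star) h.toHyp.inf_eq_bot
      (NO3S.exists_BO h.toHyp.ctx.char2 h.star (hall P h.star) hn1) hk hm N
  have hM : MulS S P _ _ _ L W _ _ k m :=
    ⟨h, StgP.lev n hall (hall P h.star) hn1, ⟨N⟩, Lev.Main.toFg hFr, hι, h2⟩
  have hln : Ln S P n L W _ _ A 2 := ⟨h.toHypN, hall P h.star, hFr, h2⟩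
  have h1 := noOm_lev hln hn1 hM.fam hM.fbl (hl G hK S P k m h n hall hn1 hk hm hc N)
  exact absurd (h1 _ (isPGroup_o2 _) (le_normalizer_o2 _)) ho

/-- **(Om), symmetric types, all stages.** -/
theorem omS {c : ℕ → ℕ → Prop} (hl : LowS K c) : OmS K c := omS_of (omNegS K c) (omLevS hl)

/-- `LowS` from `SwapL.BG`. -/
theorem lowS_of_bg {c : ℕ → ℕ → Prop} (h : ∀ (G : Type u) [Group G] [Finite G], K G →
    ∀ (S : Sylow 2 G) (P : Subgroup G) (k m : ℕ), HypL S P → ∀ n : ℕ,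
    (∀ R, MinPar.IsParS (S : Subgroup G) R → lev (S : Subgroup G) n ≤ o2 R) →
    ¬ lev (S : Subgroup G) (n + 1) ≤ o2 P → 0 < k → 2 ≤ m → c k m →
      SymKM (S : Subgroup G) P (zl (S : Subgroup G) P) (cv (S : Subgroup G) P) k m →
        BG S n (FBl (BL (S : Subgroup G) n))) : LowS K c :=
  fun G _ _ hK S P k m hP n hall hn1 hk hm hc N _ hM hN _ =>
    (h G hK S P k m hP n hall hn1 hk hm hc N).low hM hN

/-- `LowTwo` from `SwapL.BG`. -/
theorem lowTwo_of_bg (h : ∀ (G : Type u) [Group G] [Finite G], K G →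
    ∀ (S : Sylow 2 G) (P : Subgroup G) (k : ℕ), HypL S P → ∀ n : ℕ,
    (∀ R, MinPar.IsParS (S : Subgroup G) R → lev (S : Subgroup G) n ≤ o2 R) →
    ¬ lev (S : Subgroup G) (n + 1) ≤ o2 P → 2 ≤ k →
    ∀ (F : Type) [Field F] [Finite F] [CharP F 2], Nat.card F = 2 →
      NatKM F (S : Subgroup G) P (zl (S : Subgroup G) P) (cv (S : Subgroup G) P) k →
        BG S n (FBl (BL (S : Subgroup G) n))) : LowTwo K :=
  fun G _ _ hK S P k hP n hall hn1 hk F _ _ _ hF N _ hM hN _ =>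
    (h G hK S P k hP n hall hn1 hk F hF N).low hM hN

end Cfsg.Agent.Omega.Node.OmLevOf
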