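import Cfsg.Agent.Omega.Node.MulG
import Cfsg.Agent.Omega.Node.OmLevOf
import Cfsg.Agent.Omega.Node.LightOf

/-!
# `SymTwo`, `SymBig`, `SymMany` over a frame: `HypL` and the case (L) of GammaFF at the same time

As `Node/MulG.lean` (helper388), for `V_P` = `k` even-subset modules of `S_{2^m+1}`: `MulSG` = `MulS`
(`Node/SymOf.lean`) with `HypF` for `HypL` and `StgG` for `StgP`.

* `MulS.toG`, `exists_mulSG_hypL`, `exists_mulSG_caseL`; `MulSG.lb/block/fbl/fam/L_le/cases`;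
* sockets `OmSH K H c`, `ESH K H c`, `FrmS H` (`H` gives `MulSG`), `symTwoH_of`, `symManyH_of`, `symBigH_of'`;
* `ELightH`, `symTwoH_of_light` : the light case (E) over a frame;
* `omSNeg` : (Om), stage `-1` (THEOREM SW); `OmLevSH K H c` : (Om) over `Top S P K₀`; `omSH_of`.
-/

set_option autoImplicit false
set_option linter.unusedSectionVars false

namespace Cfsg.Agent.Omega.Node.SymG

open Subgroup Cfsg Cfsg.Agent.ZN.ChoiceBase Cfsg.Agent.ZN.ChoiceSit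
open Cfsg.Agent.ZN (jj zj bau zc zl o2)
open Cfsg.Agent.Omega.MinPar (IsParS)
open Cfsg.Agent.Omega.FFThm (SymK SymKM)
open Cfsg.Agent.Omega.FrameFF (cv)
open Cfsg.Agent.Omega.LemmaK (Block)
open Cfsg.Agent.Omega.NO3S (HypL HypF HypN HypJ Hyp PSS FrP CaseLP SymTwoH SymBigH SymManyH)
open Cfsg.Agent.Omega.NO3S.Level (lev nxt Lev BO lev_isLev lev_wc wc_nxt CaseL)
open Cfsg.Agent.Omega.Frame (Cls)
open Cfsg.Agent.Omega.NO3S.EThree.Frame (Bg Fg)
open Cfsg.Agent.Omega.OM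
open Cfsg.Agent.Omega.OM.LevD (LB)
open Cfsg.Agent.Omega.Node.MultiOf
open Cfsg.Agent.Omega.Node.SymOf
open Cfsg.Agent.Omega.Node.MulG

universe u

section defs

variable {G : Type u} [Group G] [Finite G]

/-- **Symmetric blocks, general frame.** -/
structure MulSG (S : Sylow 2 G) (P K B ZJ : Subgroup G) {ι : Type} (L W Z C : ι → Subgroup G) (k m : ℕ) : Prop where
  hyp : HypF S P
  stg : StgG S P K B ZJ
  sym : Nonempty (SymKM (S : Subgroup G) P (zl (S : Subgroup G) P) (cv (S : Subgroup G) P) k m)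
  fr : Fg B (o2 P) (zl (S : Subgroup G) P) ZJ L W Z C 2
  fin : Finite ι
  two : ∀ i : ι, ∃ j, j ≠ i

theorem _root_.Cfsg.Agent.Omega.Node.SymOf.MulS.toG {S : Sylow 2 G} {P K B ZJ : Subgroup G} {ι : Type}
    {L W Z C : ι → Subgroup G} {k m : ℕ} (h : MulS S P K B ZJ L W Z C k m) : MulSG S P K B ZJ L W Z C k m :=
  ⟨h.hyp.toHypF, h.stg.toG, h.sym, h.fr, h.fin, h.two⟩

theorem exists_mulSG_hypL {S : Sylow 2 G} {P : Subgroup G} (h : HypL S P) {k m : ℕ} (hk : 0 < k) (hm : 2 ≤ m)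
    (N : SymKM (S : Subgroup G) P (zl (S : Subgroup G) P) (cv (S : Subgroup G) P) k m) :
    ∃ (K B ZJ : Subgroup G) (ι : Type) (L W Z C : ι → Subgroup G), MulSG S P K B ZJ L W Z C k m := by
  obtain ⟨K, B, ZJ, ι, L, W, Z, C, h1⟩ := exists_mulS h hk hm N
  exact ⟨K, B, ZJ, ι, L, W, Z, C, h1.toG⟩

/-- The frame in the case (L). -/
theorem exists_mulSG_caseL {S : Sylow 2 G} {P : Subgroup G} (h : CaseL S P) {k m : ℕ} (hk : 0 < k) (hm : 2 ≤ m)
    (N : SymKM (S : Subgroup G) P (zl (S : Subgroup G) P) (cv (S : Subgroup G) P) k m) :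
    ∃ (K B ZJ : Subgroup G) (ι : Type) (L W Z C : ι → Subgroup G), MulSG S P K B ZJ L W Z C k m := by
  obtain ⟨ι, hι, W, d, t, r, L, A, -, -, -, -, h2, hF⟩ := Lev.Sym.exists_sym_lev FF.Glob.ffthmM
    h.ctx.char2 h.pss.par h.levQ le_rfl h.hypN.toHyp.inf_eq_bot (exists_BO_caseL h) hk hm N
  exact ⟨_, _, _, ι, L, W, _, _, h.hypF, StgG.lev _ (top_caseL h), ⟨N⟩, Lev.Main.toFg hF, hι, h2⟩

namespace MulSG

variable {S : Sylow 2 G} {P K B ZJ : Subgroup G} {ι : Type} {L W Z C : ι → Subgroup G} {k m : ℕ}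
  (h : MulSG S P K B ZJ L W Z C k m)
include h

theorem lb : LB S K B ZJ := h.stg.lb

theorem block (i : ι) : Block 2 B (L i) (W i) := (h.fr.blk i).toBlock (h.fr.cardZ i) h.lb.Bp h.lb.weakNormal

theorem fbl (i : ι) : FBl B (L i) (W i) := ⟨⟨_, _, h.fr.blk i⟩, h.block i⟩

theorem fam : LevD.Fam B ZJ (FBl B) where
  blk := fun _ _ hb => hb.blk
  conj := fun _ hn _ _ hb => hb.conj hn
  zj_le := by
    have := h.fin
    refine (h.fr.ZJV.trans (Fg_V_le h.fr)).trans (iSup_le fun i => ?_)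
    exact le_iSup (fun i : {x : Subgroup G × Subgroup G // FBl B x.1 x.2} => i.1.2) ⟨(L i, W i), h.fbl i⟩

theorem L_le (i : ι) : L i ≤ KZ B ZJ := LevD.blk_le_K0 (h.fbl i)

/-- **the dichotomy** -/
theorem cases : NLoc (KZ B ZJ) ∨ (o2 (KZ B ZJ) ≠ ⊥ ∧ o2 (KZ B ZJ) ≤ B ∧
    KZ B ZJ ⊔ normalizer (B : Set G) ≤ normalizer (o2 (KZ B ZJ) : Set G)) := by
  by_cases h0 : NLoc (KZ B ZJ)
  · exact Or.inl h0
  · right
    unfold NLoc at h0
    push Not at h0
    obtain ⟨R, hR, hRn, hR1⟩ := h0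
    exact LevD.Fam.dich h.lb h.fam hR hR1 hRn

end MulSG

end defs

/-! ### Sockets over a frame `H` -/

section sockets

variable (K : Cls.{u}) (H : FrP.{u}) (c : ℕ → ℕ → Prop)

/-- **(Om)** over the frame `H`, for the `(k, m)` with `c k m`. -/
def OmSH : Prop :=
  ∀ (G : Type u) [Group G] [Finite G], K G → ∀ (S : Sylow 2 G) (P K' B ZJ : Subgroup G) (ι : Type)
    (L W Z C : ι → Subgroup G) (k m : ℕ), H G S P → 0 < k → 2 ≤ m → c k m → MulSG S P K' B ZJ L W Z C k m →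
      o2 (KZ B ZJ) ≠ ⊥ → o2 (KZ B ZJ) ≤ B →
      KZ B ZJ ⊔ normalizer (B : Set G) ≤ normalizer (o2 (KZ B ZJ) : Set G) → IsKnownSimple' G

/-- **(E)** over the frame `H`, for the `(k, m)` with `c k m`. -/
def ESH : Prop :=
  ∀ (G : Type u) [Group G] [Finite G], K G → ∀ (S : Sylow 2 G) (P K' B ZJ : Subgroup G) (ι : Type)
    (L W Z C : ι → Subgroup G) (k m : ℕ), H G S P → 0 < k → 2 ≤ m → c k m → MulSG S P K' B ZJ L W Z C k m →
      NLoc (KZ B ZJ) → IsKnownSimple' G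

/-- **(E)** over the frame `H`, `V_P` = even subsets of `{1..5}`, light vectors not 2-central. -/
def ELightH : Prop :=
  ∀ (G : Type u) [Group G] [Finite G], K G → ∀ (S : Sylow 2 G) (P K' B ZJ : Subgroup G) (ι : Type)
    (L W Z C : ι → Subgroup G), H G S P → MulSG S P K' B ZJ L W Z C 1 2 → NLoc (KZ B ZJ) →
      ∀ p : Fin 5 → G, NO3S.Sym.Light.FiveL S P p → IsKnownSimple' G

/-- **(Om)** over the frame `H`, level `K₀` (`Top S P K₀`), for the `(k, m)` with `c k m`. -/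
def OmLevSH : Prop :=
  ∀ (G : Type u) [Group G] [Finite G], K G → ∀ (S : Sylow 2 G) (P K₀ : Subgroup G) (ι : Type)
    (L W Z C : ι → Subgroup G) (k m : ℕ), H G S P → 0 < k → 2 ≤ m → c k m → Top S P K₀ →
      MulSG S P (nxt (S : Subgroup G) K₀) ((S : Subgroup G) ⊓ centralizer (zc (nxt (S : Subgroup G) K₀) : Set G))
        (zc (nxt (S : Subgroup G) K₀)) L W Z C k m →
      o2 (KZ ((S : Subgroup G) ⊓ centralizer (zc (nxt (S : Subgroup G) K₀) : Set G))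
        (zc (nxt (S : Subgroup G) K₀))) ≠ ⊥ → IsKnownSimple' G

end sockets

/-- `H` gives the general symmetric frame. -/
def FrmS (H : FrP.{u}) : Prop :=
  ∀ (G : Type u) [Group G] [Finite G] (S : Sylow 2 G) (P : Subgroup G), H G S P →
    ∀ (k m : ℕ), 0 < k → 2 ≤ m →
      SymKM (S : Subgroup G) P (zl (S : Subgroup G) P) (cv (S : Subgroup G) P) k m →
        ∃ (K B ZJ : Subgroup G) (ι : Type) (L W Z C : ι → Subgroup G), MulSG S P K B ZJ L W Z C k m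

theorem frmS_hypL : FrmS HypLP.{u} := fun _ _ _ _ _ h _ _ hk hm N => exists_mulSG_hypL h hk hm N

theorem frmS_caseL : FrmS CaseLP.{u} := fun _ _ _ _ _ h _ _ hk hm N => exists_mulSG_caseL h hk hm N

/-- The frame gives `Hyp`. -/
theorem FrmS.hyp {H : FrP.{u}} (hH : FrmS H) {G : Type u} [Group G] [Finite G] {S : Sylow 2 G} {P : Subgroup G}
    (h : H G S P) {k m : ℕ} (hk : 0 < k) (hm : 2 ≤ m)
    (N : SymKM (S : Subgroup G) P (zl (S : Subgroup G) P) (cv (S : Subgroup G) P) k m) : HypF S P := by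
  obtain ⟨_, _, _, _, _, _, _, _, h1⟩ := hH G S P h k m hk hm N
  exact h1.hyp

variable {K : Cls.{u}} {H : FrP.{u}}

theorem known_of (hH : FrmS H) {c : ℕ → ℕ → Prop} (hO : OmSH K H c) (hE : ESH K H c) (G : Type u) [Group G]
    [Finite G] (hK : K G) (S : Sylow 2 G) (P : Subgroup G) (h : H G S P) (k m : ℕ) (hk : 0 < k) (hm : 2 ≤ m)
    (hc : c k m) (N : SymKM (S : Subgroup G) P (zl (S : Subgroup G) P) (cv (S : Subgroup G) P) k m) :
    IsKnownSimple' G := by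
  obtain ⟨K', B, ZJ, ι, L, W, Z, C, hM⟩ := hH G S P h k m hk hm N
  rcases hM.cases with h1 | ⟨h1, h2, h3⟩
  · exact hE G hK S P K' B ZJ ι L W Z C _ _ h hk hm hc hM h1
  · exact hO G hK S P K' B ZJ ι L W Z C _ _ h hk hm hc hM h1 h2 h3

/-- **`SymTwoH K H`** -/
theorem symTwoH_of' (hH : FrmS H) (hO : OmSH K H fun k m => k = 1 ∧ m = 2) (hE : ESH K H fun k m => k = 1 ∧ m = 2) :
    SymTwoH K H := by
  intro G _ _ hK S P h N
  exact known_of hH (c := fun k m => k = 1 ∧ m = 2) hO hE G hK S P h 1 2 one_pos le_rfl ⟨rfl, rfl⟩ N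

/-- **`SymBigH K H`** -/
theorem symBigH_of' (hH : FrmS H) (hO : OmSH K H fun k m => k = 1 ∧ 3 ≤ m) (hE : ESH K H fun k m => k = 1 ∧ 3 ≤ m) :
    SymBigH K H := by
  intro G _ _ hK S P h m hm N
  exact known_of hH (c := fun k m => k = 1 ∧ 3 ≤ m) hO hE G hK S P h 1 m one_pos (by omega) ⟨rfl, hm⟩ N

/-- **`SymManyH K H`** -/
theorem symManyH_of' (hH : FrmS H) (hO : OmSH K H fun k _ => 2 ≤ k) (hE : ESH K H fun k _ => 2 ≤ k) :
    SymManyH K H := by
  intro G _ _ hK S P h k m hk hm N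
  exact known_of hH (c := fun k _ => 2 ≤ k) hO hE G hK S P h k m (by omega) hm hk N

/-- (E), `(k, m) = (1, 2)`, from the light case. -/
theorem eSH_of_light (h2 : NO3S.Two K) (hl : ELightH K H) : ESH K H fun k m => k = 1 ∧ m = 2 := by
  intro G _ _ hK S P K' B ZJ ι L W Z C k m h _ _ hkm hM hN
  obtain ⟨rfl, rfl⟩ := hkm
  obtain ⟨M⟩ := hM.sym
  obtain ⟨p, hp⟩ := NO3S.Sym.Exit.exists_five hM.hyp.toHyp M.toSymK
  by_cases hc : ∃ T₀ : Sylow 2 G, ∀ x ∈ (T₀ : Subgroup G), x * NTwo.nn p * x⁻¹ = NTwo.nn p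
  · obtain ⟨T₀, hT₀⟩ := hc
    exact NO3S.Sym.Exit.known_of_central h2 hK hp T₀ hT₀
  · push Not at hc
    exact hl G hK S P K' B ZJ ι L W Z C h hM hN p ⟨hp, fun T₀ h0 => by
      obtain ⟨x, hx, h1⟩ := hc T₀
      exact h1 (h0 x hx)⟩

/-- **`SymTwoH K H`** from (Om) and the light case (E). -/
theorem symTwoH_of_light (hH : FrmS H) (h2 : NO3S.Two K) (hO : OmSH K H fun k m => k = 1 ∧ m = 2)
    (hl : ELightH K H) : SymTwoH K H := symTwoH_of' hH hO (eSH_of_light h2 hl)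

/-- weaker conditions -/
theorem OmSH.mono {c c' : ℕ → ℕ → Prop} (h : OmSH K H c) (hc : ∀ k m, c' k m → c k m) : OmSH K H c' :=
  fun G _ _ hK S P K' B ZJ ι L W Z C k m hH hk hm hc' => h G hK S P K' B ZJ ι L W Z C k m hH hk hm (hc k m hc')

theorem ESH.mono {c c' : ℕ → ℕ → Prop} (h : ESH K H c) (hc : ∀ k m, c' k m → c k m) : ESH K H c' :=
  fun G _ _ hK S P K' B ZJ ι L W Z C k m hH hk hm hc' => h G hK S P K' B ZJ ι L W Z C k m hH hk hm (hc k m hc')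

/-- **(Om) over a frame**: stage `-1` is THEOREM SW. -/
theorem omSH_of {c : ℕ → ℕ → Prop} (hl : OmLevSH K H c) : OmSH K H c := by
  intro G _ _ hK S P K' B ZJ ι L W Z C k m h hk hm hc hM ho _ _
  obtain ⟨hyp, stg, ⟨N⟩, fr, fin, two⟩ := hM
  cases stg with
  | neg hj => exact absurd (noOm_neg Swap.sitFalse FF.Glob.ffthm FF.Glob.aStmt ⟨hyp.toHypN, hj⟩ hk hm N.toSymK _
      (isPGroup_o2 _) (le_normalizer_o2 _)) ho
  | lev K₀ hT => exact hl G hK S P K₀ ι L W Z C k m h hk hm hc hT ⟨hyp, StgG.lev K₀ hT, ⟨N⟩, fr, fin, two⟩ ho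

/-- `ESH` over `HypL` gives the old socket. -/
theorem eS_of_H {c : ℕ → ℕ → Prop} (h : ESH K HypLP c) : ES K c :=
  fun G _ _ hK S P K' B ZJ ι L W Z C k m hk hm hc hM hN =>
    h G hK S P K' B ZJ ι L W Z C k m hM.hyp hk hm hc hM.toG hN

theorem eLight_of_H (h : ELightH K HypLP) : ELight K :=
  fun G _ _ hK S P K' B ZJ ι L W Z C hM hN p hp =>
    h G hK S P K' B ZJ ι L W Z C hM.hyp hM.toG hN p hp

end Cfsg.Agent.Omega.Node.SymG
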