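import Cfsg.Agent.Omega.Node.MultiOf
import Cfsg.Agent.Omega.OM.Lev.Sym

/-!
# The leaves `SymTwoL`, `SymBigL`, `SymManyL` of NO-3S: the tree

As `Node/MultiOf.lean` (helper388), for `V_P` = even subsets of `{1..2^m+1}`, `k` factors (`m ≥ 2`, `k ≥ 1`).
`StgP S P K B ZJ` is the level of `P`, `KZ B ZJ = ⟨C_G(Z_J), all FF-blocks over B⟩`.

```
SymTwoL (k = 1, m = 2), SymBigL (k = 1, m ≥ 3), SymManyL (k ≥ 2)
├── (Om) KZ normalises a nontrivial 2-group: OmS K c = OmNegS K c (THEOREM SW) + OmLevS K c (THEOREM SW at levels)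
└── (E)  KZ normalises no nontrivial 2-group: ES K c
```

`c k m` is the condition on `(k, m)`.
-/

set_option autoImplicit false

namespace Cfsg.Agent.Omega.Node.SymOf

open Subgroup Cfsg Cfsg.Agent.ZN.ChoiceBase Cfsg.Agent.ZN.ChoiceSit
open Cfsg.Agent.ZN (jj zj bau zc zl o2)
open Cfsg.Agent.Omega.FFThm (SymK SymKM)
open Cfsg.Agent.Omega.FrameFF (cv)
open Cfsg.Agent.Omega.LemmaK (Block)
open Cfsg.Agent.Omega.NO3S (HypL HypN HypJ Hyp PSS)
open Cfsg.Agent.Omega.NO3S.Level (lev lev_isLev)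
open Cfsg.Agent.Omega.Frame (Cls)
open Cfsg.Agent.Omega.NO3S.EThree.Frame (Bg Fg)
open Cfsg.Agent.Omega.OM
open Cfsg.Agent.Omega.OM.Uni (FB)
open Cfsg.Agent.Omega.OM.LevD (LB)
open Cfsg.Agent.Omega.OM.Swap (SitFalse)
open Cfsg.Agent.Omega.Node.MultiOf

universe u

section defs

variable {G : Type u} [Group G] [Finite G]

/-- **Symmetric blocks.** The level and the frame; `ι` = the transpositions of `C_S(Z_J)`, at least two. -/
structure MulS (S : Sylow 2 G) (P K B ZJ : Subgroup G) {ι : Type} (L W Z C : ι → Subgroup G) (k m : ℕ) : Prop where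
  hyp : HypL S P
  stg : StgP S P K B ZJ
  sym : Nonempty (SymKM (S : Subgroup G) P (zl (S : Subgroup G) P) (cv (S : Subgroup G) P) k m)
  fr : Fg B (o2 P) (zl (S : Subgroup G) P) ZJ L W Z C 2
  fin : Finite ι
  two : ∀ i : ι, ∃ j, j ≠ i

theorem exists_mulS {S : Sylow 2 G} {P : Subgroup G} (h : HypL S P) {k m : ℕ} (hk : 0 < k) (hm : 2 ≤ m)
    (N : SymKM (S : Subgroup G) P (zl (S : Subgroup G) P) (cv (S : Subgroup G) P) k m) :
    ∃ (K B ZJ : Subgroup G) (ι : Type) (L W Z C : ι → Subgroup G), MulS S P K B ZJ L W Z C k m := by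
  rcases h.stage with hj | ⟨n, hn, hn1⟩
  · obtain ⟨ι, hι, W, d, t, r, L, A, -, -, -, -, hL⟩ := Line.exists_sym ⟨h.toHypN, hj⟩ hk hm N.toSymK
    exact ⟨_, _, _, ι, L, W, _, _, h, StgP.neg hj, ⟨N⟩, Fg.of_fr hL.fr, hι, hL.two⟩
  · obtain ⟨ι, hι, W, d, t, r, L, A, -, -, -, -, h2, hF⟩ := Lev.Sym.exists_sym_lev FF.Glob.ffthmM
      h.toHyp.ctx.char2 h.star (lev_isLev (S : Subgroup G) n) (hn P h.star) h.toHyp.inf_eq_bot
      (NO3S.exists_BO h.toHyp.ctx.char2 h.star (hn P h.star) hn1) hk hm N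
    exact ⟨_, _, _, ι, L, W, _, _, h, StgP.lev n hn (hn P h.star) hn1, ⟨N⟩, Lev.Main.toFg hF, hι, h2⟩

namespace MulS

variable {S : Sylow 2 G} {P K B ZJ : Subgroup G} {ι : Type} {L W Z C : ι → Subgroup G} {k m : ℕ}
  (h : MulS S P K B ZJ L W Z C k m)
include h

theorem lb : LB S K B ZJ := h.stg.lb

theorem block (i : ι) : Block 2 B (L i) (W i) := (h.fr.blk i).toBlock (h.fr.cardZ i) h.lb.Bp h.lb.weakNormal

theorem fbl (i : ι) : FBl B (L i) (W i) := ⟨⟨_, _, h.fr.blk i⟩, h.block i⟩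

theorem fam : LevD.Fam B ZJ (FBl B) where
  blk := fun _ _ hb => hb.blk
  conj := fun _ hn _ _ hb => hb.conj hn
  zj_le := by
    have := h.fin
    refine (h.fr.ZJV.trans (Fg_V_le h.fr)).trans (iSup_le fun i => ?_)
    exact le_iSup (fun i : {x : Subgroup G × Subgroup G // FBl B x.1 x.2} => i.1.2) ⟨(L i, W i), h.fbl i⟩

theorem L_le (i : ι) : L i ≤ KZ B ZJ := LevD.blk_le_K0 (h.fbl i)

/-- **the dichotomy** -/
theorem cases : NLoc (KZ B ZJ) ∨ (o2 (KZ B ZJ) ≠ ⊥ ∧ o2 (KZ B ZJ) ≤ B ∧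
    KZ B ZJ ⊔ normalizer (B : Set G) ≤ normalizer (o2 (KZ B ZJ) : Set G)) := by
  by_cases h0 : NLoc (KZ B ZJ)
  · exact Or.inl h0
  · right
    unfold NLoc at h0
    push Not at h0
    obtain ⟨R, hR, hRn, hR1⟩ := h0
    exact LevD.Fam.dich h.lb h.fam hR hR1 hRn

end MulS

end defs

/-! ### Sockets -/

section sockets

variable (K : Cls.{u}) (c : ℕ → ℕ → Prop)

/-- **(Om)**, for the `(k, m)` with `c k m`. -/
def OmS : Prop :=
  ∀ (G : Type u) [Group G] [Finite G], K G → ∀ (S : Sylow 2 G) (P K' B ZJ : Subgroup G) (ι : Type)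
    (L W Z C : ι → Subgroup G) (k m : ℕ), 0 < k → 2 ≤ m → c k m → MulS S P K' B ZJ L W Z C k m →
      o2 (KZ B ZJ) ≠ ⊥ → o2 (KZ B ZJ) ≤ B →
      KZ B ZJ ⊔ normalizer (B : Set G) ≤ normalizer (o2 (KZ B ZJ) : Set G) → IsKnownSimple' G

/-- **(Om)**, stage `-1`, for the `(k, m)` with `c k m`. -/
def OmNegS : Prop :=
  ∀ (G : Type u) [Group G] [Finite G], K G → ∀ (S : Sylow 2 G) (P : Subgroup G) (k m : ℕ), HypL S P → HypJ S P →
    0 < k → 2 ≤ m → c k m → SymKM (S : Subgroup G) P (zl (S : Subgroup G) P) (cv (S : Subgroup G) P) k m →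
        o2 (KZ (bau (S : Subgroup G)) (zj (S : Subgroup G))) ≠ ⊥ → IsKnownSimple' G

/-- **(Om)**, stage `n`, for the `(k, m)` with `c k m`; `B = C_S(ZJ)`, `ZJ = Ω₁(Z(lev S (n + 1)))`. -/
def OmLevS : Prop :=
  ∀ (G : Type u) [Group G] [Finite G], K G → ∀ (S : Sylow 2 G) (P : Subgroup G) (k m : ℕ), HypL S P → ∀ n : ℕ,
    (∀ R, MinPar.IsParS (S : Subgroup G) R → lev (S : Subgroup G) n ≤ o2 R) →
    ¬ lev (S : Subgroup G) (n + 1) ≤ o2 P → 0 < k → 2 ≤ m → c k m →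
      SymKM (S : Subgroup G) P (zl (S : Subgroup G) P) (cv (S : Subgroup G) P) k m →
        ∀ B ZJ : Subgroup G, ZJ = zc (lev (S : Subgroup G) (n + 1)) →
          B = (S : Subgroup G) ⊓ centralizer (zc (lev (S : Subgroup G) (n + 1)) : Set G) →
          o2 (KZ B ZJ) ≠ ⊥ → IsKnownSimple' G

/-- **(E)**, for the `(k, m)` with `c k m`. -/
def ES : Prop :=
  ∀ (G : Type u) [Group G] [Finite G], K G → ∀ (S : Sylow 2 G) (P K' B ZJ : Subgroup G) (ι : Type)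
    (L W Z C : ι → Subgroup G) (k m : ℕ), 0 < k → 2 ≤ m → c k m → MulS S P K' B ZJ L W Z C k m →
      NLoc (KZ B ZJ) → IsKnownSimple' G

end sockets

variable {K : Cls.{u}}

theorem omS_of {c : ℕ → ℕ → Prop} (h1 : OmNegS K c) (h2 : OmLevS K c) : OmS K c := by
  intro G _ _ hK S P K' B ZJ ι L W Z C k m hk hm hc hM ho _ _
  obtain ⟨N⟩ := hM.sym
  cases hM.stg with
  | neg hj => exact h1 G hK S P k m hM.hyp ⟨hM.hyp.toHypN, hj⟩ hk hm hc N ho
  | lev n hall hn hn1 => exact h2 G hK S P k m hM.hyp n hall hn1 hk hm hc N _ _ rfl rfl ho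

theorem known_of {c : ℕ → ℕ → Prop} (hO : OmS K c) (hE : ES K c) (G : Type u) [Group G] [Finite G] (hK : K G)
    (S : Sylow 2 G) (P : Subgroup G) (h : HypL S P) (k m : ℕ) (hk : 0 < k) (hm : 2 ≤ m) (hc : c k m)
    (N : SymKM (S : Subgroup G) P (zl (S : Subgroup G) P) (cv (S : Subgroup G) P) k m) : IsKnownSimple' G := by
  obtain ⟨K', B, ZJ, ι, L, W, Z, C, hM⟩ := exists_mulS h hk hm N
  rcases hM.cases with h1 | ⟨h1, h2, h3⟩
  · exact hE G hK S P K' B ZJ ι L W Z C _ _ hk hm hc hM h1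
  · exact hO G hK S P K' B ZJ ι L W Z C _ _ hk hm hc hM h1 h2 h3

/-- **`SymTwoL`** -/
theorem symTwoL_of (hO : OmS K fun k m => k = 1 ∧ m = 2) (hE : ES K fun k m => k = 1 ∧ m = 2) :
    NO3S.SymTwoL K := by
  intro G _ _ hK S P h N
  exact known_of (c := fun k m => k = 1 ∧ m = 2) hO hE G hK S P h 1 2 one_pos le_rfl ⟨rfl, rfl⟩ N

/-- **`SymBigL`** -/
theorem symBigL_of (hO : OmS K fun k m => k = 1 ∧ 3 ≤ m) (hE : ES K fun k m => k = 1 ∧ 3 ≤ m) :
    NO3S.SymBigL K := by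
  intro G _ _ hK S P h m hm N
  exact known_of (c := fun k m => k = 1 ∧ 3 ≤ m) hO hE G hK S P h 1 m one_pos (by omega) ⟨rfl, hm⟩ N

/-- **`SymManyL`** -/
theorem symManyL_of (hO : OmS K fun k _ => 2 ≤ k) (hE : ES K fun k _ => 2 ≤ k) :
    NO3S.SymManyL K := by
  intro G _ _ hK S P h k m hk hm N
  exact known_of (c := fun k _ => 2 ≤ k) hO hE G hK S P h k m (by omega) hm hk N

/-- A weaker condition. -/
theorem OmS.mono {c c' : ℕ → ℕ → Prop} (h : OmS K c) (hc : ∀ k m, c' k m → c k m) : OmS K c' :=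
  fun G _ _ hK S P K' B ZJ ι L W Z C k m hk hm hc' => h G hK S P K' B ZJ ι L W Z C k m hk hm (hc k m hc')

theorem ES.mono {c c' : ℕ → ℕ → Prop} (h : ES K c) (hc : ∀ k m, c' k m → c k m) : ES K c' :=
  fun G _ _ hK S P K' B ZJ ι L W Z C k m hk hm hc' => h G hK S P K' B ZJ ι L W Z C k m hk hm (hc k m hc')

/-! ### (Om), stage `-1`: THEOREM SW -/

section neg

variable {G : Type u} [Group G] [Finite G] {S : Sylow 2 G} {P : Subgroup G}

/-- **(Om) is impossible at stage `-1`** (THEOREM SW). -/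
theorem noOm_neg (hs : SitFalse.{u}) (hFF : FFThm.Stmt.{u}) (hA : FFBr.AStmt.{u}) (h : HypJ S P) {k m : ℕ}
    (hk : 0 < k) (hm : 2 ≤ m) (N : SymK (S : Subgroup G) P (zl (S : Subgroup G) P) (cv (S : Subgroup G) P) k m) :
    NLoc (KZ (bau (S : Subgroup G)) (zj (S : Subgroup G))) := by
  obtain ⟨ι, hι, W, d, t, r, L, A, -, -, -, -, hL⟩ := Line.exists_sym h hk hm N
  have h1 := Swap.noOm hs hL (Swap.mf hL) hFF hA
  rw [KZ_neg]
  exact h1

end neg

/-- (Om), stage `-1`, modulo `SitFalse`. -/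
theorem omNegS (hs : SitFalse.{u}) (hFF : FFThm.Stmt.{u}) (hA : FFBr.AStmt.{u}) (c : ℕ → ℕ → Prop) :
    OmNegS K c := by
  intro G _ _ hK S P k m h hJ hk hm _ N ho
  exact absurd (noOm_neg hs hFF hA hJ hk hm N.toSymK _ (isPGroup_o2 _) (le_normalizer_o2 _)) ho

end Cfsg.Agent.Omega.Node.SymOf
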