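import Cfsg.Agent.Omega.Node.OmTopQ
import Cfsg.Agent.Omega.NO3S.WY.Exact
import Cfsg.Agent.Omega.ML.GNN

/-!
# The glue QW ⟹ OffW, case (L) of GammaFF

`CaseL S P`, `K₀ = O₂(P)`, `B = BT (nL h)`, `Z_J = ZT (nL h)`, `S`, `N_G(B)`, `C_G(Z_J) ≤ M`.

* `exists_cj_S` : a 2-group `T ≥ B` in `C_G(Z)` is conjugate into `S` by an element of `C_G(Z) ∩ N_G(B)`;
* `offC_of_S` : `OffC h M (C_G(Z))` from the pairs with `T ≤ S`;
* `wq_of` : the quiet `Y` over `T ≤ S` with `lim S ≤ O₂(Y)`, `O₂(P) ≰ O₂(Y)` are `WQ S P T Y`;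
* `offC_of` : `OffC h M (C_G(Z))` from THEOREM QW over `WQ`; `offQ_of : QWQ K → OffQ K`.
-/

set_option autoImplicit false
set_option linter.unusedSectionVars false

namespace Cfsg.Agent.Omega.Node.OffQOf

open Subgroup Cfsg Cfsg.Agent.ZN.ChoiceBase Cfsg.Agent.ZN.ChoiceSit
open Cfsg.Agent.ZN (jj zj bau zc zl o2)
open Cfsg.Agent.MinSimple.MinParabolic (IsMinPar)
open Cfsg.Agent.MinSimple.VModule (oddGen oddGen_le)
open Cfsg.Agent.Omega.MinPar (IsLoc)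
open Cfsg.Agent.Omega.NO1.BestOff (Best)
open Cfsg.Agent.Omega.NO3b.EZero (cl cl_le cj_le_cl oddGen_sup_syl)
open Cfsg.Agent.Omega.NO3S.Level (Lev nxt lim lev_isLev lev_le_lim isLev_lim wc_lim CaseL)
open Cfsg.Agent.Omega.FrameNOFF (CZ)
open Cfsg.Agent.Omega.Frame (Cls)
open Cfsg.Agent.Omega.OM
open Cfsg.Agent.Omega.OM.SwapK (VF)
open Cfsg.Agent.Omega.OM.SWT
open Cfsg.Agent.Omega.NO3S.WY (WQ ZJ BB)
open Cfsg.Agent.Omega.Node.MulX Cfsg.Agent.Omega.Node.OmTopQ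

universe u

variable {G : Type u} [Group G] [Finite G] {S : Sylow 2 G} {P : Subgroup G}

/-- A 2-group `T ≥ B` in `C_G(Z)` is conjugate into `S` by an element of `C_G(Z) ∩ N_G(B)`. -/
theorem exists_cj_S (n : LV S) {T : Subgroup G} (hT : IsPGroup 2 T) (hB : BT n ≤ T)
    (hTC : T ≤ CZ (S : Subgroup G)) :
    ∃ c ∈ CZ (S : Subgroup G), c ∈ normalizer (BT n : Set G) ∧ cj c T ≤ (S : Subgroup G) := by
  have hS : Syl (S : Subgroup G) (CZ (S : Subgroup G)) := ZN.CaseTwo.syl_of_sylow S (NO3S.Level.le_centralizer_zc _)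
  obtain ⟨T₁, hT₁, hTT₁⟩ := exists_syl hT hTC
  obtain ⟨c, hc, hcS⟩ := syl_conj hT₁ hS
  have h1 : cj c T ≤ (S : Subgroup G) := by
    rw [← hcS]
    exact cj_mono c hTT₁
  exact ⟨c, hc, mem_normalizer_iff_cj.2 (wc n _ S.isPGroup' (lb n).BS _ ((cj_mono c hB).trans h1)), h1⟩

/-- `OffW` in `C_G(Z)` from the pairs with `T ≤ S`. -/
theorem offC_of_S (h : CaseL S P) {M : Subgroup G} (hN : normalizer (BT (nL h) : Set G) ≤ M)
    (ho : ∀ T Y : Subgroup G, T ≤ (S : Subgroup G) → Quiet (nL h) M (CZ (S : Subgroup G)) T Y →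
      lim (S : Subgroup G) ≤ o2 Y → ¬ o2 P ≤ o2 Y → ∃ A, A ≤ T ∧ Best (VF S P Y) A ∧ ¬ A ≤ o2 Y) :
    OffC h M (CZ (S : Subgroup G)) := by
  intro T Y hq hl hK
  obtain ⟨c, hc, hcB, hcS⟩ := exists_cj_S (nL h) hq.syl.2.1 hq.BT (hq.syl.1.trans hq.le)
  have hc' := inv_mem hcB
  have hq' := SWT.quiet_cj h hN hcB hq
  rw [cj_eq_of_mem_normalizer (le_normalizer hc)] at hq'
  have hlw : cj c (lim (S : Subgroup G)) = lim (S : Subgroup G) :=
    LevD.norm_of_wc (NO3S.Level.wc_lim (S := S)) (lb (nL h)).Bp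
      ((h.lim_le.trans (nL h).K_le_nx).trans (lb (nL h)).KB) hcB
  obtain ⟨A, h1, h2, h3⟩ := ho _ _ hcS hq' (by
    rw [o2_cj, ← hlw]
    exact cj_mono c hl) (fun hle => hK (by
    rw [o2_cj, ← (norm_all h hcB).1] at hle
    have := cj_mono c⁻¹ hle
    rwa [cj_inv_cj, cj_inv_cj] at this))
  refine ⟨cj c⁻¹ A, ?_, ?_, fun hle => h3 ?_⟩
  · have := cj_mono c⁻¹ h1
    rwa [cj_inv_cj] at this
  · have h4 := VF_cj_eq h hc' (cj c Y)
    rw [cj_inv_cj] at h4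
    rw [h4]
    exact best_cj c⁻¹ h2
  · rw [o2_cj]
    have := cj_mono c hle
    rwa [cj_cj_inv] at this

/-- The quiet `Y` without level, over `T ≤ S`. -/
theorem wq_of (h : CaseL S P) {M H T Y : Subgroup G} (hD : centralizer (ZT (nL h) : Set G) ≤ M)
    (hN : normalizer (BT (nL h) : Set G) ≤ M) (hTS : T ≤ (S : Subgroup G)) (hq : Quiet (nL h) M H T Y)
    (hl : lim (S : Subgroup G) ≤ o2 Y) (hK : ¬ o2 P ≤ o2 Y) :
    WQ S P T Y ∧ ¬ oddGen Y ≤ centralizer (ZJ (S : Subgroup G) P : Set G) := by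
  have hTM : T ≤ M := ((lb (nL h)).two_le hq.syl.2.1 hq.BT).trans hN
  have h1 : ¬ oddGen Y ≤ centralizer (ZJ (S : Subgroup G) P : Set G) := fun hle => by
    apply hq.nM
    rw [← oddGen_sup_syl hq.syl]
    exact sup_le (hle.trans hD) hTM
  refine ⟨⟨h, hTS, (nL h).K_le_nx.trans ((lb (nL h)).KB.trans hq.BT), hq.syl, hq.min, hq.char2, fun hle => h1 ?_,
    hK, (isLev_lim (S : Subgroup G)).jjle.trans hl⟩, h1⟩
  exact hle.trans (centralizer_le (NO3S.WY.ZJ_le h))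

theorem VF_eq (P' : Subgroup G) : VF S P P' = cl (zl (S : Subgroup G) P) P' := by
  apply le_antisymm
  · exact NoFF.Basic.V_le fun f hf => cj_le_cl hf
  · exact cl_le fun f hf => NoFF.Basic.Z_le_V hf

/-- **OffW in `C_G(Z)` from THEOREM QW.** -/
theorem offC_of (h : CaseL S P) {M : Subgroup G} (hD : centralizer (ZT (nL h) : Set G) ≤ M)
    (hN : normalizer (BT (nL h) : Set G) ≤ M)
    (qw : ∀ T Y : Subgroup G, WQ S P T Y → BB (S : Subgroup G) P ≤ T → Y ≤ CZ (S : Subgroup G) →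
      ¬ oddGen Y ≤ centralizer (ZJ (S : Subgroup G) P : Set G) → ¬ Y ≤ M →
      ∃ A, A ≤ T ∧ Best (cl (zl (S : Subgroup G) P) Y) A ∧ ¬ A ≤ o2 Y) : OffC h M (CZ (S : Subgroup G)) :=
  offC_of_S h hN fun T Y hTS hq hl hK => by
    obtain ⟨h1, h2⟩ := wq_of h hD hN hTS hq hl hK
    rw [VF_eq]
    exact qw T Y h1 hq.BT hq.le h2 hq.nM

section om

variable {B ZJ' : Subgroup G} {k : ℕ} {L W Z C A : Fin k → Subgroup G} {q : ℕ}

/-- `M = N_G(O₂(KX))`, in the situation (Om) (any `q`). -/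
theorem loc_of (h : OmC S P B ZJ' L W Z C A q) {M : Subgroup G}
    (hM : M = normalizer (o2 (KX B ZJ' (zl (S : Subgroup G) P)) : Set G)) :
    IsLoc (S : Subgroup G) M ∧ IsKGroup M ∧ P ≤ M ∧ centralizer (ZT (nL h.mul.cl) : Set G) ≤ M ∧
      normalizer (BT (nL h.mul.cl) : Set G) ≤ M := by
  subst hM
  have hcl := h.mul.cl
  set X : Subgroup G := normalizer (o2 (KX B ZJ' (zl (S : Subgroup G) P)) : Set G) with hX
  have eB : B = BT (nL hcl) := h.mul.eqB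
  have eZ : ZJ' = ZT (nL hcl) := h.mul.eZ
  have hZV : ZT (nL hcl) ≤ zl (S : Subgroup G) P := by rw [← eZ]; exact h.mul.fr.ZJV
  have hKX : KX B ZJ' (zl (S : Subgroup G) P) ≤ X := le_sup_left.trans h.le
  have hN : normalizer (BT (nL hcl) : Set G) ≤ X := by rw [← eB]; exact le_sup_right.trans h.le
  have hD : centralizer (ZT (nL hcl) : Set G) ≤ X := by rw [← eZ]; exact cent_le.trans hKX
  have hblk : ∀ L' V' : Subgroup G, LevB.FBlk (BT (nL hcl)) L' V' → V' ≤ zl (S : Subgroup G) P → L' ≤ X := by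
    intro L' V' h1 h2
    rw [← eB] at h1
    exact (blk_le ⟨⟨h1.fb, h1.blk⟩, h2⟩).trans hKX
  have hSX : (S : Subgroup G) ≤ X := ((lb (nL hcl)).two_le S.isPGroup' (lb (nL hcl)).BS).trans hN
  have hP : P ≤ X := by
    have hst := hcl.hypN.star
    obtain ⟨L₁, V₁, -, h2, h3, h4⟩ := exists_fblk hcl hZV hcl.hypN.toHyp.syl (lb (nL hcl)).BS hst.toIsMinPar
      (hst.isLoc.char2 S hcl.ctx.char2) le_rfl (MulG.top_caseL hcl).nxt
      (fun hc => hst.not_zc (hc.trans (centralizer_le_normalizer _)))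
    exact h4.trans (sup_le hSX (hblk L₁ V₁ h2 h3))
  have hloc : IsLoc (S : Subgroup G) X :=
    ⟨hSX, fun e => h.ne (le_bot_iff.1 (e ▸ MinSimple.VModule.le_o2 le_normalizer (isPGroup_o2 _) le_rfl))⟩
  exact ⟨hloc, ML.GNN.kgroup_of_isLoc hcl.ctx hcl.ctx.not_isPGroup hloc, hP, hD, hN⟩

end om

/-- **THEOREM QW**, case (L), natural, `q ≥ 4` (helper866's `offW`). -/
def QWQ (K : Cls.{u}) : Prop :=
  ∀ (G : Type u) [Group G] [Finite G], K G → ∀ (S : Sylow 2 G) (P B ZJ' : Subgroup G) (k : ℕ)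
    (L W Z C A : Fin k → Subgroup G) (q : ℕ), 2 ≤ k → 4 ≤ q → MulL S P B ZJ' L W Z C A q →
    ∀ M : Subgroup G, IsLoc (S : Subgroup G) M → IsKGroup M → P ≤ M →
      centralizer (ZJ (S : Subgroup G) P : Set G) ≤ M → normalizer (BB (S : Subgroup G) P : Set G) ≤ M →
      ∀ T Y : Subgroup G, WQ S P T Y → BB (S : Subgroup G) P ≤ T → Y ≤ CZ (S : Subgroup G) →
        ¬ oddGen Y ≤ centralizer (ZJ (S : Subgroup G) P : Set G) → ¬ Y ≤ M →
          ∃ A, A ≤ T ∧ Best (cl (zl (S : Subgroup G) P) Y) A ∧ ¬ A ≤ o2 Y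

/-- **OffQ from THEOREM QW.** -/
theorem offQ_of {K : Cls.{u}} (h : QWQ K) : OffQ K := by
  intro G _ _ hK S P B ZJ' k L W Z C A q hq hO
  obtain ⟨h1, h2, h3, h4, h5⟩ := loc_of hO rfl
  exact offC_of hO.mul.cl h4 h5 (h G hK S P B ZJ' k L W Z C A q hO.k2 hq hO.mul _ h1 h2 h3 h4 h5)

end Cfsg.Agent.Omega.Node.OffQOf
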