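import Cfsg.Agent.Omega.FrameFF
import Cfsg.Agent.Omega.Mix.OfFrameTwo
import Cfsg.Agent.Omega.Mix.TwoGlue
import Cfsg.Agent.Omega.Mix.Close
import Cfsg.Agent.Omega.Mix.One
import Cfsg.Agent.Omega.Mix.Glob

/-!
# The leaf B of case FF (no mutual pair of one type)

`leafB_of` : the inputs `TIMain` (theorem on weakly closed TI-subgroups, `WeakTI.Final.main` with S1175), `St1759`,
`St1761` (both landed) and `RankFour` (`q = 4`, `W₁ = V₁` gives sectional 2-rank at most 4) imply `FrameFF.LeafB K`.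

The proof: `mixedN_of_mutual` gives a mixed pair `MixedN M₁ M₂ R`; if `q = 2` it is a pair of `Omega/CaseL`
(`CaseL.Pair.known`); if `q ≥ 8`, or `q = 4` and `W₁ ≠ V₁`, one of `W₁`, `W₂` is a TI-subgroup (`TIOut.known`).
-/

set_option autoImplicit false

namespace Cfsg.Agent.Omega.Node.LeafB

open Subgroup Cfsg Cfsg.Agent.Omega.Frame Cfsg.Agent.Omega.Mix
open Cfsg.Agent.WeakTI.ReduceMain Cfsg.Agent.WeakTI.ReduceComponent

universe u

/-- The theorem on weakly closed TI-subgroups (landed: `WeakTI.Final.main`, S1175). -/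
def TIMain : Prop := ∀ (G : Type u) [Group G] [Finite G] (A : Subgroup G), Red A → InList G

/-- `W₁ = V₁`, `q = 4` -/
def RankFour : Prop :=
  ∀ (G : Type u) [Group G] [Finite G] (F₁ F₂ : Type) [Field F₁] [Finite F₁] [CharP F₁ 2] [Field F₂] [Finite F₂]
    [CharP F₂ 2] (V₁ V₂ N₁ N₂ : Subgroup G) (M₁ : RMod F₁ V₁ N₁) (M₂ : RMod F₂ V₂ N₂) (R : Subgroup G),
    MixedN M₁ M₂ R → Nat.card F₁ = 4 → LL V₁ R R ≤ V₁ → SectionalPRankLE 2 4 G

theorem card_cases {F : Type} [Field F] [Finite F] [CharP F 2] : Nat.card F = 2 ∨ Nat.card F = 4 ∨ 8 ≤ Nat.card F := by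
  have : Fintype F := Fintype.ofFinite F
  obtain ⟨n, -, hn⟩ := FiniteField.card F 2
  rw [Nat.card_eq_fintype_card, hn]
  have h0 := n.pos
  rcases (by omega : (n : ℕ) = 1 ∨ (n : ℕ) = 2 ∨ 3 ≤ (n : ℕ)) with h | h | h
  · left; rw [h]; norm_num
  · right; left; rw [h]; norm_num
  · right; right
    calc 8 = 2 ^ 3 := by norm_num
      _ ≤ 2 ^ (n : ℕ) := Nat.pow_le_pow_right (by norm_num) h

theorem known_of_mixed (hTI : TIMain.{u}) (h59 : Exits.St1759.{u}) (h61 : Exits.St1761.{u}) (h4 : RankFour.{u})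
    {G : Type u} [Group G] [Finite G] (hG : Ctx G) {F₁ F₂ : Type} [Field F₁] [Finite F₁] [CharP F₁ 2] [Field F₂]
    [Finite F₂] [CharP F₂ 2] {V₁ V₂ N₁ N₂ : Subgroup G} {M₁ : RMod F₁ V₁ N₁} {M₂ : RMod F₂ V₂ N₂} {R : Subgroup G}
    (m : MixedN M₁ M₂ R) : IsKnownSimple' G := by
  haveI := hG.simple
  rcases card_cases (F := F₁) with h | h | h
  · obtain ⟨S, z, hp⟩ := m.exists_pair hG.char2 h (m.card_eq.symm.trans h)
    exact hp.known hG.nonComm h59 h61 hG.rank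
  · by_cases hW : LL V₁ R R ≤ V₁
    · exact absurd (h4 G F₁ F₂ V₁ V₂ N₁ N₂ M₁ M₂ R m h hW) hG.rank
    · exact m.known (hTI G) hG.nonComm (exists_ne_of_card h.ge) hW
  · obtain ⟨A, -, hA⟩ := m.exists_ti_eight h
    exact hA.known (hTI G) hG.nonComm

/-- **LeafB from its inputs.** -/
theorem leafB_of {K : Cls.{u}} (hTI : TIMain.{u}) (h59 : Exits.St1759.{u}) (h61 : Exits.St1761.{u})
    (h4 : RankFour.{u}) : FrameFF.LeafB K := by
  intro G _ _ hG _ S _ _ hfree hsame P₁ P₂ x hm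
  obtain ⟨F₁, _, _, _, F₂, _, _, _, k, N₁, N₂, M₁, M₂, R, m, -⟩ :=
    mixedN_of_mutual hG.char2 S hm (hfree.1 P₁ P₂ x hm).1 (hfree.1 P₁ P₂ x hm).2 (hfree.2 P₁ P₂ x hm).1
      (hfree.2 P₁ P₂ x hm).2 hsame
  exact known_of_mixed hTI h59 h61 h4 hG m

end Cfsg.Agent.Omega.Node.LeafB
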