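import Cfsg.Agent.Omega.FrameExtra
import Cfsg.Agent.Lib.NormalAbelian
import Cfsg.Agent.Lib.LocalCore
import Cfsg.Agent.Transfer.ExtraspecialTwo

/-!
# OMEGA: `O₂(C_G(z))` extraspecial of order 8 does not occur (`LeafOne`) (helper574)

`card_le`: a 2-group `T` with a normal subgroup `Q` of order 8 whose centralizer has order 2 has order at most 16.
-/

set_option autoImplicit false

namespace Cfsg.Agent.Omega.Node.LeafOne

open Subgroup Cfsg Cfsg.Agent.ZN Cfsg.Agent.Omega.MinPar Cfsg.Agent.Omega.Frame Cfsg.Agent.Omega.Exits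

universe u

/-- A 2-group with a normal subgroup `Q` of order 8 and `C(Q) = {1, z}`. -/
theorem card_le {T : Type*} [Group T] [Finite T] (hT : IsPGroup 2 T) (Q : Subgroup T) [hn : Q.Normal]
    (h8 : Nat.card Q = 8) {z : T} (hz1 : z ≠ 1) (hz : z * z = 1) (hzQ : z ∈ Q) (hzc : ∀ t : T, t * z = z * t)
    (hc : ∀ t : T, (∀ q ∈ Q, t * q = q * t) → t = 1 ∨ t = z) : Nat.card T ≤ 16 := by
  classical
  have hmem : ∀ x : T, x ∈ zpowers z ↔ x = 1 ∨ x = z := by
    intro x
    constructor
    · rintro ⟨m, rfl⟩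
      have h2 : z ^ (2 : ℤ) = 1 := by rw [zpow_two, hz]
      rcases Int.even_or_odd m with ⟨k, rfl⟩ | ⟨k, rfl⟩
      · left
        show z ^ (k + k) = 1
        rw [← two_mul, zpow_mul, h2, one_zpow]
      · right
        show z ^ (2 * k + 1) = z
        rw [zpow_add, zpow_mul, h2, one_zpow, one_mul, zpow_one]
    · rintro (rfl | rfl)
      · exact one_mem _
      · exact mem_zpowers _
  have hZn : (zpowers z).Normal := by
    constructor
    intro x hx g
    rcases (hmem x).1 hx with rfl | rfl
    · rw [mul_one, mul_inv_cancel]; exact one_mem _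
    · rw [hzc, mul_inv_cancel_right]; exact mem_zpowers _
  have hcZ : Nat.card (zpowers z) = 2 := by
    rw [Nat.card_zpowers]; exact orderOf_eq_prime (by rw [pow_two, hz]) hz1
  -- an element `a` of `Q`, central modulo `z`
  have hp : Fact (Nat.Prime 2) := ⟨Nat.prime_two⟩
  have hnil : Group.IsNilpotent (T ⧸ zpowers z) := (hT.to_quotient (zpowers z)).isNilpotent
  have hne : Q.map (QuotientGroup.mk' (zpowers z)) ≠ ⊥ := by
    intro h
    have h1 : Q ≤ zpowers z := by
      rw [Subgroup.map_eq_bot_iff, QuotientGroup.ker_mk'] at h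
      exact h
    have h2 := card_dvd_of_le h1
    rw [h8, hcZ] at h2
    omega
  have hmn : (Q.map (QuotientGroup.mk' (zpowers z))).Normal := hn.map _ (QuotientGroup.mk'_surjective _)
  have hce := Lib.NormalAbelian.normal_inf_center_ne_bot (Q.map (QuotientGroup.mk' (zpowers z))) hne
  obtain ⟨⟨y, hy1, hy2⟩, hy3⟩ := Subgroup.ne_bot_iff_exists_ne_one.1 hce
  obtain ⟨a, haQ, hay⟩ := hy1
  have ha0 : a ∉ zpowers z := by
    intro h
    apply hy3
    apply Subtype.ext
    show y = 1
    rw [← hay]
    exact (QuotientGroup.eq_one_iff a).2 h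
  have haz : ∀ t : T, t * a * t⁻¹ = a ∨ t * a * t⁻¹ = a * z := by
    intro t
    have h1 := mem_center_iff.1 hy2 (QuotientGroup.mk' (zpowers z) t)
    rw [← hay, ← map_mul, ← map_mul, QuotientGroup.mk'_apply, QuotientGroup.mk'_apply, QuotientGroup.eq] at h1
    rcases (hmem _).1 h1 with h2 | h2
    · left
      have h3 : a * t = t * a := (inv_mul_eq_one.1 h2).symm
      rw [← h3, mul_inv_cancel_right]
    · right
      have h3 : a * t = t * a * z := by rw [← h2]; group
      have h4 : t * a = a * t * z := by rw [h3, mul_assoc, hz, mul_one]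
      rw [h4, mul_assoc, ← hzc t⁻¹, ← mul_assoc, mul_inv_cancel_right]
  -- `b` does not commute with `a`
  obtain ⟨b, hbQ, hab⟩ : ∃ b ∈ Q, a * b ≠ b * a := by
    by_contra hcon
    push Not at hcon
    exact ha0 ((hmem a).2 (hc a hcon))
  have ha1 : a ≠ 1 := fun h => ha0 (by rw [h]; exact one_mem _)
  have haz1 : a ≠ z := fun h => ha0 (by rw [h]; exact mem_zpowers _)
  -- a subgroup of `Q` with more than 4 elements is `Q`
  have hbig : ∀ K : Subgroup T, K ≤ Q → 4 < Nat.card K → K = Q := by
    intro K hK h4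
    have h1 := card_dvd_of_le hK
    rw [h8] at h1
    apply eq_of_le_of_card_ge hK
    rw [h8]
    have h2 : Nat.card K ≤ 8 := Nat.le_of_dvd (by norm_num) h1
    interval_cases Nat.card K <;> omega
  -- `C(a) ∩ C(b) = {1, z}`
  have hCab : ∀ t : T, t * a = a * t → t * b = b * t → t = 1 ∨ t = z := by
    intro t hta htb
    apply hc
    have h1 : (centralizer ({t} : Set T)) ⊓ Q = Q := by
      apply hbig _ inf_le_right
      have hs : ((({1, z, a, a * z, b} : Finset T) : Finset T) : Set T) ⊆
          (((centralizer ({t} : Set T)) ⊓ Q : Subgroup T) : Set T) := by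
        intro x hx
        simp only [Finset.coe_insert, Finset.coe_singleton, Set.mem_insert_iff, Set.mem_singleton_iff] at hx
        refine ⟨mem_centralizer_singleton_iff.2 ?_, ?_⟩
        · rcases hx with rfl | rfl | rfl | rfl | rfl
          · rw [one_mul, mul_one]
          · exact (hzc t).symm
          · exact hta.symm
          · rw [mul_assoc, ← hzc t, ← mul_assoc, ← hta, mul_assoc]
          · exact htb.symm
        · rcases hx with rfl | rfl | rfl | rfl | rfl
          · exact one_mem _
          · exact hzQ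
          · exact haQ
          · exact mul_mem haQ hzQ
          · exact hbQ
      have h5 : ({1, z, a, a * z, b} : Finset T).card = 5 := by
        have hb1 : b ≠ 1 := fun h => hab (by rw [h, mul_one, one_mul])
        have hbz : b ≠ z := fun h => hab (by rw [h, hzc])
        have hba : b ≠ a := fun h => hab (by rw [h])
        have hbaz : b ≠ a * z := fun h => hab (by rw [h, mul_assoc, ← hzc a])
        have e1 : a ≠ a * z := fun h => hz1 (mul_eq_left.1 h.symm)
        have e2 : a * z ≠ 1 := fun h => haz1 (by rw [eq_inv_of_mul_eq_one_left h]; exact inv_eq_of_mul_eq_one_left hz)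
        have e3 : a * z ≠ z := fun h => ha1 (mul_eq_right.1 h)
        rw [Finset.card_insert_of_notMem, Finset.card_insert_of_notMem, Finset.card_insert_of_notMem,
          Finset.card_insert_of_notMem, Finset.card_singleton]
        · simp only [Finset.mem_singleton]; exact hbaz.symm
        · simp only [Finset.mem_insert, Finset.mem_singleton, not_or]; exact ⟨e1, hba.symm⟩
        · simp only [Finset.mem_insert, Finset.mem_singleton, not_or]; exact ⟨haz1.symm, e3.symm, hbz.symm⟩
        · simp only [Finset.mem_insert, Finset.mem_singleton, not_or]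
          exact ⟨hz1.symm, ha1.symm, e2.symm, hb1.symm⟩
      have h6 := Set.ncard_le_ncard hs (Set.toFinite _)
      rw [Set.ncard_coe_finset, h5] at h6
      exact h6
    intro q hq
    rw [← h1] at hq
    exact (mem_centralizer_singleton_iff.1 hq.1).symm
  -- the map
  have hS1 : Nat.card {x : T // x = a ∨ x = a * z} ≤ 2 := by
    have hs : {x : T | x = a ∨ x = a * z} ⊆ (({a, a * z} : Finset T) : Set T) := by
      intro x hx
      simpa using hx
    have := Set.ncard_le_ncard hs (Finset.finite_toSet _)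
    rw [Set.ncard_coe_finset] at this
    exact this.trans Finset.card_le_two
  have hS2 : Nat.card {x : T // x ∈ Q ∧ x * a ≠ a * x} ≤ 4 := by
    have h4 : 4 ≤ Nat.card ((centralizer ({a} : Set T)) ⊓ Q : Subgroup T) := by
      have hs : ((({1, z, a, a * z} : Finset T) : Finset T) : Set T) ⊆
          (((centralizer ({a} : Set T)) ⊓ Q : Subgroup T) : Set T) := by
        intro x hx
        simp only [Finset.coe_insert, Finset.coe_singleton, Set.mem_insert_iff, Set.mem_singleton_iff] at hx
        refine ⟨mem_centralizer_singleton_iff.2 ?_, ?_⟩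
        · rcases hx with rfl | rfl | rfl | rfl
          · rw [one_mul, mul_one]
          · exact (hzc a).symm
          · rfl
          · rw [mul_assoc, ← hzc a]
        · rcases hx with rfl | rfl | rfl | rfl
          · exact one_mem _
          · exact hzQ
          · exact haQ
          · exact mul_mem haQ hzQ
      have e1 : a ≠ a * z := fun h => hz1 (mul_eq_left.1 h.symm)
      have e2 : a * z ≠ 1 := fun h => haz1 (by rw [eq_inv_of_mul_eq_one_left h]; exact inv_eq_of_mul_eq_one_left hz)
      have e3 : a * z ≠ z := fun h => ha1 (mul_eq_right.1 h)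
      have h5 : ({1, z, a, a * z} : Finset T).card = 4 := by
        rw [Finset.card_insert_of_notMem, Finset.card_insert_of_notMem, Finset.card_insert_of_notMem,
          Finset.card_singleton]
        · simp only [Finset.mem_singleton]; exact e1
        · simp only [Finset.mem_insert, Finset.mem_singleton, not_or]; exact ⟨haz1.symm, e3.symm⟩
        · simp only [Finset.mem_insert, Finset.mem_singleton, not_or]
          exact ⟨hz1.symm, ha1.symm, e2.symm⟩
      have h6 := Set.ncard_le_ncard hs (Set.toFinite _)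
      rw [Set.ncard_coe_finset, h5] at h6
      exact h6
    have h5 : Nat.card {x : T // x ∈ Q ∧ x * a ≠ a * x} +
        Nat.card ((centralizer ({a} : Set T)) ⊓ Q : Subgroup T) = Nat.card Q := by
      have e1 : Nat.card {x : T // x ∈ Q ∧ x * a ≠ a * x} = ((Q : Set T) \ ((centralizer ({a} : Set T) ⊓ Q : Subgroup T) : Set T)).ncard := by
        show {x : T | x ∈ Q ∧ x * a ≠ a * x}.ncard = _
        congr 1
        ext x
        simp only [Set.mem_ofPred_eq, Set.mem_sdiff, SetLike.mem_coe, mem_inf, mem_centralizer_singleton_iff]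
        tauto
      rw [e1]
      exact Set.ncard_sdiff_add_ncard_of_subset (by intro x hx; exact hx.2) (Set.toFinite _)
    omega
  have hconj : ∀ t : T, t * b * t⁻¹ ∈ Q ∧ (t * b * t⁻¹) * a ≠ a * (t * b * t⁻¹) := by
    intro t
    refine ⟨hn.conj_mem b hbQ t, ?_⟩
    intro h
    apply hab
    have h1 : (t * b * t⁻¹) * (t * a * t⁻¹) = (t * a * t⁻¹) * (t * b * t⁻¹) := by
      rcases haz t with h2 | h2
      · rw [h2, h]
      · rw [h2, ← mul_assoc, h, mul_assoc a, mul_assoc a, hzc]
    have h2 : t * (b * a) * t⁻¹ = t * (a * b) * t⁻¹ := by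
      calc t * (b * a) * t⁻¹ = (t * b * t⁻¹) * (t * a * t⁻¹) := by group
        _ = (t * a * t⁻¹) * (t * b * t⁻¹) := h1
        _ = t * (a * b) * t⁻¹ := by group
    exact (mul_left_cancel (mul_right_cancel h2)).symm
  let F : (T ⧸ zpowers z) → {x : T // x = a ∨ x = a * z} × {x : T // x ∈ Q ∧ x * a ≠ a * x} := fun q =>
    (⟨q.out * a * q.out⁻¹, haz _⟩, ⟨q.out * b * q.out⁻¹, hconj _⟩)
  have hF : Function.Injective F := by
    intro p q hpq
    have h1 : p.out * a * p.out⁻¹ = q.out * a * q.out⁻¹ := congrArg (fun r => (r.1 : T)) hpq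
    have h2 : p.out * b * p.out⁻¹ = q.out * b * q.out⁻¹ := congrArg (fun r => (r.2 : T)) hpq
    have key : ∀ x : T, p.out * x * p.out⁻¹ = q.out * x * q.out⁻¹ → (p.out⁻¹ * q.out) * x = x * (p.out⁻¹ * q.out) := by
      intro x hx
      calc (p.out⁻¹ * q.out) * x = p.out⁻¹ * (q.out * x * q.out⁻¹) * q.out := by group
        _ = p.out⁻¹ * (p.out * x * p.out⁻¹) * q.out := by rw [hx]
        _ = x * (p.out⁻¹ * q.out) := by group
    have h3 := hCab _ (key a h1) (key b h2)
    rw [← hmem, ← QuotientGroup.eq] at h3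
    rwa [QuotientGroup.out_eq', QuotientGroup.out_eq'] at h3
  have h1 := Nat.card_le_card_of_injective F hF
  rw [Nat.card_prod] at h1
  have h2 := card_eq_card_quotient_mul_card_subgroup (zpowers z)
  rw [hcZ] at h2
  have h3 : Nat.card {x : T // x = a ∨ x = a * z} * Nat.card {x : T // x ∈ Q ∧ x * a ≠ a * x} ≤ 2 * 4 :=
    Nat.mul_le_mul hS1 hS2
  omega

/-- **`LeafOne`**: `O₂(C_G(z))` is not extraspecial of order 8. -/
theorem leafOne : FrameExtra.LeafOne.{u} := by
  intro G _ _ hG z h
  have hp : Fact (Nat.Prime 2) := ⟨Nat.prime_two⟩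
  have hzz : z * z = 1 := by rw [← pow_two, ← h.ord, pow_orderOf_eq_one]
  have hz1 : z ≠ 1 := by
    intro h0
    have := h.ord
    rw [h0, orderOf_one] at this
    omega
  have hchar : centralizer (pCore 2 ↥(centralizer ({z} : Set G)) : Set ↥(centralizer ({z} : Set G))) ≤
      pCore 2 ↥(centralizer ({z} : Set G)) := char2_centralizer hG.char2 h.ord
  have hct := Cfsg.Agent.Transfer.ExtraspecialTwo.centralTwo_of_isExtraspecial h.ext
  set zC : ↥(centralizer ({z} : Set G)) := ⟨z, mem_centralizer_singleton_iff.2 rfl⟩ with hzC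
  have hzC1 : zC ≠ 1 := fun h0 => hz1 (congrArg Subtype.val h0)
  have hcomm : ∀ c : ↥(centralizer ({z} : Set G)), c * zC = zC * c := fun c =>
    Subtype.ext (mem_centralizer_singleton_iff.1 c.2)
  have hzmem : zC ∈ pCore 2 ↥(centralizer ({z} : Set G)) :=
    hchar (mem_centralizer_iff.2 fun q _ => hcomm q)
  have hcen : ∀ t : ↥(centralizer ({z} : Set G)),
      (∀ q ∈ pCore 2 ↥(centralizer ({z} : Set G)), t * q = q * t) → t = 1 ∨ t = zC := by
    intro t ht
    have h1 : t ∈ pCore 2 ↥(centralizer ({z} : Set G)) :=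
      hchar (mem_centralizer_iff.2 fun q hq => (ht q hq).symm)
    by_cases h0 : t = 1
    · exact Or.inl h0
    · right
      have h2 := hct.eq_of_ne_one (a := ⟨t, h1⟩) (b := ⟨zC, hzmem⟩)
        (mem_center_iff.2 fun q => Subtype.ext (ht q q.2).symm)
        (mem_center_iff.2 fun q => Subtype.ext (hcomm q))
        (fun h3 => h0 (congrArg Subtype.val h3)) (fun h3 => hzC1 (congrArg Subtype.val h3))
      exact congrArg Subtype.val h2
  -- the Sylow subgroup
  have hQ2 : IsPGroup 2 ↥(o2 (centralizer ({z} : Set G))) := Cfsg.Agent.Lib.LocalCore.isPGroup_map_pCore 2 _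
  obtain ⟨S, hS⟩ := hQ2.exists_le_sylow
  have hzQ : z ∈ o2 (centralizer ({z} : Set G)) := ⟨zC, hzmem, rfl⟩
  have hlift : ∀ w : G, w * z = z * w → (∀ q ∈ o2 (centralizer ({z} : Set G)), w * q = q * w) → w = 1 ∨ w = z := by
    intro w hwz hw
    rcases hcen ⟨w, mem_centralizer_singleton_iff.2 hwz⟩ (fun q hq => Subtype.ext (hw q ⟨q, hq, rfl⟩)) with h1 | h1
    · exact Or.inl (congrArg Subtype.val h1)
    · exact Or.inr (congrArg Subtype.val h1)
  have hnt : Nontrivial ↥S := ⟨⟨⟨z, hS hzQ⟩, 1, fun h0 => hz1 (congrArg Subtype.val h0)⟩⟩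
  have hcnt : Nontrivial ↥(center ↥S) := S.isPGroup'.center_nontrivial
  obtain ⟨⟨w, hwc⟩, hw1⟩ := exists_ne (1 : ↥(center ↥S))
  have hwS : ∀ s ∈ S, (w : G) * s = s * w := fun s hs =>
    (congrArg Subtype.val (mem_center_iff.1 hwc ⟨s, hs⟩)).symm
  have hwz : (w : G) = z := by
    rcases hlift w (hwS z (hS hzQ)) (fun q hq => hwS q (hS hq)) with h1 | h1
    · exact absurd (Subtype.ext (Subtype.ext h1)) hw1
    · exact h1
  have hzS : ∀ s ∈ S, s * z = z * s := by
    intro s hs
    have := hwS s hs
    rw [hwz] at this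
    exact this.symm
  -- the bound
  have hn : ((o2 (centralizer ({z} : Set G))).subgroupOf (S : Subgroup G)).Normal := by
    constructor
    intro q hq s
    rw [mem_subgroupOf] at hq ⊢
    obtain ⟨q0, hq0, hq1⟩ := hq
    have hs : (s : G) ∈ centralizer ({z} : Set G) := mem_centralizer_singleton_iff.2 (hzS s s.2)
    refine ⟨(⟨s, hs⟩ : ↥(centralizer ({z} : Set G))) * q0 * (⟨s, hs⟩ : ↥(centralizer ({z} : Set G)))⁻¹,
      (Cfsg.Agent.Lib.Cores.pCore_normal 2).conj_mem q0 hq0 _, ?_⟩
    show (s : G) * (q0 : G) * (s : G)⁻¹ = (s : G) * (q : G) * (s : G)⁻¹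
    have h2 : (q0 : G) = (q : G) := hq1
    rw [h2]
  have h8 : Nat.card ↥((o2 (centralizer ({z} : Set G))).subgroupOf (S : Subgroup G)) = 8 := by
    rw [Nat.card_congr (subgroupOfEquivOfLe hS).toEquiv, o2,
      ← Nat.card_congr (equivMapOfInjective _ _ (subtype_injective _)).toEquiv, h.card]
    norm_num
  have h1 := card_le (T := ↥S) S.isPGroup' ((o2 (centralizer ({z} : Set G))).subgroupOf (S : Subgroup G)) h8
    (z := ⟨z, hS hzQ⟩) (fun h0 => hz1 (congrArg Subtype.val h0)) (Subtype.ext hzz)
    (mem_subgroupOf.2 hzQ) (fun t => Subtype.ext (hzS t t.2)) (by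
      intro t ht
      rcases hlift t (hzS t t.2) (fun q hq =>
        congrArg Subtype.val (ht ⟨q, hS hq⟩ (mem_subgroupOf.2 hq))) with h2 | h2
      · exact Or.inl (Subtype.ext h2)
      · exact Or.inr (Subtype.ext h2))
  have h2 : (2 : ℕ) ^ 5 ∣ Nat.card G := dvd_card hG.rank
  have h3 : (2 : ℕ) ^ 5 ∣ Nat.card ↥S := S.pow_dvd_card_of_pow_dvd_card h2
  have h4 := Nat.le_of_dvd Nat.card_pos h3
  omega

end Cfsg.Agent.Omega.Node.LeafOne
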