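import Cfsg.Agent.Omega.Node.NO1
import Cfsg.Agent.Omega.NO1.Beta.Plug
import Cfsg.Agent.Omega.NOne.SU.GHyp
import Cfsg.Agent.Omega.NOne.SU.ZeroC
import Cfsg.Agent.Omega.NO1U.SemiOf
import Cfsg.Agent.Omega.NO1U.FldX
import Cfsg.Agent.Omega.NO1U.CSide

/-!
# `EndMinusQ`: type (β) of the leaf N1 (= NO-1'), `q ≥ 4` (cut: helper301)

`Dat` : the data after THEOREM BETA (183), THEOREM FIELD (198, 495), THEOREM UNI (177, 456) and THEOREM ALL-N1 (869).

* `exists_pre` : `Cfg S P`, `MinusQ K σ P V` give `GIn`, `Mt`, `Fld`, `FldX` (no open input);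
* `AllMinus` : MX and `G = ⟨N(R), N(V)⟩` (owner: helper869);
* `EndOne`, `EndBig` : the ends `dim Φ = 1` (`U₅(q)`; owner: helper870, helper534) and `dim Φ ≥ 2`
  (`U_n(q)`, `n ≥ 6`; owner: helper283, helper495, helper802);
* `endMinusQ_of`.
-/

set_option autoImplicit false
set_option linter.unusedSectionVars false

namespace Cfsg.Agent.Omega.NO1.EndQ

open Subgroup Cfsg Cfsg.Agent.ZN Cfsg.Agent.Omega.MinPar Cfsg.Agent.Omega.Frame
open Cfsg.Agent.Omega.NOne.SU Cfsg.Agent.Omega.NO1U Cfsg.Agent.Omega.NO1.Beta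
open scoped Pointwise

universe u

/-- **The data of type (β)**, `q ≥ 4`, after BETA, FIELD, UNI and ALL-N1. -/
structure Dat {G : Type u} [Group G] [Finite G] {k F : Type} [Field k] [Field F] [Algebra k F] (T : Quad k F) (S : Sylow 2 G)
    {I : Type u} (V : Subgroup G) (Rf Qf : I → Subgroup G) (i j : I) (v : k → F → k → G) (p p' : G → F)
    {Φ : Type u} [AddCommGroup Φ] [Module F Φ] (φ χ : G → Φ) (hm : Φ → Φ → F)
    {W : Type u} [AddCommGroup W] [Module F W] (w : G → W) (g : W → W → F) (f₀ : W) (ι : Φ →ₗ[F] W) : Prop where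
  ctx : Frame.Ctx G
  full : Full (S : Subgroup G)
  /-- `Ω₁(Z(S)) ≤ R` -/
  Z_R : zc (S : Subgroup G) ≤ Rf i
  /-- `GIn`, `Mt`, `Fld`, MX -/
  D : XD T S V Rf Qf i j v p p' φ χ
  X : FldX T V (Qf i) (Qf j) v p' φ χ
  o : Out T V (Rf i) (Qf i) (Qf j) v p φ χ hm w g f₀ ι
  semi : Nontrivial Φ → CSide.Semi (Rf i) (Qf i) w g
  top : normalizer (Rf i : Set G) ⊔ normalizer (V : Set G) = ⊤

/-- The end for `A (dim Φ)`. -/
def End (A : ℕ → Prop) : Prop :=
  ∀ (G : Type u) [Group G] [Finite G] (k F : Type) [Field k] [Field F] [Algebra k F] (T : Quad k F)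
    (S : Sylow 2 G) (I : Type u) (V : Subgroup G) (Rf Qf : I → Subgroup G) (i j : I) (v : k → F → k → G)
    (p p' : G → F) (Φ : Type u) [AddCommGroup Φ] [Module F Φ] (φ χ : G → Φ) (hm : Φ → Φ → F)
    (W : Type u) [AddCommGroup W] [Module F W] (w : G → W) (g : W → W → F) (f₀ : W) (ι : Φ →ₗ[F] W),
    Dat T S V Rf Qf i j v p p' φ χ hm w g f₀ ι → A (Module.finrank F Φ) → IsKnownSimple' G

/-- **`dim Φ = 1`**: `U₅(q)`.  Owner: helper870, helper534. -/
def EndOne : Prop := End.{u} fun n => n = 1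

/-- **`dim Φ ≥ 2`**: `U_n(q)`, `n ≥ 6`.  Owner: helper283, helper495, helper802. -/
def EndBig : Prop := End.{u} fun n => 2 ≤ n

/-- **THEOREM ALL-N1 for type (β)**: MX and `G = ⟨N(R), N(V)⟩`.  Owner: helper869. -/
def AllMinus : Prop :=
  ∀ (G : Type u) [Group G] [Finite G] (S : Sylow 2 G) (P : Subgroup G), Cfg S P →
    ∀ (K : Type) [Field K] [Finite K] [CharP K 2] (σ : K ≃+* K), 16 ≤ Nat.card K →
      ∀ d : Inst.Co K σ (P ⊔ centralizer (zl (S : Subgroup G) P : Set G)) (zl (S : Subgroup G) P),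
        (S : Subgroup G) ≤ normalizer (d.R0 : Set G) → zc (S : Subgroup G) ≤ d.R0 →
        Inst.Sy d o2 (S : Subgroup G) (zc (S : Subgroup G)) → Inst.Hyp d o2 →
        (∀ m ∈ normalizer (zl (S : Subgroup G) P : Set G),
          ∃ x ∈ o2 (normalizer (d.R0 : Set G)) ⊔ o2 (normalizer (d.Roo : Set G)),
            x * m ∈ normalizer (d.R0 : Set G)) ∧
        normalizer (d.R0 : Set G) ⊔ normalizer (zl (S : Subgroup G) P : Set G) = ⊤

section pre

variable {G : Type u} [Group G] [Finite G] {S : Sylow 2 G} {P : Subgroup G} {K : Type} [Field K] [Finite K]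
  [CharP K 2] {σ : K ≃+* K}

open GHyp GInst in
/-- **BETA + FIELD in the configuration of N1.** -/
theorem exists_pre (h : Cfg S P) (m : MinusQ K σ P (zl (S : Subgroup G) P)) (h1 : σ ≠ RingEquiv.refl K)
    (h2 : ∀ x, σ (σ x) = x) (h16 : 16 ≤ Nat.card K) :
    ∃ d : Inst.Co K σ (P ⊔ centralizer (zl (S : Subgroup G) P : Set G)) (zl (S : Subgroup G) P),
      (S : Subgroup G) ≤ normalizer (d.R0 : Set G) ∧ zc (S : Subgroup G) ≤ d.R0 ∧
      Inst.Sy d o2 (S : Subgroup G) (zc (S : Subgroup G)) ∧ Inst.Hyp d o2 ∧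
      Meet.Mt (zl (S : Subgroup G) P) (fun i : Inst.Pt d => i.1) (fun i => o2 (normalizer (i.1 : Set G))) ∧
      GIn (quad d.inv d.nt h16) S (zl (S : Subgroup G) P) d.R0 (o2 (normalizer (d.R0 : Set G)))
        (o2 (normalizer (d.Roo : Set G))) (vv d) (pu d) (pl d) ∧
      ∃ (Φ : Type u) (_ : AddCommGroup Φ) (_ : Module K Φ) (φ χ : G → Φ),
        Fld (quad d.inv d.nt h16) (zl (S : Subgroup G) P) d.R0 (o2 (normalizer (d.R0 : Set G)))
          (o2 (normalizer (d.Roo : Set G))) (vv d) (pu d) φ χ ∧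
        FldX (quad d.inv d.nt h16) (zl (S : Subgroup G) P) (o2 (normalizer (d.R0 : Set G)))
          (o2 (normalizer (d.Roo : Set G))) (vv d) (pl d) φ χ := by
  obtain ⟨d, h3, h4, h5, h6, -⟩ := Plug.main h m h1 h2
  obtain ⟨hM, hg, -⟩ := GHyp.main' h6 h16 h5.meet S h5.S_M h3
  refine ⟨d, h3, h4, h5, h6, hM, hg, ?_⟩
  exact exists_FldX (Rf := fun i : Inst.Pt d => i.1) (Qf := fun i => o2 (normalizer (i.1 : Set G)))
    (i := i0 d) (j := i1 d) hg hM (i0_ne_i1 d) fun x => mem_Roo_vv d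

end pre

/-- **`EndMinusQ`** from ALL-N1 and the ends `dim Φ = 1`, `dim Φ ≥ 2` (`dim Φ = 0` is `known_zero`). -/
theorem endMinusQ_of {K : Cls.{u}} (hB : RootLemma.Bender.{u}) (h44 : Exits.St1144.{u}) (hA : AllMinus.{u})
    (h1 : EndOne.{u}) (h2 : EndBig.{u}) : EndMinusQ K := by
  intro G _ _ S P h _ F _ _ _ σ hσ hσ2 h16 m
  obtain ⟨d, hS, hZ, hSy, hH, hM, hg, Φ, _, _, φ, χ, hf, hX⟩ := exists_pre h m hσ hσ2 h16
  obtain ⟨hmx, htop⟩ := hA G S P h F σ h16 d hS hZ hSy hH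
  obtain ⟨W, _, _, w, g, f₀, ι, hm, o, hs⟩ := SemiOf.exists_Out_semi hg hf
  have D : Dat (GInst.quad d.inv d.nt h16) S (zl (S : Subgroup G) P) (fun i : Inst.Pt d => i.1)
      (fun i => o2 (normalizer (i.1 : Set G))) (GHyp.i0 d) (GHyp.i1 d) (GInst.vv d) (GInst.pu d) (GInst.pl d)
      φ χ hm w g f₀ ι :=
    { ctx := h.ctx
      full := h.full
      Z_R := hZ
      D := { g := hg, M := hM, ne := GHyp.i0_ne_i1 d, Rj := fun x => GInst.mem_Roo_vv d, f := hf, mx := hmx }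
      X := hX
      o := o
      semi := hs
      top := htop }
  rcases Nat.lt_or_ge (Module.finrank F Φ) 1 with hn | hn
  · have hfin : Finite Φ := by
      apply Finite.of_surjective φ
      intro x
      obtain ⟨y, -, -, hy⟩ := hf.φ_surj x
      exact ⟨y, hy⟩
    have : Module.Finite F Φ := Module.Finite.of_finite
    have : Subsingleton Φ := (Module.finrank_zero_iff (R := F)).1 (by omega)
    have hE : NOne.SU.Ext (zl (S : Subgroup G) P) d.R0 (o2 (normalizer (d.R0 : Set G)))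
        (o2 (normalizer (d.Roo : Set G))) (GInst.pl d) :=
      { p'_surj := hX.p'_surj
        sw := by
          obtain ⟨n, hn, h3, -, -⟩ := hX.swap
          exact ⟨n, hn, h3⟩
        MX := hmx }
    exact known_zero hB h44 h.ctx h.full hg hf o hE
  · rcases Nat.lt_or_ge (Module.finrank F Φ) 2 with hn' | hn'
    · exact h1 G _ F _ S _ _ _ _ _ _ _ _ _ Φ φ χ hm W w g f₀ ι D (by omega)
    · exact h2 G _ F _ S _ _ _ _ _ _ _ _ _ Φ φ χ hm W w g f₀ ι D hn'

end Cfsg.Agent.Omega.NO1.EndQ
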