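import Cfsg.Agent.Omega.NO1.Types
import Cfsg.Agent.Omega.FFThmM

/-!
# The leaf N1 (= NO-1': `V_P ≰ O₂(C_G(Z))`) from its parts (project OMEGA, assembler: helper406)

Text: #11359, #12527 (frame, LANDED: `NO1/Cfg.lean`, `NOne/NearFF.lean`), MASTER v5.2 #13358;
`C = C_G(Z)`, `Q = O₂(C)`, `V = V_P`, `E = V ∩ Q`.

Parts (each a Prop, no part uses another one):
* `FFThm.StmtM` (the K-free FF theorem, #12272, module form) and the types `NatOne`, `NatMany`, `SymAll`;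
* (BT), the near-FF theorem, `V` without offender: `BTNot` (TEXT B4 #15506; old split: `BTTwo` (`|V/E| = 2`),
  `BTMin`, `BTNoMin` (`|V/E| ≥ 4`));
* ends: `EndMinus2`, `EndPlus2`, `EndNat4` (`|V| = 16`, they reach "`F*(C_G(z))` of symplectic type"),
  `EndMinusQ`, `EndPlusQ` (`q ≥ 4`, they reach the list).
-/

set_option autoImplicit false
set_option linter.unusedSectionVars false

namespace Cfsg.Agent.Omega.NO1

open Subgroup Cfsg Cfsg.Agent.ZN Cfsg.Agent.Omega.MinPar Cfsg.Agent.Omega.Frame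
open Cfsg.Agent.Omega.NoFF.LinesPlug (CC)
open Cfsg.Agent.Omega.NOne.NearFF (V1)
open Cfsg.Agent.Omega.FFThm (OffM NatK SymK)
open Cfsg.Agent.Omega.FrameFF (cv)
open scoped Pointwise

universe u

/-! ### The types of `V_P`, `V_P` with an offender -/

section FF

/-- **`V` one natural `SL₂(F)`-module**: `q = 4` and `|Z| = 2` (THEOREM NAT #13408, helper359; `q = 2`:
LEMMA T).  Owner: helper359. -/
def NatOne : Prop :=
  ∀ (G : Type u) [Group G] [Finite G] (S : Sylow 2 G) (P : Subgroup G), Cfg S P →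
    ∀ (F : Type) [Field F] [Finite F] [CharP F 2],
      NatK F (S : Subgroup G) P (zl (S : Subgroup G) P) (cv (S : Subgroup G) P) 1 → Ty (S : Subgroup G) P

/-- **`V` the sum of `k ≥ 2` natural modules**: `q = 2`, `k = 2`, `V = O₄⁺(2)` (#14396, #14576).
Owner: helper727, helper806, helper791. -/
def NatMany : Prop :=
  ∀ (G : Type u) [Group G] [Finite G] (S : Sylow 2 G) (P : Subgroup G), Cfg S P →
    ∀ (F : Type) [Field F] [Finite F] [CharP F 2] (k : ℕ), 2 ≤ k →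
      NatK F (S : Subgroup G) P (zl (S : Subgroup G) P) (cv (S : Subgroup G) P) k → Ty (S : Subgroup G) P

/-- **`V` a sum of even-subset modules**: `k = 1`, `m = 2`, `V = O₄⁻(2)`.  Owner: helper457. -/
def SymAll : Prop :=
  ∀ (G : Type u) [Group G] [Finite G] (S : Sylow 2 G) (P : Subgroup G), Cfg S P →
    ∀ k m : ℕ, 0 < k → 2 ≤ m →
      SymK (S : Subgroup G) P (zl (S : Subgroup G) P) (cv (S : Subgroup G) P) k m → Ty (S : Subgroup G) P

end FF

/-! ### (BT): the types of `V_P`, `V_P` without offender -/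

section BT

/-- `P` induces no offender on `V_P` (module form: `A` is elementary abelian modulo `C_A(V)`). -/
def NoOff {G : Type u} [Group G] (S P : Subgroup G) : Prop :=
  ∀ A : Subgroup G, A ≤ P → ¬ OffM (zl S P) A

/-- The subgroup `E₀ = V ∩ O₂(C_G(Z₀))`, `Z₀ ≤ Z`. -/
abbrev EZ {G : Type u} [Group G] (S P Z₀ : Subgroup G) : Subgroup G := zl S P ⊓ o2 (centralizer (Z₀ : Set G))

/-- **(BT), `|V/E₀| = 2` for all `1 ≠ Z₀ ≤ Z`** (#12590, #13091, #13635, #13823, #14271, #13987, #14522).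
Split in `NO1/TwoBr.lean`: `BTAbs` (`|Z| = 2`, abstract) and `BTZ` (`|Z| ≥ 4`).
Owner: helper318, helper575, helper620, helper817, helper276; Lean: helper132, helper710, helper65. -/
def BTTwo : Prop :=
  ∀ (G : Type u) [Group G] [Finite G] (S : Sylow 2 G) (P : Subgroup G), Cfg S P →
    NoOff (S : Subgroup G) P →
    (∀ Z₀ : Subgroup G, Z₀ ≤ zc (S : Subgroup G) → Z₀ ≠ ⊥ →
      (EZ (S : Subgroup G) P Z₀).relIndex (zl (S : Subgroup G) P) = 2) → Ty (S : Subgroup G) P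

/-- **(BT), `|V/E₀| ≥ 4` for some `1 ≠ Z₀ ≤ Z`, case (I)**: some `P₂ ∈ P(S)`, `P₂ ≤ C_G(Z₀)`, has
`V ≰ O₂(P₂)`.
Owner: helper527, helper732, helper2, helper723; wreathed: helper247, helper766. -/
def BTMin : Prop :=
  ∀ (G : Type u) [Group G] [Finite G] (S : Sylow 2 G) (P : Subgroup G), Cfg S P →
    NoOff (S : Subgroup G) P →
    ∀ Z₀ : Subgroup G, Z₀ ≤ zc (S : Subgroup G) → Z₀ ≠ ⊥ →
      4 ≤ (EZ (S : Subgroup G) P Z₀).relIndex (zl (S : Subgroup G) P) →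
      (∃ P₂ : Subgroup G, IsPar (S : Subgroup G) P₂ ∧ P₂ ≤ centralizer (Z₀ : Set G) ∧
        ¬ zl (S : Subgroup G) P ≤ o2 P₂) → Ty (S : Subgroup G) P

/-- **(BT), `|V/E₀| ≥ 4` for some `1 ≠ Z₀ ≤ Z`, case (II)**: `V ≤ O₂(P₂)` for all `P₂ ∈ P(S)`,
`P₂ ≤ C_G(Z₀)`.
Owner: helper438, helper70, helper626, helper389. -/
def BTNoMin : Prop :=
  ∀ (G : Type u) [Group G] [Finite G] (S : Sylow 2 G) (P : Subgroup G), Cfg S P →
    NoOff (S : Subgroup G) P →
    ∀ Z₀ : Subgroup G, Z₀ ≤ zc (S : Subgroup G) → Z₀ ≠ ⊥ →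
      4 ≤ (EZ (S : Subgroup G) P Z₀).relIndex (zl (S : Subgroup G) P) →
      (∀ P₂ : Subgroup G, IsPar (S : Subgroup G) P₂ → P₂ ≤ centralizer (Z₀ : Set G) →
        zl (S : Subgroup G) P ≤ o2 P₂) → Ty (S : Subgroup G) P

/-- **(BT)**: the five types. -/
def BT : Prop :=
  ∀ (G : Type u) [Group G] [Finite G] (S : Sylow 2 G) (P : Subgroup G), Cfg S P → Ty (S : Subgroup G) P

/-- `V ≰ O₂(C_G(Z₀))` for `1 ≠ Z₀ ≤ Z`. -/
theorem not_le_Z₀ {G : Type u} [Group G] [Finite G] {S : Sylow 2 G} {P : Subgroup G} (h : Cfg S P)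
    {Z₀ : Subgroup G} (hZ : Z₀ ≤ zc (S : Subgroup G)) :
    ¬ zl (S : Subgroup G) P ≤ o2 (centralizer (Z₀ : Set G)) := fun h1 =>
  h.one.not_le (h1.trans (o2_le_o2 S (Cfg.S_le_CC S) (centralizer_le hZ)))

theorem EZ_relIndex {G : Type u} [Group G] [Finite G] {S : Sylow 2 G} {P : Subgroup G} (h : Cfg S P)
    {Z₀ : Subgroup G} (hZ : Z₀ ≤ zc (S : Subgroup G)) :
    (EZ (S : Subgroup G) P Z₀).relIndex (zl (S : Subgroup G) P) = 2 ∨
      4 ≤ (EZ (S : Subgroup G) P Z₀).relIndex (zl (S : Subgroup G) P) := by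
  have : Fact (Nat.Prime 2) := ⟨Nat.prime_two⟩
  obtain ⟨k, hk⟩ := IsPGroup.iff_card.1 h.V_isPGroup
  have h1 : (EZ (S : Subgroup G) P Z₀).relIndex (zl (S : Subgroup G) P) ∣ 2 ^ k := by
    rw [← hk]
    exact relIndex_dvd_card _ _
  obtain ⟨j, -, hj⟩ := (Nat.dvd_prime_pow Nat.prime_two).1 h1
  rcases j with _ | _ | j
  · exfalso
    rw [pow_zero, relIndex_eq_one] at hj
    exact not_le_Z₀ h hZ (hj.trans inf_le_right)
  · left; rw [hj]; norm_num
  · right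
    rw [hj]
    calc 4 = 2 ^ 2 := by norm_num
      _ ≤ 2 ^ (j + 1 + 1) := Nat.pow_le_pow_right (by norm_num) (by omega)

/-- **(BT), `V_P` without offender** (TEXT B4 #15506: LEMMA J, THEOREM FLAT and the module problem; or
`btNot_of`). -/
def BTNot : Prop :=
  ∀ (G : Type u) [Group G] [Finite G] (S : Sylow 2 G) (P : Subgroup G), Cfg S P →
    NoOff (S : Subgroup G) P → Ty (S : Subgroup G) P

/-- The old case split. -/
theorem btNot_of (h2 : BTTwo.{u}) (h3 : BTMin.{u}) (h4 : BTNoMin.{u}) : BTNot.{u} := by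
  intro G _ _ S P h hoff
  by_cases hA : ∀ Z₀ : Subgroup G, Z₀ ≤ zc (S : Subgroup G) → Z₀ ≠ ⊥ →
      (EZ (S : Subgroup G) P Z₀).relIndex (zl (S : Subgroup G) P) = 2
  · exact h2 G S P h hoff hA
  · push Not at hA
    obtain ⟨Z₀, hZ, hZ1, hA⟩ := hA
    have hA4 := (EZ_relIndex h hZ).resolve_left hA
    by_cases hP : ∃ P₂ : Subgroup G, IsPar (S : Subgroup G) P₂ ∧ P₂ ≤ centralizer (Z₀ : Set G) ∧
      ¬ zl (S : Subgroup G) P ≤ o2 P₂
    · exact h3 G S P h hoff Z₀ hZ hZ1 hA4 hP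
    · push Not at hP
      exact h4 G S P h hoff Z₀ hZ hZ1 hA4 hP

/-- (BT) from its parts. -/
theorem bt_of (hFF : FFThm.StmtM.{u}) (f1 : NatOne.{u}) (f2 : NatMany.{u}) (f3 : SymAll.{u})
    (hN : BTNot.{u}) : BT.{u} := by
  intro G _ _ S P h
  by_cases hoff : NoOff (S : Subgroup G) P
  · exact hN G S P h hoff
  · unfold NoOff at hoff
    push Not at hoff
    obtain ⟨-, ⟨F, _, _, _, k, hk, ⟨M⟩⟩ | ⟨k, m, hk, hm, ⟨M⟩⟩⟩ :=
      hFF G (S : Subgroup G) P ⟨h.S_le, S.isPGroup', fun _ _ hT hST => S.is_maximal' hT hST⟩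
        h.par.toIsMinPar (h.loc.char2 S h.ctx.char2) hoff
    · rcases Nat.lt_or_ge k 2 with hk2 | hk2
      · obtain rfl : k = 1 := by omega
        exact f1 G S P h F M.toNatK
      · exact f2 G S P h F k hk2 M.toNatK
    · exact f3 G S P h k m hk hm M.toSymK

end BT

/-! ### The ends, `|V| = 16` -/

section ends

/-- `F*(C_G(z))` of symplectic type. -/
def Sympl {G : Type u} [Group G] (z : G) : Prop :=
  orderOf z = 2 ∧ IsOfSymplecticType ↥(generalizedFittingSubgroup ↥(centralizer ({z} : Set G)))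

/-- **(β), `q = 2`**: THEOREM D0 (#11921, `NOne/DZeroPts.lean`).  Owner: helper302 / helper406 (plug). -/
def EndMinus2 : Prop :=
  ∀ (G : Type u) [Group G] [Finite G] (S : Sylow 2 G) (P : Subgroup G), Cfg S P →
    ∀ z : Fin 5 → G, Minus2 (S : Subgroup G) P z → Sympl (z 0)

/-- **(γ), `q = 2`**: THEOREM D0+ (#12107, #12381, #13123) and THEOREM D0ag (#13591).
Owner: helper313, helper319. -/
def EndPlus2 : Prop :=
  ∀ (G : Type u) [Group G] [Finite G] (S : Sylow 2 G) (P : Subgroup G), Cfg S P →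
    ∀ z : Fin 3 → Fin 3 → G, Plus2 (S : Subgroup G) P z → Sympl (z 0 0)

/-- **(α)**: `V` natural for `SL₂(4)`, `|Z| = 2`: THEOREM D0ag (#13591; shadows `Aut M₂₂`, `M₂₂`, `M₂₃`).
Owner: helper313. -/
def EndNat4 : Prop :=
  ∀ (G : Type u) [Group G] [Finite G] (S : Sylow 2 G) (P : Subgroup G), Cfg S P →
    Nat4 (S : Subgroup G) P → ∃ t : G, Sympl t

variable (K : Cls.{u})

/-- **(β), `q ≥ 4`**: THEOREM BETA (#12530; helper136, 652, 183), THEOREM U = SU (#13345, #13356; helper301,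
177, 456), closing (#13360-: helper802, 301, 943, 870, 534).  Output `U_n(q)`. -/
def EndMinusQ : Prop :=
  ∀ (G : Type u) [Group G] [Finite G] (S : Sylow 2 G) (P : Subgroup G), Cfg S P → K G →
    ∀ (F : Type) [Field F] [Finite F] [CharP F 2] (σ : F ≃+* F), σ ≠ RingEquiv.refl F →
      (∀ x, σ (σ x) = x) → 16 ≤ Nat.card F → MinusQ F σ P (zl (S : Subgroup G) P) → IsKnownSimple' G

/-- **(γ), `q ≥ 4`**: THEOREM BETA for `O₄⁺(q)` (#12530), END (the factors are interchanged: contradiction).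
Owner: helper177 (text). -/
def EndPlusQ : Prop :=
  ∀ (G : Type u) [Group G] [Finite G] (S : Sylow 2 G) (P : Subgroup G), Cfg S P → K G →
    ∀ (F : Type) [Field F] [Finite F] [CharP F 2], 4 ≤ Nat.card F →
      4 ≤ (EE (S : Subgroup G) P).relIndex (zl (S : Subgroup G) P) →
      PlusQ F P (zl (S : Subgroup G) P) → IsKnownSimple' G

end ends

/-! ### The leaf -/

/-- **N1 from (BT), the ends and `NodeSympl`.**  The ends for `q ≥ 4` may use (BT). -/
theorem nodeN1_of {K : Cls.{u}} (hS : FrameExtra.NodeSympl K) (hBT : BT.{u}) (h1 : EndMinus2.{u})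
    (h2 : EndPlus2.{u}) (h4 : EndNat4.{u}) (h5 : BT.{u} → EndMinusQ K) (h6 : BT.{u} → EndPlusQ K) :
    FrameLE.NodeN1 K := by
  intro G _ _ hG hK S hF P hP hV
  have h : Cfg S P := Cfg.of hG hF hP hV
  rcases hBT G S P h with ⟨z, hz⟩ | ⟨z, hz⟩ | hn | ⟨F, σ, ha, hb, hc, ⟨M⟩⟩ | ⟨F, hc, hE, ⟨M⟩⟩
  · obtain ⟨ho, hq⟩ := h1 G S P h z hz
    exact hS G hG hK (z 0) ho hq
  · obtain ⟨ho, hq⟩ := h2 G S P h z hz
    exact hS G hG hK (z 0 0) ho hq
  · obtain ⟨t, ho, hq⟩ := h4 G S P h hn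
    exact hS G hG hK t ho hq
  · exact h5 hBT G S P h hK F σ ha hb hc M
  · exact h6 hBT G S P h hK F hc hE M

end Cfsg.Agent.Omega.NO1
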