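import Cfsg.Agent.Omega.Node.OmTopQ
import Cfsg.Agent.Omega.OM.SWT.CaseLM

/-!
# (Om) over the case (L) of GammaFF, natural blocks, `q ≥ 4`: from THEOREM QW and LAMBDA

* `OffHQ K` (THEOREM QW), `LamHQ K` (LAMBDA) : the sockets for the minimal parabolics `Y ≤ C_G(Ω₁Z(S))` with
  `lim S ≤ O₂(Y)`, `O₂(P) ≰ O₂(Y)`, `Y ≰ M`;
* `omX_of_lam : CoreQ → OffHQ K → LamHQ K → OmX K (4 ≤ q)`.
-/

set_option autoImplicit false
set_option linter.unusedSectionVars false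

namespace Cfsg.Agent.Omega.Node.OmTopQ

open Subgroup Cfsg Cfsg.Agent.ZN.ChoiceBase Cfsg.Agent.ZN.ChoiceSit
open Cfsg.Agent.ZN (jj zj bau zc zl o2)
open Cfsg.Agent.Omega.NO3S.Level (nxt Lev CaseL)
open Cfsg.Agent.Omega.NO3S.OneLine (NatC)
open Cfsg.Agent.Omega.FFThm (NatK NatKM)
open Cfsg.Agent.Omega.FrameFF (cv)
open Cfsg.Agent.Omega.FrameNOFF (CZ)
open Cfsg.Agent.Omega.Frame (Cls)
open Cfsg.Agent.Omega.OM
open Cfsg.Agent.Omega.OM.LevB (FBlk)
open Cfsg.Agent.Omega.OM.SWT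
open Cfsg.Agent.Omega.OM.SwapT.QuietL (OffW)
open Cfsg.Agent.Omega.MinPar (IsLoc)
open Cfsg.Agent.Omega.Node.MultiOf (FBl)
open Cfsg.Agent.Omega.Node.MulX

universe u

section one

variable {G : Type u} [Group G] [Finite G] {S : Sylow 2 G} {P B ZJ : Subgroup G} {k : ℕ}
  {L W Z C A : Fin k → Subgroup G} {q : ℕ}

theorem OmC.hP (h : OmC S P B ZJ L W Z C A q) :
    P ≤ normalizer (o2 (KX B ZJ (zl (S : Subgroup G) P)) : Set G) ∧
    IsLoc (S : Subgroup G) (normalizer (o2 (KX B ZJ (zl (S : Subgroup G) P)) : Set G)) := by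
  have hcl := h.mul.cl
  have eB : B = BT (nL hcl) := h.mul.eqB
  have eZ : ZJ = ZT (nL hcl) := h.mul.eZ
  have hZV : ZT (nL hcl) ≤ zl (S : Subgroup G) P := by rw [← eZ]; exact h.mul.fr.ZJV
  have hKX : KX B ZJ (zl (S : Subgroup G) P) ≤ normalizer (o2 (KX B ZJ (zl (S : Subgroup G) P)) : Set G) :=
    le_sup_left.trans h.le
  have hN : normalizer (BT (nL hcl) : Set G) ≤ normalizer (o2 (KX B ZJ (zl (S : Subgroup G) P)) : Set G) := by
    rw [← eB]; exact le_sup_right.trans h.le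
  have hSX : (S : Subgroup G) ≤ normalizer (o2 (KX B ZJ (zl (S : Subgroup G) P)) : Set G) :=
    ((lb (nL hcl)).two_le S.isPGroup' (lb (nL hcl)).BS).trans hN
  have hst := hcl.hypN.star
  obtain ⟨L₁, V₁, -, h2, h3, h4⟩ := exists_fblk hcl hZV hcl.hypN.toHyp.syl (lb (nL hcl)).BS hst.toIsMinPar
    (hst.isLoc.char2 S hcl.ctx.char2) le_rfl (MulG.top_caseL hcl).nxt
    (fun hc => hst.not_zc (hc.trans (centralizer_le_normalizer _)))
  rw [← eB] at h2
  refine ⟨h4.trans (sup_le hSX ((blk_le ⟨⟨h2.fb, h2.blk⟩, h3⟩).trans hKX)), hSX, fun e => h.ne ?_⟩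
  rw [eq_bot_iff, ← e]
  exact le_o2 (isPGroup_o2 _) le_normalizer le_rfl

/-- **(Om) is impossible in the case (L), `q ≥ 4`.** -/
theorem OmC.false_lam (hcore : CoreQ.{u}) (h : OmC S P B ZJ L W Z C A q) (hq : 4 ≤ q)
    (ho : OffW S P (normalizer (o2 (KX B ZJ (zl (S : Subgroup G) P)) : Set G)))
    (hL : LamS S P (normalizer (o2 (KX B ZJ (zl (S : Subgroup G) P)) : Set G))) : False := by
  have hcl := h.mul.cl
  obtain ⟨hP, -⟩ := h.hP
  set X : Subgroup G := normalizer (o2 (KX B ZJ (zl (S : Subgroup G) P)) : Set G) with hX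
  have eB : B = BT (nL hcl) := h.mul.eqB
  have eZ : ZJ = ZT (nL hcl) := h.mul.eZ
  obtain ⟨F, _, _, _, hF, ⟨N⟩⟩ := h.mul.nat
  obtain ⟨M, L', Z', A', -, D⟩ := exists_dt (n := nL hcl) hcl.hypN le_rfl (MulG.exists_BO_caseL hcl) h.k2 N
  have hZV : ZT (nL hcl) ≤ zl (S : Subgroup G) P := by rw [← eZ]; exact h.mul.fr.ZJV
  have hKX : KX B ZJ (zl (S : Subgroup G) P) ≤ X := le_sup_left.trans h.le
  have hN : normalizer (BT (nL hcl) : Set G) ≤ X := by rw [← eB]; exact le_sup_right.trans h.le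
  have hD : centralizer (ZT (nL hcl) : Set G) ≤ X := by rw [← eZ]; exact cent_le.trans hKX
  have hblk : ∀ L' V' : Subgroup G, FBlk (BT (nL hcl)) L' V' → V' ≤ zl (S : Subgroup G) P → L' ≤ X := by
    intro L' V' h1 h2
    rw [← eB] at h1
    exact (blk_le ⟨⟨h1.fb, h1.blk⟩, h2⟩).trans hKX
  have hSX : (S : Subgroup G) ≤ X := ((lb (nL hcl)).two_le S.isPGroup' (lb (nL hcl)).BS).trans hN
  have hZM : normalizer (ZT (nL hcl) : Set G) ≤ X := by
    have h1 := LevD.norm_le_M (𝓑 := fun _ _ => False) (lb (nL hcl))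
      (sup_le hD (iSup_le fun i => i.2.elim)) hN
    exact h1
  have hDV : centralizer (zl (S : Subgroup G) P : Set G) ≤ X := (centralizer_le (by exact_mod_cast hZV)).trans hD
  have hLX : ∀ i, L' i ≤ X := fun i =>
    hblk (L' i) _ ⟨⟨_, _, D.bg.fr.blk i⟩, D.bg.block i⟩ fun v hv => hv.1
  have hCZ : CZ (S : Subgroup G) ≤ X := by
    refine hcore G S P (nL hcl) F k M L' Z' A' D (by rw [hF]; exact hq) X (fun m hm => ?_) (fun m hm => ?_)
      (fun m hm => ?_) hLX hP hD hN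
    · exact bm_ofM hcl D.ln (by rw [hF]; omega) (lowM_cj hcl (lowM_of hcl hL hSX hDV hN) hN hm) hblk hN
    · exact qfix_of hcl hZV (offC_of hcl ho hSX hDV hN)
    · exact qfam_ofM hcl ho hZM hSX hDV hN
  exact h.ne (hcl.hypN.nonLoc _ (isPGroup_o2 _) hP hCZ)

end one

section sockets

variable (K : Cls.{u})

/-- **THEOREM QW**, case (L), natural, `q ≥ 4`. -/
def OffHQ : Prop :=
  ∀ (G : Type u) [Group G] [Finite G], K G → ∀ (S : Sylow 2 G) (P B ZJ : Subgroup G) (k : ℕ)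
    (L W Z C A : Fin k → Subgroup G) (q : ℕ), 2 ≤ k → 4 ≤ q → MulL S P B ZJ L W Z C A q →
      ∀ M : Subgroup G, IsLoc (S : Subgroup G) M → P ≤ M → centralizer (ZJ : Set G) ≤ M →
        normalizer (B : Set G) ≤ M → OffW S P M

/-- **LAMBDA**, case (L), natural, `q ≥ 4`. -/
def LamHQ : Prop :=
  ∀ (G : Type u) [Group G] [Finite G], K G → ∀ (S : Sylow 2 G) (P B ZJ : Subgroup G) (k : ℕ)
    (L W Z C A : Fin k → Subgroup G) (q : ℕ), 2 ≤ k → 4 ≤ q → MulL S P B ZJ L W Z C A q →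
      ∀ M : Subgroup G, IsLoc (S : Subgroup G) M → P ≤ M → centralizer (ZJ : Set G) ≤ M →
        normalizer (B : Set G) ≤ M → OffW S P M → LamS S P M

end sockets

/-- **(Om), case (L), natural, `q ≥ 4`.** -/
theorem omX_of_lam {K : Cls.{u}} (hcore : CoreQ.{u}) (hO : OffHQ K) (hL : LamHQ K) : OmX K fun _ q => 4 ≤ q := by
  intro G _ _ hK S P B ZJ k L W Z C A q hk hq hM h1 h2 h3
  have h : OmC S P B ZJ L W Z C A q := ⟨hM, hk, h1, h2, h3⟩
  have h4 := hO G hK S P B ZJ k L W Z C A q hk hq hM _ h.hP.2 h.hP.1 ((cent_le.trans le_sup_left).trans h.le)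
    (le_sup_right.trans h.le)
  exact (h.false_lam hcore hq h4 (hL G hK S P B ZJ k L W Z C A q hk hq hM _ h.hP.2 h.hP.1
    ((cent_le.trans le_sup_left).trans h.le) (le_sup_right.trans h.le) h4)).elim

end Cfsg.Agent.Omega.Node.OmTopQ
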