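import Cfsg.Agent.Omega.Node.CaseLPY
import Cfsg.Agent.Omega.EK3.QL.Fin
import Cfsg.Agent.Omega.EK3.QL.LowOff

/-!
# (E), `q ≥ 4`, over the case (L) of GammaFF: everything from THEOREM L(q)

* `LThmK K` : `LThm` for all `MulL`, `k ≥ 2`, `q ≥ 4`;
* `eTwoQ_of`, `eManyQ_of` : over `OffNK K`;  `eTwoQ_ofL`, `eManyQ_ofL` : over `LThmK K`.
-/

set_option autoImplicit false

namespace Cfsg.Agent.Omega.Node.CaseLPZ

open Subgroup Cfsg Cfsg.Agent.Omega.Frame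
open Cfsg.Agent.Omega.Node.MulX
open Cfsg.Agent.Omega.EK3

universe u

/-- **THEOREM L(q)** over `MulL`, `k ≥ 2`, `q ≥ 4`. -/
def LThmK (K : Cls.{u}) : Prop :=
  ∀ (G : Type u) [Group G] [Finite G], K G → ∀ (S : Sylow 2 G) (P B ZJ : Subgroup G) (k : ℕ)
    (L W Z C A : Fin k → Subgroup G) (q : ℕ), 2 ≤ k → 4 ≤ q → MulL S P B ZJ L W Z C A q → QL.LOff.LThm S P ZJ Z

variable {K : Cls.{u}}

theorem offNK_of (hML : ML.Final.MLK.{u, u}) (hL : LThmK K) : QL.OffNK K :=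
  fun G _ _ hK S P B ZJ k L W Z C A q hk hq h => QL.LOff.offN_of h hML (hL G hK S P B ZJ k L W Z C A q hk hq h)

theorem eTwoQ_of (hML : ML.Final.MLK.{u, u}) (hE : ML.Ex.Two.Ext.{u, u}) (hO : QL.OffNK K) :
    EX K fun k q => k = 2 ∧ 4 ≤ q :=
  CaseLPY.eTwoQ_of hML hE (QL.tiX hML hE hO)

theorem eManyQ_of (hML : ML.Final.MLK.{u, u}) (hE : ML.Ex.Two.Ext.{u, u}) (hO : QL.OffNK K) :
    EX K fun k q => 3 ≤ k ∧ 4 ≤ q :=
  CaseLPX.eManyQ_of hML hE (QL.tiWX hML hE hO)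

theorem eTwoQ_ofL (hML : ML.Final.MLK.{u, u}) (hE : ML.Ex.Two.Ext.{u, u}) (hL : LThmK K) :
    EX K fun k q => k = 2 ∧ 4 ≤ q :=
  eTwoQ_of hML hE (offNK_of hML hL)

theorem eManyQ_ofL (hML : ML.Final.MLK.{u, u}) (hE : ML.Ex.Two.Ext.{u, u}) (hL : LThmK K) :
    EX K fun k q => 3 ≤ k ∧ 4 ≤ q :=
  eManyQ_of hML hE (offNK_of hML hL)

end Cfsg.Agent.Omega.Node.CaseLPZ
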