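import Cfsg.Agent.Omega.Node.NO3SLevel
import Cfsg.Agent.Omega.NO3S.OneQ
import Cfsg.Agent.Omega.NO3S.Fld.RedEnd

/-!
# NO-3S, natural lines, `q ≥ 4`, critical distance 1, over the `(R, B)`-frame: `OneB` from `OneSzB`

`OneSzB K` : `W_R / R` is the natural module for a normal subgroup `Sz(q)` of `N_G(R) / C`, `W_R = ⟨V^{N_G(R)}⟩`, so
`q = 2^{2m+1}`.  Then `F` has no automorphism of order 2, `S` centralises `R`, `R = Ω₁(Z(S))`, and THEOREM 2F4
(`Omega/TwoFFour`) applies.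
-/

set_option autoImplicit false

namespace Cfsg.Agent.Omega.NO3S

open Subgroup Cfsg Cfsg.Agent.ZN Cfsg.Agent.Omega.MinPar Cfsg.Agent.Omega.Frame Cfsg.Agent.Omega.FrameNOFF
open Cfsg.Agent.Omega.NoFF.Lines Cfsg.Agent.Omega.NatPair
open Cfsg.Agent.MinSimple.VModule
open Cfsg.Agent.LieRecognition.SzMatrix (Good)
open Cfsg.Agent.Omega.TwoFFour (SzMod)

universe u

/-- **The structure of `N_G(R)`**: `W_R / R` is natural for `Sz(q)`. -/
def OneSzB (K : Cls.{u}) : Prop :=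
  ∀ (G : Type u) [Group G] [Finite G], K G → ∀ (S : Sylow 2 G) (P : Subgroup G), HypF S P →
    ∀ (F : Type) [Field F] [Finite F] [CharP F 2], 4 ≤ Nat.card F → NatP F (zl (S : Subgroup G) P) P →
      ∀ B R : Subgroup G, FrB F S P B R → ∀ y : G, Crit R (normalizer (R : Set G)) {P} 1 1 y →
        (∃ (θ : F →+* F) (e m : ℕ) (H : Good F θ e), 1 ≤ m ∧ Nat.card F = 2 ^ (2 * m + 1) ∧
          Nonempty (SzMod H (normalizer (R : Set G)) (W R (normalizer (R : Set G)) {P}) R)) ∨ IsKnownSimple' G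

/-- `OneSzB`, given (F1). -/
def OneSzBF (K : Cls.{u}) : Prop :=
  ∀ (G : Type u) [Group G] [Finite G], K G → ∀ (S : Sylow 2 G) (P : Subgroup G), HypF S P →
    ∀ (F : Type) [Field F] [Finite F] [CharP F 2], 4 ≤ Nat.card F → NatP F (zl (S : Subgroup G) P) P →
      ∀ B R : Subgroup G, FrB F S P B R →
        ¬ PT.kx (zl (S : Subgroup G) P) R ≤ centralizer (zl (S : Subgroup G) P : Set G) →
        ∀ y : G, Crit R (normalizer (R : Set G)) {P} 1 1 y →
        (∃ (θ : F →+* F) (e m : ℕ) (H : Good F θ e), 1 ≤ m ∧ Nat.card F = 2 ^ (2 * m + 1) ∧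
          Nonempty (SzMod H (normalizer (R : Set G)) (W R (normalizer (R : Set G)) {P}) R)) ∨ IsKnownSimple' G

theorem oneSzB_of {K : Cls.{u}} (h1 : FOneB K) (h2 : OneSzBF K) : OneSzB K := by
  intro G _ _ hK S P h F _ _ _ hF M B R hB y hy
  rcases h1 G hK S P h F hF M B R hB 1 y le_rfl hy with h3 | h3
  · exact h2 G hK S P h F hF M B R hB h3 y hy
  · exact Or.inr h3

/-- a field of order `2^(2m+1)` has no automorphism of order 2 -/
theorem no_invol {F : Type*} [Field F] [Finite F] [CharP F 2] {m : ℕ} (hF : Nat.card F = 2 ^ (2 * m + 1))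
    {σ : F ≃+* F} (h2 : ∀ x, σ (σ x) = x) : σ = RingEquiv.refl F := by
  by_contra h1
  have h3 := Fld.card_fixed h1 h2
  rw [hF] at h3
  have h4 : (Nat.card {x : F // σ x = x}) ∣ 2 ^ (2 * m + 1) := ⟨_, h3.symm⟩
  obtain ⟨k, -, hk⟩ := (Nat.dvd_prime_pow Nat.prime_two).1 h4
  rw [hk, ← pow_add] at h3
  have h5 := Nat.pow_right_injective le_rfl h3
  omega

theorem eq_one_of_order {F : Type*} [Field F] [Finite F] [CharP F 2] {m : ℕ} (hF : Nat.card F = 2 ^ (2 * m + 1))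
    {σ : F ≃+* F} {k : ℕ} (h : orderOf σ = 2 ^ k) : σ = 1 := by
  rcases Nat.eq_zero_or_pos k with rfl | hk
  · exact orderOf_eq_one_iff.1 (by simpa using h)
  obtain ⟨j, rfl⟩ := Nat.exists_eq_succ_of_ne_zero hk.ne'
  exfalso
  have h1 : orderOf (σ ^ 2 ^ j) = 2 := by
    rw [orderOf_pow' σ (pow_ne_zero j two_ne_zero), h, Nat.gcd_eq_right (pow_dvd_pow 2 (Nat.le_succ j)), pow_succ]
    exact Nat.mul_div_cancel_left 2 (pow_pos two_pos j)
  have h2 : (σ ^ 2 ^ j) = RingEquiv.refl F := by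
    refine no_invol hF fun x => ?_
    have h3 : (σ ^ 2 ^ j) ^ 2 = 1 := orderOf_dvd_iff_pow_eq_one.1 h1.dvd
    rw [pow_two] at h3
    exact RingEquiv.congr_fun h3 x
  have h3 : (σ ^ 2 ^ j) = 1 := h2
  rw [h3, orderOf_one] at h1
  omega

/-- If `q = 2^(2m+1)` then `R = Ω₁(Z(S))`. -/
theorem FrB.R_eq {F : Type} [Field F] [Finite F] [CharP F 2] {G : Type u} [Group G] [Finite G] {S : Sylow 2 G}
    {P B R : Subgroup G} (h : FrB F S P B R) (hp : Hyp S P) (N : NatP F (zl (S : Subgroup G) P) P) {m : ℕ}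
    (hF : Nat.card F = 2 ^ (2 * m + 1)) : zc (S : Subgroup G) = R := by
  obtain ⟨M⟩ := Fld.exists_crd hp N
  obtain ⟨σ, k, hk, -, hact⟩ := M.exists_sigma S.isPGroup'
  have hσ : σ = 1 := eq_one_of_order hF hk
  have hVS : zl (S : Subgroup G) P ≤ (S : Subgroup G) := h.pb.VS
  have h1 : M.R ≤ zc (S : Subgroup G) := by
    rw [M.zc_eq hVS (zc_le_zl _ _)]
    refine le_inf le_rfl ?_
    rintro _ ⟨a, rfl⟩
    rw [mem_centralizer_iff]
    intro s hs
    obtain ⟨j, hj⟩ := hact s hs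
    have h2 := hj a
    rw [hσ] at h2
    have h3 : (⇑(1 : F ≃+* F))^[j] a = a := by
      induction j with
      | zero => rfl
      | succ n ih => simp
    rw [h3, mul_inv_eq_iff_eq_mul] at h2
    exact h2
  have h2 : zc (S : Subgroup G) ≤ R := h.pb.zc_le_R hp
  refine Subgroup.eq_of_le_of_card_ge h2 ?_
  rw [h.card, ← M.card_R]
  exact Subgroup.card_le_of_le h1

/-- **`OneB`** -/
theorem oneB {K : Cls.{u}} (hB : RootLemma.Bender.{u}) (h44 : Exits.St1144.{u}) (h : OneSzB K) : OneB K := by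
  intro G _ _ hK S P hL F _ _ _ hF M B R hR y hc
  rcases h G hK S P hL F hF M B R hR y hc with ⟨θ, e, m, H, hm, hFc, ⟨M'⟩⟩ | h1
  · have hZ : zc (S : Subgroup G) = R := hR.R_eq hL.toHyp M hFc
    subst hZ
    obtain ⟨s, -⟩ := TwoFFour.exists_sit hL.toHyp hF M hR.card hc hm hFc rfl M'
    refine s.known_of_par hB h44 hL.ctx (char2_cen hL.ctx.char2) hL.full
      ((MinSimple.VModule.normalizer_le_normalizer_zc _).trans le_sup_left) fun Q hQ => ?_
    by_cases h1 : Q ≤ normalizer (zc (S : Subgroup G) : Set G)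
    · exact h1.trans le_sup_left
    · rcases hR.uniq Q ⟨hQ, h1⟩ with h2 | h2
      · exact h2.trans le_sup_left
      · rw [← h2]
        exact (MinSimple.VModule.le_normalizer_zl _ _).trans le_sup_right
  · exact h1

end Cfsg.Agent.Omega.NO3S
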