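import Cfsg.Agent.Omega.Node.CaseLPZ
import Cfsg.Agent.Omega.NO3S.CaseLW.QWrelPlug

/-!
# (E), `q ≥ 4`, over the case (L) of GammaFF: everything from relative QW (helper291, 498, 555)

* `HFamK K` : helper498's `HFam` for all `MulL`, `k ≥ 2`, `q ≥ 4`;
* `offNK_of : HFamK K → OffNK K`;  `eTwoQ_of`, `eManyQ_of` : over `HFamK K`.
-/

set_option autoImplicit false

namespace Cfsg.Agent.Omega.Node.CaseLPF

open Subgroup Cfsg Cfsg.Agent.Omega.Frame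
open Cfsg.Agent.Omega.Node.MulX
open Cfsg.Agent.Omega.EK3

universe u

section

variable {G : Type u} [Group G] [Finite G] {S : Sylow 2 G} {P B ZJ : Subgroup G} {k : ℕ}
  {L W Z C A : Fin k → Subgroup G} {q : ℕ}

theorem offN_of (h : MulL S P B ZJ L W Z C A q) (hf : NO3S.CaseLW.QWrelPlug.HFam h) : QL.OffN h := by
  intro D _ hm T R hT hBT hP hch hR hn hl hK
  have eZ : ZJ = OM.SwapT.ZT (S : Subgroup G) (ZN.o2 P) := h.eZ
  rw [eZ] at hn
  exact NO3S.CaseLW.QWrelPlug.bestZ_of_fam h hf hm T R hT hBT hP hch hR hl hK hn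

end

/-- `HFam` over `MulL`, `k ≥ 2`, `q ≥ 4`. -/
def HFamK (K : Cls.{u}) : Prop :=
  ∀ (G : Type u) [Group G] [Finite G], K G → ∀ (S : Sylow 2 G) (P B ZJ : Subgroup G) (k : ℕ)
    (L W Z C A : Fin k → Subgroup G) (q : ℕ), 2 ≤ k → 4 ≤ q → ∀ h : MulL S P B ZJ L W Z C A q,
      NO3S.CaseLW.QWrelPlug.HFam h

variable {K : Cls.{u}}

theorem offNK_of (hF : HFamK K) : QL.OffNK K :=
  fun G _ _ hK S P B ZJ k L W Z C A q hk hq h => offN_of h (hF G hK S P B ZJ k L W Z C A q hk hq h)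

theorem eTwoQ_of (hML : ML.Final.MLK.{u, u}) (hE : ML.Ex.Two.Ext.{u, u}) (hF : HFamK K) :
    EX K fun k q => k = 2 ∧ 4 ≤ q :=
  CaseLPZ.eTwoQ_of hML hE (offNK_of hF)

theorem eManyQ_of (hML : ML.Final.MLK.{u, u}) (hE : ML.Ex.Two.Ext.{u, u}) (hF : HFamK K) :
    EX K fun k q => 3 ≤ k ∧ 4 ≤ q :=
  CaseLPZ.eManyQ_of hML hE (offNK_of hF)

end Cfsg.Agent.Omega.Node.CaseLPF
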