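import Cfsg.Agent.Omega.Node.CaseLPF
import Cfsg.Agent.Omega.NO3S.CaseLW.QWHz

/-!
# (E), `q ≥ 4`, over the case (L) of GammaFF: closed

* `hFamK : MLK → HFamK K` (helper291, 498, 555, 276, 993);  `offNK : MLK → OffNK K`;
* **`eTwoQ : MLK → Ext → EX K (k = 2 ∧ 4 ≤ q)`**, **`eManyQ : MLK → Ext → EX K (3 ≤ k ∧ 4 ≤ q)`**.
-/

set_option autoImplicit false

namespace Cfsg.Agent.Omega.Node.CaseLPH

open Cfsg Cfsg.Agent.Omega.Frame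
open Cfsg.Agent.Omega.Node.MulX
open Cfsg.Agent.Omega.EK3

universe u

theorem hFamK (hML : ML.Final.MLK.{u, u}) (K : Cls.{u}) : CaseLPF.HFamK K :=
  fun _ _ _ _ _ _ _ _ _ _ _ _ _ _ _ _ _ h => NO3S.CaseLW.QWHz.hFam h hML

theorem offNK (hML : ML.Final.MLK.{u, u}) (K : Cls.{u}) : QL.OffNK K := CaseLPF.offNK_of (hFamK hML K)

theorem eTwoQ (hML : ML.Final.MLK.{u, u}) (hE : ML.Ex.Two.Ext.{u, u}) (K : Cls.{u}) :
    EX K fun k q => k = 2 ∧ 4 ≤ q :=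
  CaseLPZ.eTwoQ_of hML hE (offNK hML K)

theorem eManyQ (hML : ML.Final.MLK.{u, u}) (hE : ML.Ex.Two.Ext.{u, u}) (K : Cls.{u}) :
    EX K fun k q => 3 ≤ k ∧ 4 ≤ q :=
  CaseLPZ.eManyQ_of hML hE (offNK hML K)

end Cfsg.Agent.Omega.Node.CaseLPH
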