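import Cfsg.Agent.Omega.Node.MulXTwo
import Cfsg.Agent.Omega.EK3.GlueG

/-!
# The case (L) of GammaFF, case (E), `k ≥ 3`, `q = 2`, over `MulX.MulL`

* **`false_X`** : `MulL .. 2`, `3 ≤ k`, `KX` nonlocal, no weird minimal parabolic over `B` in `C_G(Z l : l ≠ j)`:
  contradiction, from THEOREM ML and THEOREM KL;
* **`eX_three : MLK → NoInp → NoW K → EX K (3 ≤ k ∧ q = 2)`**; `multiTwoX_kl`.
-/

set_option autoImplicit false
set_option linter.unusedSectionVars false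

namespace Cfsg.Agent.Omega.Node.MulXThree

open Subgroup Cfsg Cfsg.Agent.ZN.ChoiceBase
open Cfsg.Agent.ZN.ChoiceSit (Syl)
open Cfsg.Agent.ZN (jj zj bau zc zl o2)
open Cfsg.Agent.MinSimple.MinParabolic (IsMinPar)
open Cfsg.Agent.Omega.NO3S (CaseLP MultiTwoH)
open Cfsg.Agent.Omega.Frame (Cls)
open Cfsg.Agent.Omega.OM
open Cfsg.Agent.Omega.Node.MultiOf Cfsg.Agent.Omega.Node.MulG Cfsg.Agent.Omega.Node.MulX
open Cfsg.Agent.Omega.Node.MulXTwo (NoW exists_fbx)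

universe u

/-- UNI+ for the blocks with module in `V_P` -/
theorem uniV {G : Type u} [Group G] [Finite G] {S : Sylow 2 G} {P B ZJ : Subgroup G} {k : ℕ}
    {L W Z C A : Fin k → Subgroup G} (h : MulL S P B ZJ L W Z C A 2) : EK3.UniV S P B ZJ L W := by
  intro L' V' hb hV
  obtain ⟨-, -, i, -, -, -, -, h1⟩ := h.uni ⟨hb, hV⟩
  exact ⟨i, h1 rfl⟩

/-- **(E), case (L), `k ≥ 3`, `q = 2`.** -/
theorem false_X {G : Type u} [Group G] [Finite G] {S : Sylow 2 G} {P B ZJ : Subgroup G} {k : ℕ}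
    {L W Z C A : Fin k → Subgroup G} (hML : ML.Final.MLK.{u, u}) (hKL : KL.Quo.NoInp.{u, u})
    (h : MulL S P B ZJ L W Z C A 2) (hk : 3 ≤ k) (hn : NLoc (KX B ZJ (zl (S : Subgroup G) P)))
    (hW : ∀ (j : Fin k) (Y : Subgroup G), IsMinPar B Y → Syl B Y → Y ⊓ centralizer (o2 Y : Set G) ≤ o2 Y →
      (∀ l, l ≠ j → Y ≤ centralizer (Z l : Set G)) → ¬ o2 P ≤ o2 Y → Y ≤ centralizer (ZJ : Set G)) : False := by
  refine EK3.false_G hML hKL h.toG hk (uniV h) (fun j R h1 h2 h3 h4 h5 h6 => ?_) (h.KX_eq ▸ hn)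
  by_cases hQ : o2 P ≤ o2 R
  · obtain ⟨L', V', h7, ⟨h8, h9⟩, h10⟩ := exists_fbx h h3 le_rfl h2 h4 hQ h5 h6
    exact ⟨L', V', h8, h9, h7, h10.trans (sup_comm _ _).le⟩
  · exact absurd (by rw [h.bg.fr.zcB]; exact hW j R h2 h3 h4 h1 hQ) h6

/-- **(E), case (L), `k ≥ 3`, `q = 2`.** -/
theorem eX_three (hML : ML.Final.MLK.{u, u}) (hKL : KL.Quo.NoInp.{u, u}) {K : Cls.{u}} (hW : NoW K) :
    EX K fun k q => 3 ≤ k ∧ q = 2 := by
  rintro G _ _ hK S P B ZJ k L W Z C A q hk ⟨hk3, rfl⟩ hM hN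
  exact (false_X hML hKL hM hk3 hN (hW G hK S P B ZJ k L W Z C A hk hM hN)).elim

/-- **`MultiTwoH K CaseLP`**: `(Om)` and `NoW`. -/
theorem multiTwoX_kl (hML : ML.Final.MLK.{u, u}) (hKL : KL.Quo.NoInp.{u, u}) {K : Cls.{u}}
    (hO : OmX K fun _ q => q = 2) (hW : NoW K) : MultiTwoH K CaseLP :=
  multiTwoX_of hO (MulXTwo.eX_two hML hKL hW) (eX_three hML hKL hW)

end Cfsg.Agent.Omega.Node.MulXThree
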