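import Cfsg.Agent.Omega.Node.MulX
import Cfsg.Agent.Omega.OM.SwapT.LowF
import Cfsg.Agent.Omega.OM.SwapT.Main
import Cfsg.Agent.Omega.OM.SwapT.QuietL
import Cfsg.Agent.Omega.OM.SwapL.Main

/-!
# (Om) in the case (L), `q = 2`, natural and symmetric types

`FrX S P L W Z C A` : the ground frame `Lt S P (o2 P) L W Z C A 2` in the case (L), `zS` : elements `≠ 1` of `Ω₁(Z(S))` have
full support. `LocX S P M` : `M` 2-local, `M ≥ P, S, C_G(Z_J), N_G(B)`.

* `FrX.exists_c` : `Ω₁(Z(S)) = {1, c}`, `c` of full support; `FrX.trans` : `S` is transitive on the `Z i`;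
* sockets `OffH K` (THEOREM QW), `LamH K` (THEOREM LAMBDA);
* `omX_of : OffH K → LamH K → OmX K (fun _ q => q = 2)`, `omSX_of : OffH K → LamH K → OmSX K (fun _ _ => True)`.
-/

set_option autoImplicit false
set_option linter.unusedSectionVars false

namespace Cfsg.Agent.Omega.Node.OmXOf

open Subgroup Cfsg Cfsg.Agent.ZN.ChoiceBase Cfsg.Agent.ZN.ChoiceSit
open Cfsg.Agent.ZN (jj zj bau zc zl o2)
open Cfsg.Agent.MinSimple.MinParabolic (IsMinPar)
open Cfsg.Agent.MinSimple.VModule (oddGen oddGen_le)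
open Cfsg.Agent.Omega.MinPar (IsParS IsLoc)
open Cfsg.Agent.Omega.FFThm (NatK NatKM SymKM)
open Cfsg.Agent.Omega.FrameFF (cv)
open Cfsg.Agent.Omega.NO3S (HypN)
open Cfsg.Agent.Omega.NO3S.Level (lev nxt Lev BO CaseL lim)
open Cfsg.Agent.Omega.NO3S.WY (WQ WY)
open Cfsg.Agent.Omega.Frame (Cls)
open Cfsg.Agent.Omega.OM
open Cfsg.Agent.Omega.OM.Lev.Uni (FrL)
open Cfsg.Agent.Omega.OM.LevB (FBlk)
open Cfsg.Agent.Omega.OM.SwapT
open Cfsg.Agent.Omega.Node.MultiOf Cfsg.Agent.Omega.Node.MulG Cfsg.Agent.Omega.Node.MulX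

universe u

variable {G : Type u} [Group G] [Finite G]

/-- **The frame**: case (L), `K₀ = O₂(P)`, `q = 2`, natural or symmetric type. -/
structure FrX {ι : Type} (S : Sylow 2 G) (P : Subgroup G) (L W Z C A : ι → Subgroup G) : Prop where
  cl : CaseL S P
  lt : Lt S P (o2 P) L W Z C A 2
  zS : ∀ z ∈ zc (S : Subgroup G), z ≠ 1 → ∀ i, z ∉ C i

/-- A 2-local `M ≥ P, S, C_G(Z_J), N_G(B)`. -/
structure LocX (S : Sylow 2 G) (P M : Subgroup G) : Prop where
  loc : IsLoc (S : Subgroup G) M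
  P_le : P ≤ M
  D_le : centralizer (ZT (S : Subgroup G) (o2 P) : Set G) ≤ M
  N_le : normalizer (BT (S : Subgroup G) (o2 P) : Set G) ≤ M

/-! ### `Ω₁(Z(S))` -/

section frx

variable {ι : Type} {S : Sylow 2 G} {P : Subgroup G} {L W Z C A : ι → Subgroup G}

theorem zcS_le (h : Lt S P (o2 P) L W Z C A 2) : zc (S : Subgroup G) ≤ ZT (S : Subgroup G) (o2 P) := h.lev.next.zc_le

theorem mem_zcS [Finite ι] (h : Lt S P (o2 P) L W Z C A 2) {z : G} (hz : z ∈ ZT (S : Subgroup G) (o2 P))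
    (hc : ∀ s ∈ (S : Subgroup G), s * z = z * s) : z ∈ zc (S : Subgroup G) :=
  mem_zc.2 ⟨(lb h.wcK).BS ((lb h.wcK).ZB hz), (lb h.wcK).sq z hz, hc⟩

theorem S_norm (h : Lt S P (o2 P) L W Z C A 2) :
    (S : Subgroup G) ≤ normalizer (BT (S : Subgroup G) (o2 P) : Set G) :=
  (lb h.wcK).two_le S.isPGroup' (lb h.wcK).BS

theorem mem_zcS_of_full [Finite ι] (h : Lt S P (o2 P) L W Z C A 2) {c : G} (hc : c ∈ ZT (S : Subgroup G) (o2 P))
    (hcf : ∀ i, c ∉ C i) : c ∈ zc (S : Subgroup G) :=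
  mem_zcS h hc fun s hs => comm_of_supp h (S_norm h hs) hc fun i j _ =>
    ⟨fun h1 => absurd h1 (hcf i), fun h1 => absurd h1 (hcf j)⟩

/-- `Ω₁(Z(S)) = {1, c}`. -/
theorem FrX.mem_zcS_iff [Finite ι] (h : FrX S P L W Z C A) {c : G} (hc : c ∈ ZT (S : Subgroup G) (o2 P))
    (hcf : ∀ i, c ∉ C i) {z : G} : z ∈ zc (S : Subgroup G) ↔ z = 1 ∨ z = c := by
  constructor
  · intro hz
    by_cases h1 : z = 1
    · exact Or.inl h1
    · refine Or.inr (eq_of_supp h.lt (zcS_le h.lt hz) hc fun i => ?_)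
      exact ⟨fun h2 => absurd h2 (h.zS z hz h1 i), fun h2 => absurd h2 (hcf i)⟩
  · rintro (rfl | rfl)
    · exact one_mem _
    · exact mem_zcS_of_full h.lt hc hcf

theorem FrX.exists_c [Finite ι] (h : FrX S P L W Z C A) :
    ∃ c ∈ ZT (S : Subgroup G) (o2 P), (∀ i, c ∉ C i) ∧ ∀ z, z ∈ zc (S : Subgroup G) ↔ z = 1 ∨ z = c := by
  obtain ⟨c, hc, hcf⟩ := exists_full h.lt
  exact ⟨c, hc, hcf, fun z => h.mem_zcS_iff hc hcf⟩

/-- `S` is transitive on the `Z i`. -/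
theorem FrX.trans [Finite ι] (h : FrX S P L W Z C A) (i j : ι) : ∃ s ∈ (S : Subgroup G), cj s (Z i) = Z j := by
  obtain ⟨x, hx, hs⟩ := exists_supp h.lt {j | ∃ s ∈ (S : Subgroup G), cj s (Z i) = Z j}
  have hxS : x ∈ zc (S : Subgroup G) := by
    refine mem_zcS h.lt hx fun s hs' => comm_of_supp h.lt (S_norm h.lt hs') hx fun a b e => ?_
    rw [hs, hs]
    refine not_congr ⟨?_, ?_⟩
    · rintro ⟨t, ht, e'⟩
      exact ⟨s * t, mul_mem hs' ht, SwapL.cj_mul_eq e' e⟩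
    · rintro ⟨t, ht, e'⟩
      exact ⟨s⁻¹ * t, mul_mem (inv_mem hs') ht, SwapL.cj_mul_eq e' (SwapL.cj_inv_eq e)⟩
  have hi : x ∉ C i := fun hc => (hs i).1 hc ⟨1, one_mem _, by rw [cj_one]⟩
  have hx1 : x ≠ 1 := fun e => hi (e ▸ one_mem _)
  by_contra hj
  exact h.zS x hxS hx1 j ((hs j).2 hj)

end frx

/-! ### Sockets -/

section sockets

variable (K : Cls.{u})

/-- **Socket: THEOREM QW.** -/
def OffH : Prop :=
  ∀ (G : Type u) [Group G] [Finite G], K G → ∀ (S : Sylow 2 G) (P : Subgroup G) (ι : Type) [Finite ι]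
    (L W Z C A : ι → Subgroup G), FrX S P L W Z C A → ∀ M : Subgroup G, LocX S P M → QuietL.OffW S P M

/-- **Socket: THEOREM LAMBDA.** -/
def LamH : Prop :=
  ∀ (G : Type u) [Group G] [Finite G], K G → ∀ (S : Sylow 2 G) (P : Subgroup G) (ι : Type) [Finite ι]
    (L W Z C A : ι → Subgroup G), FrX S P L W Z C A → ∀ M : Subgroup G, LocX S P M → QuietL.OffW S P M →
      ∀ T Y : Subgroup G, WY S P T Y → BT (S : Subgroup G) (o2 P) ≤ T → lim (S : Subgroup G) ≤ o2 Y →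
        Y ≤ centralizer (zc (S : Subgroup G) : Set G) → Y ≤ M

end sockets

/-! ### LL -/

section main

variable {ι : Type} [Finite ι] {S : Sylow 2 G} {P : Subgroup G} {L W Z C A : ι → Subgroup G}

/-- `LowT` from the socket, for `T ≤ S`. -/
theorem lowT_of (h : FrX S P L W Z C A) {M : Subgroup G} (hM : LocX S P M)
    (hl : ∀ T Y : Subgroup G, WY S P T Y → BT (S : Subgroup G) (o2 P) ≤ T → lim (S : Subgroup G) ≤ o2 Y →
      Y ≤ centralizer (zc (S : Subgroup G) : Set G) → Y ≤ M) {c : G} (hc : c ∈ ZT (S : Subgroup G) (o2 P))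
    (hcf : ∀ i, c ∉ C i) : LowT S (o2 P) M (centralizer ({c} : Set G)) := by
  intro T Y hT hB hY hYc hch hn hZ
  have cl := h.cl
  by_cases hlim : lim (S : Subgroup G) ≤ o2 Y
  swap
  · exact absurd (low_low h.lt cl.lim_le hc hcf hT hB hY hYc hch hlim) hZ
  obtain ⟨g, hg, hle, hzz⟩ := QuietL.exists_norm_B cl.wc cl.levQ hT.2.1 hB
  have hgi : g⁻¹ ∈ normalizer (BT (S : Subgroup G) (o2 P) : Set G) := inv_mem hg
  have hgQ : cj g⁻¹ (o2 P) = o2 P := mem_normalizer_iff_cj.1 (norm_K cl.wc hgi)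
  have hgB : cj g⁻¹ (BT (S : Subgroup G) (o2 P)) = BT (S : Subgroup G) (o2 P) := mem_normalizer_iff_cj.1 hgi
  have hgl : cj g⁻¹ (lim (S : Subgroup G)) = lim (S : Subgroup G) :=
    LevD.norm_of_wc (NO3S.Level.wc_lim S) (lb cl.wc).Bp (cl.lim_le.trans (K_le cl.wc)) hgi
  have ho2 : o2 (cj g⁻¹ Y) = cj g⁻¹ (o2 Y) := o2_cj _ _
  have hBT' : BT (S : Subgroup G) (o2 P) ≤ cj g⁻¹ T := by
    have := cj_mono g⁻¹ hB
    rwa [hgB] at this
  have hcg : g * c = c * g := comm_of_supp h.lt hg hc fun i j _ =>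
    ⟨fun h1 => absurd h1 (hcf i), fun h1 => absurd h1 (hcf j)⟩
  have hcY : cj g⁻¹ Y ≤ centralizer (zc (S : Subgroup G) : Set G) := by
    intro y hy
    rw [mem_centralizer_iff]
    intro z hz
    rcases (h.mem_zcS_iff hc hcf).1 hz with rfl | rfl
    · rw [one_mul, mul_one]
    · rw [mem_cj] at hy
      have h1 := mem_centralizer_singleton_iff.1 (hYc hy)
      have h3 : g⁻¹ * z = z * g⁻¹ := by
        rw [inv_mul_eq_iff_eq_mul, ← mul_assoc, hcg, mul_assoc, mul_inv_cancel, mul_one]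
      rw [inv_inv] at h1
      have h4 : g * (y * z) * g⁻¹ = g * (z * y) * g⁻¹ := by
        calc g * (y * z) * g⁻¹ = g * y * (z * g⁻¹) := by group
          _ = g * y * (g⁻¹ * z) := by rw [h3]
          _ = g * y * g⁻¹ * z := by group
          _ = z * (g * y * g⁻¹) := h1
          _ = (z * g) * y * g⁻¹ := by group
          _ = (g * z) * y * g⁻¹ := by rw [hcg]
          _ = g * (z * y) * g⁻¹ := by group
      exact (mul_left_cancel (mul_right_cancel h4)).symm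
  have hwy : WY S P (cj g⁻¹ T) (cj g⁻¹ Y) := by
    refine WY.of_mv cl ?_ ((K_le cl.wc).trans hBT') (NO1.JMin.syl_cj hT g⁻¹) (QuietL.isMinPar_cj g⁻¹ hY) ?_ ?_ ?_ ?_
    · have := cj_mono g⁻¹ hle
      rwa [cj_inv_cj] at this
    · rw [ho2]
      have := cj_mono g⁻¹ hch
      rwa [cj_inf, cj_centralizer] at this
    · intro hcon
      apply hZ
      have := cj_mono g hcon
      rwa [cj_cj_inv, cj_centralizer, ← NO3S.Level.zc_cj, cj_cj_inv] at this
    · intro hcon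
      apply hn
      rw [ho2] at hcon
      have := cj_mono g hcon
      rw [cj_cj_inv] at this
      refine le_trans (le_of_eq ?_) this
      rw [← hgQ, cj_cj_inv, hgQ]
    · rw [ho2]
      refine ((NO3S.Level.lev_mono (S : Subgroup G) (Nat.zero_le _)).trans hgl.ge).trans (cj_mono g⁻¹ hlim)
  have h2 := hl _ _ hwy hBT' (by rw [ho2]; exact hgl.ge.trans (cj_mono g⁻¹ hlim)) hcY
  have h3 := cj_mono g h2
  rw [cj_cj_inv] at h3
  exact h3.trans (cj_eq_of_mem_normalizer (le_normalizer (hM.N_le hg))).le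

/-- `P ≤ M` if `M` contains `N_G(B)` and the FF-blocks in `V_P`. -/
theorem P_le_of (h : Lt S P (o2 P) L W Z C A 2) (hn : ¬ nxt (S : Subgroup G) (o2 P) ≤ o2 P) {M : Subgroup G}
    (hK : ∀ L V : Subgroup G, FBlk (BT (S : Subgroup G) (o2 P)) L V → V ≤ zc (o2 P) → L ≤ M)
    (hN : normalizer (BT (S : Subgroup G) (o2 P) : Set G) ≤ M) : P ≤ M := by
  have hG := h.hyp.ctx.char2
  have hZ : ¬ P ≤ centralizer (zc (S : Subgroup G) : Set G) := fun hle =>
    h.hyp.star.not_zc (hle.trans (centralizer_le_normalizer _))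
  obtain ⟨L', V', -, hF, hV, hsup⟩ := exists_fblk h.wcK h.lev h.hyp.syl (lb h.wcK).BS h.hyp.star.toIsPar.toIsMinPar
    (h.hyp.star.isLoc.char2 S hG) le_rfl hn hZ
  exact hsup.trans (sup_le ((S_norm h).trans hN) (hK _ _ hF hV))

/-- **(Om) is impossible in the case (L)**, `q = 2`: the group `KX` has `O₂(KX) = 1` if `N_G(B)` normalises it. -/
theorem noOmX (h : FrX S P L W Z C A)
    (hb : ∀ i, FBX (BT (S : Subgroup G) (o2 P)) (zl (S : Subgroup G) P) (L i) (W i))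
    (hN : normalizer (BT (S : Subgroup G) (o2 P) : Set G) ≤
      normalizer (o2 (KX (BT (S : Subgroup G) (o2 P)) (ZT (S : Subgroup G) (o2 P)) (zl (S : Subgroup G) P)) : Set G))
    (hO : ∀ M : Subgroup G, LocX S P M → QuietL.OffW S P M)
    (hL : ∀ M : Subgroup G, LocX S P M → QuietL.OffW S P M →
      ∀ T Y : Subgroup G, WY S P T Y → BT (S : Subgroup G) (o2 P) ≤ T → lim (S : Subgroup G) ≤ o2 Y →
        Y ≤ centralizer (zc (S : Subgroup G) : Set G) → Y ≤ M) :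
    o2 (KX (BT (S : Subgroup G) (o2 P)) (ZT (S : Subgroup G) (o2 P)) (zl (S : Subgroup G) P)) = ⊥ := by
  obtain ⟨c, hc, hcf⟩ := exists_full h.lt
  have hn := (top_caseL h.cl).nxt
  have hK : ∀ L V : Subgroup G, FBlk (BT (S : Subgroup G) (o2 P)) L V → V ≤ zc (o2 P) →
      L ≤ KX (BT (S : Subgroup G) (o2 P)) (ZT (S : Subgroup G) (o2 P)) (zl (S : Subgroup G) P) := fun L V hF hV =>
    blk_le ⟨⟨hF.fb, hF.blk⟩, hV.trans h.cl.zc_eq.le⟩
  refine noOm SwapL.sitFFalse h.lt hn hK cent_le (fun i => blk_le (hb i)) hN hc hcf fun M hM hNM ho => ?_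
  have hD : centralizer (ZT (S : Subgroup G) (o2 P) : Set G) ≤ M := cent_le.trans hM
  have hloc : LocX S P M :=
    { loc := ⟨(S_norm h.lt).trans hNM, ho⟩
      P_le := P_le_of h.lt hn (fun L V hF hV => (hK L V hF hV).trans hM) hNM
      D_le := hD
      N_le := hNM }
  have hoff := hO M hloc
  exact ⟨lowT_of h hloc (hL M hloc hoff) hc hcf,
    QuietL.qFix_of h.cl hoff hD h.lt.fr.ZJV hNM _, QuietL.qFam_of h.cl hoff hD h.lt.fr.ZJV hNM _⟩

end main

/-! ### The frames -/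

section frames

variable {S : Sylow 2 G} {P : Subgroup G}

/-- Natural type. -/
theorem frX_nat {k : ℕ} {L W Z C A : Fin k → Subgroup G} (h : MulL S P (BT (S : Subgroup G) (o2 P))
    (ZT (S : Subgroup G) (o2 P)) L W Z C A 2) : FrX S P L W Z C A := by
  have hlt : Lt S P (o2 P) L W Z C A 2 :=
    ⟨h.cl.hypN, h.cl.wc, h.cl.levQ, le_rfl, by rw [h.cl.zc_eq]; exact h.fr, h.bg.two⟩
  refine ⟨h.cl, hlt, fun z hz hz1 j hj => hz1 (h.fr.C0 z (h.fr.ZJV (zcS_le hlt hz)) fun i => ?_)⟩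
  obtain ⟨s, hs, e⟩ := h.bg.trans i j
  have hsP : s ∈ P := h.cl.hypN.syl.1 hs
  obtain ⟨σ, hσ⟩ := h.bg.perm s hsP
  obtain ⟨h1, h2⟩ := hσ i
  have hij : σ i = j := by
    by_contra hne
    obtain ⟨w, hw, hw1⟩ := Z_ne hlt j
    have hw' : w ∈ W j := Z_W hlt j hw
    have h3 : w ∈ C j := h.fr.WjC j (σ i) (Ne.symm hne) (by rw [← h1, e]; exact hw')
    have h4 : w ∈ W j ⊓ C j := ⟨hw', h3⟩
    rw [h.fr.dir j, mem_bot] at h4
    exact hw1 h4
  rw [hij] at h2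
  have h5 : z ∈ cj s (C i) := by rw [h2]; exact hj
  rw [mem_cj] at h5
  have h6 : s⁻¹ * z * s = z := by
    rw [mul_assoc, ← (mem_zc.1 hz).2.2 s hs, inv_mul_cancel_left]
  rwa [h6] at h5

end frames

variable {K : Cls.{u}}

/-- **`OmX K (q = 2)`** -/
theorem omX_of (hO : OffH K) (hL : LamH K) : OmX K fun _ q => q = 2 := by
  intro G _ _ hK S P B ZJ k L W Z C A q _ hq hM ho _ hN
  subst hq
  obtain ⟨h1, rfl, rfl, h2, h3, h4⟩ := hM
  have hM' : MulL S P (BT (S : Subgroup G) (o2 P)) (ZT (S : Subgroup G) (o2 P)) L W Z C A 2 :=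
    ⟨h1, rfl, rfl, h2, h3, h4⟩
  exact absurd (noOmX (frX_nat hM') hM'.fbx (le_sup_right.trans hN)
    (hO G hK S P (Fin k) L W Z C A (frX_nat hM')) (hL G hK S P (Fin k) L W Z C A (frX_nat hM'))) ho

/-- **`OmSX K`** -/
theorem omSX_of (hO : OffH K) (hL : LamH K) : OmSX K fun _ _ => True := by
  intro G _ _ hK S P B ZJ ι L W Z C A k m hk hm _ hM ho _ hN
  obtain ⟨cl, rfl, rfl, ⟨N⟩, -, -, -⟩ := hM
  obtain ⟨ι, hι, W, d, t, r, L, A, hout, hblk, -, -, h2, hF⟩ := Lev.Sym.exists_sym_lev FF.Glob.ffthmM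
    cl.ctx.char2 cl.pss.par cl.levQ le_rfl cl.hypN.toHyp.inf_eq_bot (exists_BO_caseL cl) hk hm N
  have hlt : Lt S P (o2 P) L W (fun i => zpowers (d i)) (fun i => FrSym.CC W i) A 2 :=
    ⟨cl.hypN, cl.wc, cl.levQ, le_rfl, hF, h2⟩
  have hF' := hF
  rw [cl.zc_eq] at hF'
  have hbau := hout.bau
  have e1 := (NO3S.OneLine.lev_eq FF.Glob.ffthmM cl.ctx.char2 cl.pss.par cl.levQ le_rfl
    cl.hypN.toHyp.inf_eq_bot (exists_BO_caseL cl)).2
  have e2 : Lev.SIn.ZJ (zl (S : Subgroup G) P) (nxt (S : Subgroup G) (o2 P)) = zc (nxt (S : Subgroup G) (o2 P)) :=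
    e1.symm
  rw [e2] at hbau
  have hM' : SymL S P (BT (S : Subgroup G) (o2 P)) (ZT (S : Subgroup G) (o2 P)) L W
      (fun i => zpowers (d i)) (fun i => FrSym.CC W i) A k m := ⟨cl, rfl, rfl, ⟨N⟩, hF', hι, h2⟩
  have hfr : FrX S P L W (fun i => zpowers (d i)) (fun i => FrSym.CC W i) A := by
    refine ⟨cl, hlt, fun z hz hz1 j hj => hz1 ?_⟩
    have hzT := zcS_le hlt hz
    have h3 : P ≤ centralizer ({z} : Set G) := by
      refine (hblk j).sup_T hbau (fun s hs => ?_) fun l hl => ?_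
      · exact mem_centralizer_singleton_iff.2 ((mem_zc.1 hz).2.2 s hs)
      · exact mem_centralizer_singleton_iff.2 (hlt.fr.LC j l hl z hzT hj)
    have h4 : z ∈ zc (S : Subgroup G) ⊓ centralizer (P : Set G) :=
      ⟨hz, mem_centralizer_iff.2 fun p hp => mem_centralizer_singleton_iff.1 (h3 hp)⟩
    rw [cl.hypN.toHyp.inf_eq_bot, mem_bot] at h4
    exact h4
  exact absurd (noOmX hfr hM'.fbx (le_sup_right.trans hN)
    (hO G hK S P ι L W _ _ A hfr) (hL G hK S P ι L W _ _ A hfr)) ho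

end Cfsg.Agent.Omega.Node.OmXOf
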