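import Cfsg.Agent.Omega.Node.QWGlue
import Cfsg.Agent.Omega.Node.OmXOf
import Cfsg.Agent.Omega.Node.OmTopQM
import Cfsg.Agent.Omega.ML.Final

/-!
# (Om) over the case (L): OffW from THEOREM QW

* `offW_of` : `QuietL.OffW S P M`, every `q`, over `FrL`;
* **`offH : MLK → OmXOf.OffH K`** (`q = 2`, natural and symmetric);
* `LowZ K` : `V_P ≤ O₂(C_G(z))`, `1 ≠ z ∈ Z` (`q ≥ 4`, natural); **`offHQ : MLK → LowZ K → OmTopQ.OffHQ K`**.
-/

set_option autoImplicit false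

namespace Cfsg.Agent.Omega.Node.QWDone

open Subgroup Cfsg Cfsg.Agent.ZN.ChoiceBase Cfsg.Agent.ZN.ChoiceSit
open Cfsg.Agent.ZN (jj zj bau zc zl o2)
open Cfsg.Agent.Omega.MinPar (IsLoc)
open Cfsg.Agent.Omega.NO3S.Level (nxt Lev lim CaseL)
open Cfsg.Agent.Omega.NO3S.WY (WQ ZJ BB)
open Cfsg.Agent.Omega.FrameNOFF (CZ)
open Cfsg.Agent.Omega.Frame (Cls Ctx)
open Cfsg.Agent.Omega.ML.Final (MLK)
open Cfsg.Agent.Omega.OM
open Cfsg.Agent.Omega.OM.Lev.Uni (FrL)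
open Cfsg.Agent.Omega.OM.SwapT (ZT BT)
open Cfsg.Agent.Omega.OM.SwapT.QuietL (OffW)
open Cfsg.Agent.Omega.Node.MulX
open Cfsg.Agent.Omega.Node.OmXOf (FrX LocX OffH)
open Cfsg.Agent.Omega.Node.OmTopQ (OffHQ)

universe u

section one

variable {G : Type u} [Group G] [Finite G] {S : Sylow 2 G} {P M : Subgroup G}

/-- a 2-local over `S` is a `K`-group -/
theorem isKGroup (hG : Ctx G) (h : IsLoc (S : Subgroup G) M) : IsKGroup M := by
  have := hG.simple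
  exact hG.kproper _ (h.ne_top S hG.not_isPGroup)

variable {ι : Type} [Finite ι] {L W Z C A : ι → Subgroup G} {q : ℕ}

/-- **OffW** -/
theorem offW_of (ml : MLK.{u, u}) (h : CaseL S P)
    (fr : FrL (BT (S : Subgroup G) (o2 P)) (o2 P) (zl (S : Subgroup G) P) (zl (S : Subgroup G) P)
      (ZT (S : Subgroup G) (o2 P)) L W Z C A q) (two : ∀ i : ι, ∃ j, j ≠ i) (hM : IsLoc (S : Subgroup G) M)
    (hP : P ≤ M) (hZ : centralizer (ZT (S : Subgroup G) (o2 P) : Set G) ≤ M) {z : G}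
    (hz : z ∈ zc (S : Subgroup G)) (hf : ∀ i, z ∉ C i)
    (lowz : zl (S : Subgroup G) P ≤ o2 (centralizer ({z} : Set G))) : OffW S P M := by
  intro T Y hw hB _ hY hn
  obtain ⟨A', hA, hb, -, hn'⟩ := QWGlue.offW hw hB hY hM hP hZ hn ml (isKGroup h.ctx hM) fr two hz hf lowz
  exact ⟨A', hA, hb, hn'⟩

end one

/-- **THEOREM QW, `q = 2`, natural and symmetric** -/
theorem offH (K : Cls.{u}) (ml : MLK.{u, u}) : OffH K := by
  intro G _ _ _ S P ι _ L W Z C A hx M hM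
  obtain ⟨c, -, hcf, hzc⟩ := hx.exists_c
  have hcz : c ∈ zc (S : Subgroup G) := (hzc c).2 (Or.inr rfl)
  have e : CZ (S : Subgroup G) = centralizer ({c} : Set G) := by
    refine le_antisymm (centralizer_le (Set.singleton_subset_iff.2 hcz)) fun g hg => ?_
    refine mem_centralizer_iff.2 fun z hz => ?_
    rcases (hzc z).1 hz with rfl | rfl
    · rw [one_mul, mul_one]
    · exact (mem_centralizer_singleton_iff.1 hg).symm
  have hfr := hx.lt.fr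
  rw [hx.cl.zc_eq] at hfr
  refine offW_of ml hx.cl hfr hx.lt.two hM.loc hM.P_le hM.D_le hcz hcf ?_
  rw [← e]
  exact hx.cl.low P hx.cl.pss.par

section nat

variable {G : Type u} [Group G] [Finite G] {S : Sylow 2 G} {P B ZJ : Subgroup G} {k : ℕ}
  {L W Z C A : Fin k → Subgroup G} {q : ℕ}

/-- the elements `≠ 1` of `Ω₁(Z(S))` have full support -/
theorem zS (h : MulL S P B ZJ L W Z C A q) : ∀ z ∈ zc (S : Subgroup G), z ≠ 1 → ∀ i, z ∉ C i := by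
  have hle : zc (S : Subgroup G) ≤ ZJ := by
    rw [h.eZ]
    exact h.cl.levQ.next.zc_le
  refine fun z hz hz1 j hj => hz1 (h.fr.C0 z (h.fr.ZJV (hle hz)) fun i => ?_)
  obtain ⟨s, hs, e⟩ := h.bg.trans i j
  have hsP : s ∈ P := h.cl.hypN.syl.1 hs
  obtain ⟨σ, hσ⟩ := h.bg.perm s hsP
  obtain ⟨h1, h2⟩ := hσ i
  have hij : σ i = j := by
    by_contra hne
    obtain ⟨w, hw, hw1⟩ := NO3S.CaseLW.QWoFr.Z_ne h.fr j
    have hw' : w ∈ W j := (h.fr.blk j).ZV hw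
    have h3 : w ∈ C j := h.fr.WjC j (σ i) (Ne.symm hne) (by rw [← h1, e]; exact hw')
    have h4 : w ∈ W j ⊓ C j := ⟨hw', h3⟩
    rw [h.fr.dir j, mem_bot] at h4
    exact hw1 h4
  rw [hij] at h2
  have h5 : z ∈ cj s (C i) := by rw [h2]; exact hj
  rw [mem_cj] at h5
  have h6 : s⁻¹ * z * s = z := by
    rw [mul_assoc, ← (mem_zc.1 hz).2.2 s hs, inv_mul_cancel_left]
  rwa [h6] at h5

end nat

/-- **Socket:** `V_P ≤ O₂(C_G(z))`, `1 ≠ z ∈ Ω₁(Z(S))`, case (L), natural, `q ≥ 4`. -/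
def LowZ (K : Cls.{u}) : Prop :=
  ∀ (G : Type u) [Group G] [Finite G], K G → ∀ (S : Sylow 2 G) (P B ZJ : Subgroup G) (k : ℕ)
    (L W Z C A : Fin k → Subgroup G) (q : ℕ), 2 ≤ k → 4 ≤ q → MulL S P B ZJ L W Z C A q →
      ∀ z ∈ zc (S : Subgroup G), z ≠ 1 → IsKGroup (centralizer ({z} : Set G)) →
        zl (S : Subgroup G) P ≤ o2 (centralizer ({z} : Set G))

/-- **THEOREM QW, `q ≥ 4`, natural** -/
theorem offHQ {K : Cls.{u}} (ml : MLK.{u, u}) (hl : LowZ K) : OffHQ K := by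
  intro G _ _ hKG S P B ZJ k L W Z C A q hk hq h M hM hP hZ _
  have hfr := h.fr
  rw [h.eqB, h.eZ] at hfr
  rw [h.eZ] at hZ
  have hne : zc (S : Subgroup G) ≠ ⊥ := MinSimple.Basic.zc_ne_bot S.isPGroup' (h.cl.ctx.sylow_ne_bot S)
  obtain ⟨⟨z, hz⟩, hz'⟩ := (Subgroup.ne_bot_iff_exists_ne_one).1 hne
  have hz1 : z ≠ 1 := fun e => hz' (Subtype.ext e)
  have hSz : (S : Subgroup G) ≤ centralizer ({z} : Set G) := fun s hs =>
    mem_centralizer_singleton_iff.2 ((mem_zc.1 hz).2.2 s hs)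
  have hKz := isKGroup h.cl.ctx (MinPar.isLoc_centralizer S (mem_zc.1 hz).2.1 hz1 hSz)
  exact offW_of ml h.cl hfr h.bg.two hM hP hZ hz (zS h z hz hz1)
    (hl G hKG S P B ZJ k L W Z C A q hk hq h z hz hz1 hKz)

end Cfsg.Agent.Omega.Node.QWDone
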