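import Cfsg.Agent.Omega.Node.CaseLPEnds
import Cfsg.Agent.Omega.Node.MulXThree
import Cfsg.Agent.Omega.OM.SWT.Core
import Cfsg.Agent.Omega.Node.LamHOf
import Cfsg.Agent.Omega.Node.QWDone
import Cfsg.Agent.Omega.NO3S.CaseLW.LowOne
import Cfsg.Agent.Omega.EDel.LX

/-!
# The case (L) of GammaFF: open inputs

`CaseOp K` = what is missing of `CaseIn K` (`Node/CaseLPEnds.lean`), given (ML) and THEOREM KL;
`CaseOp.caseIn : MLK → NoInp → CaseOp K → CaseIn K`.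

Plugged: (E), `q = 2`, from `NoW K` (helper890, 157, 388); (Om), `q = 2` and symmetric types (helper440, 417, 590, 182, 373,
866, 194, 498, 353, 276, 618, 792); (Om), `q ≥ 4`, from `LamHQ K` (helper538, 334, 397, 987); (E), symmetric types
(helper497, 164).
-/

set_option autoImplicit false

namespace Cfsg.Agent.Omega.Node.CaseLPOpen

open Cfsg Cfsg.Agent.Omega.Frame
open Cfsg.Agent.Omega.Node.MulX
open Cfsg.Agent.Omega.Node.CaseLPEnds (CaseIn ELX)

universe u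

/-- **The open inputs of the FF-ends over `CaseLP`.** -/
structure CaseOp (K : Cls.{u}) : Prop where
  /-- no weird `Y ≤ C_G(Z_l : l ≠ j)`, `q = 2` -/
  noW : MulXTwo.NoW K
  /-- THEOREM LAMBDA, `q ≥ 4` -/
  lamQ : OmTopQ.LamHQ K
  /-- (E), natural, `k = 2`, `q ≥ 4` -/
  eTwoQ : EX K fun k q => k = 2 ∧ 4 ≤ q
  /-- (E), natural, `k ≥ 3`, `q ≥ 4` -/
  eManyQ : EX K fun k q => 3 ≤ k ∧ 4 ≤ q
  /-- (E), `S₅`, light vectors not 2-central -/
  light : ELX K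

theorem lowZ (hML : ML.Final.MLK.{u, u}) (K : Cls.{u}) : QWDone.LowZ K :=
  fun _ _ _ _ _ _ _ _ _ _ _ _ _ _ _ _ _ h _ hz hz1 _ => NO3S.CaseLW.LowOne.low_one h hML hz hz1

/-- **THEOREM QW**, `q ≥ 4` -/
theorem offHQ (hML : ML.Final.MLK.{u, u}) (K : Cls.{u}) : OmTopQ.OffHQ K := QWDone.offHQ hML (lowZ hML K)

theorem CaseOp.caseIn {K : Cls.{u}} (hML : ML.Final.MLK.{u, u}) (hKL : KL.Quo.NoInp.{u, u}) (I : CaseOp K) :
    CaseIn K where
  omTwo := OmXOf.omX_of_off (QWDone.offH K hML)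
  eTwo := MulXTwo.eX_two hML hKL I.noW
  eMany := MulXThree.eX_three hML hKL I.noW
  omQ := OM.SWT.omX (offHQ hML K) I.lamQ
  eTwoQ := I.eTwoQ
  eManyQ := I.eManyQ
  omS := OmXOf.omSX_of_off (QWDone.offH K hML)
  light := I.light
  eS := EDel.eSX hML fun _ _ h => h

end Cfsg.Agent.Omega.Node.CaseLPOpen
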