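import Cfsg.Agent.Omega.Node.CaseLPQ
import Cfsg.Agent.Omega.CaseLQ.NoWDone

/-!
# (E), `q ≥ 4`, over the case (L) of GammaFF: `NoWQ` plugged

* `noWQ : NoWQ K` (helper952, 335, 593, 749, 681, 707, 194, 373, 509);
* `eTwoQ_of` : `EX K (k = 2 ∧ 4 ≤ q)` from (TI), (V!);
* `eManyQ_of` : `EX K (3 ≤ k ∧ 4 ≤ q)` from the weak (TI).
-/

set_option autoImplicit false

namespace Cfsg.Agent.Omega.Node.CaseLPX

open Cfsg Cfsg.Agent.Omega.Frame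
open Cfsg.Agent.Omega.Node.MulX

universe u

theorem noWQ (K : Cls.{u}) : CaseLPQ.NoWQ K := CaseLQ.NoWEnd.noWQ K

variable {K : Cls.{u}}

theorem eTwoQ_of (hML : ML.Final.MLK.{u, u}) (hE : ML.Ex.Two.Ext.{u, u})
    (hT : NO3S.EThree.Row7X.TiX K) (hO : NO3S.EThree.Row7X.OffX K) : EX K fun k q => k = 2 ∧ 4 ≤ q :=
  CaseLPQ.eTwoQ_of hML hE (noWQ K) hT hO

theorem eManyQ_of (hML : ML.Final.MLK.{u, u}) (hE : ML.Ex.Two.Ext.{u, u}) (hT : EK3.QG.TiWX K) :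
    EX K fun k q => 3 ≤ k ∧ 4 ≤ q :=
  CaseLPQ.eManyQ_of hML hE (noWQ K) hT

end Cfsg.Agent.Omega.Node.CaseLPX
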