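import Cfsg.Agent.Omega.Node.CaseLPX
import Cfsg.Agent.Omega.NO3S.EThree.Row7J

/-!
# (E), `k = 2`, `q ≥ 4`, over the case (L) of GammaFF: (V!) is gone (helper651's `Row7J.eX`)

* `eTwoQ_of` : `EX K (k = 2 ∧ 4 ≤ q)` from (TI) only.
-/

set_option autoImplicit false

namespace Cfsg.Agent.Omega.Node.CaseLPY

open Cfsg Cfsg.Agent.Omega.Frame
open Cfsg.Agent.Omega.Node.MulX

universe u

variable {K : Cls.{u}}

/-- `NoWX` is a theorem. -/
theorem noWX (K : Cls.{u}) : NO3S.EThree.Row7X.NoWX K :=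
  fun G _ _ hK S P B ZJ L W Z C A q hq hM _ _ =>
    CaseLPX.noWQ K G hK S P B ZJ 2 L W Z C A q le_rfl hq hM 1

theorem eTwoQ_of (hML : ML.Final.MLK.{u, u}) (hE : ML.Ex.Two.Ext.{u, u})
    (hT : NO3S.EThree.Row7X.TiX K) : EX K fun k q => k = 2 ∧ 4 ≤ q :=
  NO3S.EThree.Row7J.eX hML hE hT (noWX K)

end Cfsg.Agent.Omega.Node.CaseLPY
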