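import Cfsg.Agent.Omega.Node.ExtPlus
import Cfsg.Agent.Omega.All.NOne.Hty

/-!
# `EndPlusQ` from (BT) and `CoreMinus` (type (γ) of the leaf N1; helper983)
-/

set_option autoImplicit false

namespace Cfsg.Agent.Omega.NO1.EndP

open Cfsg Cfsg.Agent.Omega.Frame

universe u

/-- **`EndPlusQ`** from (BT) (the five types) and `CoreMinus` (coordinates of type (β)). -/
theorem endPlusQ_of_bt {K : Cls.{u}} (hBT : BT.{u}) (cM : All.NOne.CoreMinus.{u}) : EndPlusQ K :=
  endPlusQ_of_hty (All.NOne.hty hBT cM)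

end Cfsg.Agent.Omega.NO1.EndP
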