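import Cfsg.Agent.Omega.Node.EndPlusQEnds
import Cfsg.Agent.Omega.NO1.AllMinus

/-!
# `EndPlusQ` from (BT) only (type (γ) of the leaf N1; helper983, 869, 647, 940, 914, 321, 749)
-/

set_option autoImplicit false

namespace Cfsg.Agent.Omega.NO1.EndP

open Cfsg Cfsg.Agent.Omega.Frame

universe u

/-- **`EndPlusQ`** from (BT). -/
theorem endPlusQ {K : Cls.{u}} (hBT : BT.{u}) : EndPlusQ K :=
  endPlusQ_of_bt hBT AllMinus.coreMinus

end Cfsg.Agent.Omega.NO1.EndP
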