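import Cfsg.Agent.Omega.Node.EndPlusQ
import Cfsg.Agent.Omega.All.NOne.OfGamma

/-!
# `ExtPlus`, and `EndPlusQ` from `Hty` (type (γ) of the leaf N1)
-/

set_option autoImplicit false

namespace Cfsg.Agent.Omega.NO1.EndP

open Cfsg Cfsg.Agent.Omega.Frame Cfsg.Agent.ZN Cfsg.Agent.Omega.MinPar

universe u

/-- **`ExtPlus`.** -/
theorem extPlus : ExtPlus.{u} :=
  fun _ _ _ _ _ _ _ _ _ _ _ _ _ _ _ _ _ h hG hZ => ⟨_, h.ext hG hZ⟩

/-- **`EndPlusQ` from `Hty`.** -/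
theorem endPlusQ_of_hty {K : Cls.{u}} (hty : Hty.{u}) : EndPlusQ K :=
  endPlusQ_of extPlus hty

end Cfsg.Agent.Omega.NO1.EndP
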