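import Cfsg.Agent.Omega.Node.SQEnd
import Cfsg.Agent.Omega.Lie.End.GaOf
import Cfsg.Agent.Omega.Lie.End.SitRS
import Cfsg.Agent.Omega.Lie.End.Res0Of
import Cfsg.Agent.Omega.Lie.End.KMov

/-!
# The part `LieBNP K` of the leaf II.a, `q ≥ 4` (top level: helper988)

Situation: `IIa4.Sit`, `LayAll`, `SemiOut`, `CenSE`, `TIR` (`Node/LeafA4.lean`).  `H = N(R i)/O₂(N(R i))`, moved components
`K a` of `H`, `E` their product, `U = O₂(N(R)) (S ⊓ E)`, `B`, `P x` (`x = (a, k)`, `k` a node of `K a`) in `G`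
(`Lie/End/Real.lean`).

* some `V ^ p`, `p ∈ P x`, does not commute with `V` (type `(γ)`): `E = K a`, `K a` has one node (910: `RS.kd_of_gamT`),
  `SQEnd.known_or` (326; `G₂(q)`, `³D₄(q)`);
* otherwise the residues `(0, x)` of the moved nodes are polygons (`Res0P`), and THEOREM PAR gives a BN-pair of `X E`
  (`Lie/End/Top.lean`, `Sit.gZero_of_real`).

Parts: `KSideX` (650: `kSideX`), `Res0P` (43: `Lie/End/Res0Of.lean`).
-/

set_option autoImplicit false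
set_option linter.unusedSectionVars false

namespace Cfsg.Agent.Omega.IIa4

open Subgroup Cfsg Cfsg.Agent.ZN Cfsg.Agent.Omega.NatPair Cfsg.Agent.Omega.BTwo
open Cfsg.Agent.Omega.Frame Cfsg.Agent.Omega.FrameFF Cfsg.Agent.Omega.Lie Cfsg.Agent.Omega.Lie.Quot
open Cfsg.Agent.Omega.Lie.End

universe u

/-- **The residues `(0, x)`** of the moved nodes, if no node is of type `(γ)`.  Text: #14331 (helper493); Lean:
`Omega/Lie/Nodes/*` (493, 843, 759, 812, 591), `HOne/EndRes0.lean` (725), `Lie/End/RSSep.lean`, `Res0Of.lean` (43). -/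
def Res0P : Prop :=
  ∀ (G : Type u) [Group G] [Finite G] (ι : Type u) (V : Subgroup G) (R : ι → Subgroup G) (i j : ι) (F : Type)
    [Field F] [Finite F] [CharP F 2] (v : F → F → G) (w1 w2 t : F → G), BTC V R → Coord V R i j v w1 w2 →
    ∀ (τ : TorD V R i j v t), 4 ≤ Nat.card F → centralizer (WW V (R i) : Set G) ≤ R i → QQ (R i) = WW V (R i) →
    (∀ x ∈ WW V (R i), (∀ u ∈ UU V R j, u * x * u⁻¹ * x⁻¹ ∈ R i) → x ∈ V) →
    (∀ x ∈ normalizer (R i : Set G), ∃ e ∈ Moved.EE V R i j, e * x ∈ normalizer (V : Set G)) →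
    ∀ (S₁ : Sylow 2 G), (S₁ : Subgroup G) ≤ normalizer (V : Set G) →
      (S₁ : Subgroup G) ≤ normalizer (R i : Set G) →
    ∀ (n : ℕ) (K : Fin n → Subgroup (HQ (R i))) (J : Fin n → Type) (P : ∀ a, J a → Subgroup (K a))
      (m : ∀ a, J a → J a → ℕ), (∀ a, Finite (J a)) → RS V R i j (TT τ) (SS R i S₁) K J P m →
      Zero.Dat V R i (BG K (TT τ) (SS R i S₁)) (UG K (SS R i S₁)) →
      (∀ x, ¬ GamT V (PG K (TT τ) (SS R i S₁) P x)) →
      ∀ (a : Fin n) (k : J a), End.Moved ((SS R i S₁).subgroupOf (K a)) (OfLay.Tact (TT τ) (K a)) (P a k) →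
        ∃ m0, 3 ≤ m0 ∧ Res0 V R (BG K (TT τ) (SS R i S₁)) (UG K (SS R i S₁)) (PG K (TT τ) (SS R i S₁) P) ⟨a, k⟩ m0

/-- **`LieBNP K`** from the K-side and the residues. -/
theorem lieBNP_of {K : Cls.{u}} (hks : KSideX.{u}) (hres : Res0P.{u}) : LieBNP K := by
  intro G _ _ _ S P g F _ _ _ M h hl hsemi hcen _
  obtain ⟨i, j, hij⟩ := h.exists_pair
  obtain ⟨v, w1, w2, c⟩ := h.exists_coord hij
  obtain ⟨t, τ⟩ := h.exists_torD c
  obtain ⟨S₁, hSV, hSR⟩ := h.exists_sylow i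
  obtain ⟨n, Kf, J, Pf, m, hJ, hnn, D, hX⟩ := SitRS.sit_rsx h hks hl hsemi c τ S₁ hSV hSR
  have hNV : ∀ (x : G) (hx : x ∈ normalizer (pt M i : Set G)),
      Quot.pr (pt M i) ⟨x, hx⟩ ∈ normalizer (AA (zl (S : Subgroup G) P) (pt M) i j : Set (HQ (pt M i))) →
        x ∈ normalizer (zl (S : Subgroup G) P : Set G) := fun x hx hN => NA.mem_NV h hsemi hcen hij hx hN
  have hCA := h.cen_A hcen hij
  have hd := D.datG h.btc c τ hij rfl hNV
  by_cases hg : ∃ x, GamT (zl (S : Subgroup G) P) (PG Kf (TT τ) (SS (pt M) i S₁) Pf x)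
  · obtain ⟨x, hx⟩ := hg
    obtain ⟨k, _, _, _, K', φ, kd⟩ := D.kd_of_gamT h.btc c τ hij rfl h.four (hsemi i).2 hNV hCA
      (fun a => (hX a).2) hx
    exact Node.SQEnd.known_or h hsemi ⟨i, j, k, inferInstance, K', φ, kd⟩
  · left
    push Not at hg
    refine h.gZero_of_real hcen hij Moved.NR_le_NEE (Moved.U_le_EE h.bt) (Moved.EE_le_cen h.bt)
      (D.realSys h.btc c τ hij rfl hNV) hg ?_
    rintro ⟨a, k⟩ hk
    exact hres G _ _ _ i j F v w1 w2 t h.btc c τ h.four (hsemi i).1.le (hsemi i).2 hCA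
      (fun _ hx => h.frattini hcen hij Moved.NR_le_NEE (Moved.U_le_EE h.bt) (Moved.EE_le_cen h.bt) hx)
      S₁ hSV hSR n Kf J Pf m hJ D hd hg a k ((D.moved_iff h.bt c hij hd hCA).2 hk)

/-- **The residues** (helper43, `Lie/End/Res0Of.lean`). -/
theorem res0P : Res0P.{u} := by
  intro G _ _ ι V R i j F _ _ _ v w1 w2 t b c τ h4 hC hQ hCA hfr S₁ hV hR n K J P m hJ D hd hg a k hm
  exact D.res0 b c τ rfl (SitRS.exists_ne_of_four h4) hC hQ τ.ne hd hCA hfr hg hm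

/-- **`LieBNP K`** -/
theorem lieBNP {K : Cls.{u}} : LieBNP K := lieBNP_of kSideX res0P

end Cfsg.Agent.Omega.IIa4
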