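import Cfsg.Agent.Omega.Lie.SEAll
import Cfsg.Agent.Omega.Lie.Fix
import Cfsg.Agent.Omega.Lie.End.KSideX
import Cfsg.Agent.Omega.BTwo.CzAll
import Cfsg.Agent.Omega.Node.LeafA4

/-!
# `SEP K` (`Node/LeafA4.lean`) from the K-side with `Opp`

* `fixM` : `SE.FixM` from THEOREM FIX (`Lie/Fix.lean`, helper932);
* **`sep_of : KSideX → SEP K`** (`Lie/End/KSideX.lean`).  The exception `KExc` is excluded by `SE.not_exc`.
-/

set_option autoImplicit false
set_option linter.unusedSectionVars false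

namespace Cfsg.Agent.Omega.IIa4

open Subgroup Cfsg Cfsg.Agent.ZN Cfsg.Agent.Omega.NatPair Cfsg.Agent.Omega.BTwo
open Cfsg.Agent.Omega.Frame Cfsg.Agent.Omega.FrameFF Cfsg.Agent.Omega.Lie Cfsg.Agent.Omega.Lie.Quot
open Cfsg.Agent.Omega.Lie.End Cfsg.Agent.Omega.Lie.SE

universe u v w

section fix

variable {G : Type u} [Group G] [Finite G] {ι : Type w} {V : Subgroup G} {R : ι → Subgroup G} {i j : ι}

/-- `A ≠ 1` -/
theorem exists_AA (b : BTC V R) (hij : i ≠ j) (S₁ : Sylow 2 G) (hV : (S₁ : Subgroup G) ≤ normalizer (V : Set G))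
    (hR : (S₁ : Subgroup G) ≤ normalizer (R i : Set G)) : ∃ a ∈ AA V R i j, a ≠ 1 := by
  have h1 := Cfsg.Agent.Omega.BTwo.Cz.not_UU_le b S₁ hij hV hR
  rw [SetLike.not_le_iff_exists] at h1
  obtain ⟨u, hu, huD⟩ := h1
  refine ⟨_, (mem_AA b.toBT).2 ⟨u, hu, rfl⟩, fun h2 => huD ?_⟩
  exact (U_inf_Q b.toBT hij hu).1 ((pr_eq_one _).1 h2)

variable {M B : Type u} [AddCommGroup M] [AddCommGroup B] [DistribMulAction (NR R i) M]
  [DistribMulAction (NR R i) B] [DistribMulAction (HQ (R i)) M] {p : G → M} {r : G → B} {f : M →+ M →+ B}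
  {F : Type v} [Field F] [Finite F] [CharP F 2] {vv : F → F → G} {w1 w2 t : F → G}

/-- **THEOREM FIX** -/
theorem fixM (m : ModQ V R i M B p r f) (b : BTC V R) (c : Coord V R i j vv w1 w2) (τ : TorD V R i j vv t)
    (hq : 4 ≤ Nat.card F) (hC : centralizer (WW V (R i) : Set G) ≤ R i) (hA : ∃ a ∈ AA V R i j, a ≠ 1) :
    FixM m j (TT τ) := fun _ _ hT hle hodd hstab hfix _ hγ =>
  (Fix.mem_NE_iff_le b.toBT m).1 (Fix.gam b c τ hq hC hA m hT hfix hle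
    (fun x hx => (Fix.mem_NE_iff_le b.toBT m).2 (hstab x hx)) hodd hγ)

end fix

/-- **`CenSE`** from the K-side -/
theorem Sit.cenSE_of {G : Type u} [Group G] [Finite G] {S : Sylow 2 G} {P : Subgroup G} {g : G} {F : Type} [Field F]
    [Finite F] [CharP F 2] {M : NatMod F (zl (S : Subgroup G) P)} (h : Sit S P g M) (hks : KSideX.{u})
    (hl : LayAll (zl (S : Subgroup G) P) (pt M) F) (hsemi : SemiOut (zl (S : Subgroup G) P) (pt M)) :
    CenSE (zl (S : Subgroup G) P) (pt M) := by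
  intro i S₁ hV hR x hx hfx
  obtain ⟨j, hij⟩ := h.exists_ne_pt i
  obtain ⟨v, w1, w2, c⟩ := h.exists_coord hij
  obtain ⟨t, τ⟩ := h.exists_torD c
  obtain ⟨X, B, _, _, _, _, _, p, r, f, m⟩ := exists_modQ h.bt i
  have l := hl i j hij v w1 w2 t c τ S₁ hV hR
  have hf := fixM m h.btc c τ h.four (hsemi i).1.le (exists_AA h.btc hij S₁ hV hR)
  refine mem_of_fix m h.bt c τ S₁ hV hR hf h.btc h.four (hsemi i).1.le l (fun K hK => ?_) hx hfx
  obtain ⟨P₀, hP₀⟩ := OfLay.exists_sylow (l.hyp K hK).toPre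
  have h1 := hks K hK.1.2.1.commutator_eq_top hK.1.2.2 (OfLay.odd_center (pCore_HQ (pt M i)) hK.1) (l.lie K hK) P₀
    (OfLay.Tact (TT τ) K) (hP₀ ▸ OfLay.tact_of_lay h.bt τ hij h.four l hK)
  rw [hP₀] at h1
  rcases h1 with ⟨J, -, Q, mm, h2, h3, -⟩ | h2
  · exact ⟨J, Q, mm, h2, h3⟩
  · exact absurd h2 (not_exc m h.bt c τ S₁ hV hR hf h.four l hK)

/-- **`SEP K`** -/
theorem sep_of {K : Cls.{u}} (hks : KSideX.{u}) : SEP K :=
  fun _ _ _ _ _ _ _ _ _ _ _ _ h hl hsemi => h.cenSE_of hks hl hsemi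

end Cfsg.Agent.Omega.IIa4
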