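import Cfsg.Agent.Omega.Node.LeafA4
import Cfsg.Agent.Omega.IIa4.Tirp
import Cfsg.Agent.Omega.Lie.LayerSit

/-!
# The leaf II.a, `q ≥ 4`: current state (assembler helper978)

`leafA4_main` : `LeafA4 K` from S1143, S1144, the K-facts `LayerMain.KRows`, `SEP K`, `LieBNP K`
(`Node/LeafA4.lean`); the parts `LayP` (helper287), `TIRP` (helper450) and `AllP` are plugged in.
-/

set_option autoImplicit false

namespace Cfsg.Agent.Omega.IIa4

open Cfsg.Agent.Omega.Frame Cfsg.Agent.Omega.FrameFF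

universe u

theorem leafA4_main {K : Cls.{u}} (h43 : Exits.St1143.{u}) (h44 : Exits.St1144.{u})
    (hK : Lie.LayerMain.KRows.{u}) (hse : SEP K) (hbn : LieBNP K) : LeafA4 K :=
  leafA4_of h43 h44 (Lie.LayerSit.layP hK) hse tirp hbn

end Cfsg.Agent.Omega.IIa4
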