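import Cfsg.Agent.Omega.Node.LeafB
import Cfsg.Agent.Omega.Mix.OneCo

/-!
# `LeafB.RankFour` is proved (`MixedN.rank_four`, Omega/Mix/OneCo)

`leafB` : leaf B of case FF from the theorem on weakly closed TI-subgroups and the landed rank results.
-/

set_option autoImplicit false

namespace Cfsg.Agent.Omega.Node.LeafB

open Cfsg Cfsg.Agent.Omega.Frame Cfsg.Agent.Omega.Mix

universe u

theorem rankFour : RankFour.{u} := by
  intro G _ _ F₁ F₂ _ _ _ _ _ _ V₁ V₂ N₁ N₂ M₁ M₂ R m hF h₁
  exact m.rank_four h₁ hF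

/-- **LeafB**, every input but the TI theorem and the two listed rank theorems is proved. -/
theorem leafB {K : Cls.{u}} (hTI : TIMain.{u}) (h59 : Exits.St1759.{u}) (h61 : Exits.St1761.{u}) : FrameFF.LeafB K :=
  leafB_of hTI h59 h61 rankFour

end Cfsg.Agent.Omega.Node.LeafB
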