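import Cfsg.Agent.Omega.Node.MulC
import Cfsg.Agent.Omega.OM.Lev.UniPlus
import Cfsg.Agent.Omega.OM.Lev.BlkGen

/-!
# The leaves `MultiTwoH`, `MultiQH` over `CaseLP`: the family of FF-blocks with module in `V_P` (helper85)

In the case (L) UNI+ for **all** FF-blocks over `B` is not available (blocks `L'` with `O₂(P) ≰ O₂(L')`). The dichotomy
works for the smaller family `FBlV B V` : FF-blocks over `B` with module in `V = V_P`, where UNI+ needs nothing.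

* `FBlV`, `KV B ZJ V = ⟨C_G(Z_J), blocks of the family⟩`; `famV`, `casesV` : the dichotomy over `MulG`;
* `CaseV S P B ZJ L W Z C A q` : the case (L) with the frames `MulG` and `FrL` (`X = V_P`); `exists_caseV`;
* `CaseV.uniV` : UNI+ for the family, any `q`; `CaseV.uniTwoV`, `KV_eq` : `KV = ⟨C_G(Z_J), L_1, .., L_k⟩` (`q = 2`);
* `exists_fblkV` : a minimal parabolic `R` over `T`, `B ≤ T ≤ S`, with `O₂(P) ≤ O₂(R)`, `nxt S (O₂(P)) ≰ O₂(R)`, moving
  `Ω₁(Z(T))`, is generated by `T` and a block of the family in `R`;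
* sockets `OmV K c`, `EV K c`; `multiTwoV_of`, `multiQV_of`.
-/

set_option autoImplicit false
set_option linter.unusedSectionVars false

namespace Cfsg.Agent.Omega.Node.MulV

open Subgroup Cfsg Cfsg.Agent.ZN.ChoiceBase Cfsg.Agent.ZN.ChoiceSit
open Cfsg.Agent.ZN (jj zj bau zc zl o2)
open Cfsg.Agent.MinSimple.MinParabolic (IsMinPar)
open Cfsg.Agent.Omega.FFThm (NatK NatKM SymKM OffM)
open Cfsg.Agent.Omega.FrameFF (cv)
open Cfsg.Agent.Omega.NO3S (HypL HypF HypN HypJ Hyp PSS FrP CaseLP MultiTwoH MultiQH)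
open Cfsg.Agent.Omega.NO3S.Level (lev nxt Lev BO CaseL)
open Cfsg.Agent.Omega.Frame (Cls)
open Cfsg.Agent.Omega.NO3S.EThree.Frame (Bg Fg)
open Cfsg.Agent.Omega.OM
open Cfsg.Agent.Omega.OM.Uni (FB)
open Cfsg.Agent.Omega.OM.LevD (LB)
open Cfsg.Agent.Omega.OM.GLev
open Cfsg.Agent.Omega.OM.Lev.Uni (FrL)
open Cfsg.Agent.Omega.Node.MultiOf Cfsg.Agent.Omega.Node.MulG

universe u

section defs

variable {G : Type u} [Group G]

/-- FF-blocks over `B` with module in `V`. -/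
def FBlV (B V L' V' : Subgroup G) : Prop := FBl B L' V' ∧ V' ≤ V

/-- `⟨C_G(Z_J), the FF-blocks over B with module in V⟩` -/
def KV (B ZJ V : Subgroup G) : Subgroup G := LevD.K0 ZJ (FBlV B V)

/-- UNI+ for the family, `q = 2`. -/
def UniTwoV (B ZJ V : Subgroup G) {k : ℕ} (L W : Fin k → Subgroup G) : Prop :=
  ∀ L' V' : Subgroup G, FBlV B V L' V' →
    ∃ i, V' = W i ∧ L' ≤ L i ⊔ centralizer ((W i ⊔ ZJ : Subgroup G) : Set G)

theorem cent_le {B ZJ V : Subgroup G} : centralizer (ZJ : Set G) ≤ KV B ZJ V := LevD.cent_le_K0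

/-- the restricted family generates less -/
theorem KV_le {B ZJ V : Subgroup G} : KV B ZJ V ≤ KZ B ZJ := by
  refine sup_le LevD.cent_le_K0 (iSup_le ?_)
  rintro ⟨⟨L', V'⟩, hb⟩
  exact LevD.blk_le_K0 (V := V') hb.1

variable [Finite G]

section mul

variable {S : Sylow 2 G} {P K B ZJ : Subgroup G} {k : ℕ} {L W Z C : Fin k → Subgroup G} {q : ℕ}
  (h : MulG S P K B ZJ L W Z C q)
include h

theorem fblV (i : Fin k) : FBlV B (zl (S : Subgroup G) P) (L i) (W i) := ⟨h.fbl i, h.bg.fr.WV i⟩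

/-- the restricted family -/
theorem famV : LevD.Fam B ZJ (FBlV B (zl (S : Subgroup G) P)) where
  blk := fun _ _ hb => hb.1.blk
  conj := fun n hn _ _ hb => ⟨hb.1.conj hn, (cj_mono n hb.2).trans (h.bg.nrm n hn).1.le⟩
  zj_le := by
    refine (h.bg.fr.ZJV.trans (Fg_V_le h.bg.fr)).trans (iSup_le fun i => ?_)
    exact le_iSup (fun i : {x : Subgroup G × Subgroup G // FBlV B (zl (S : Subgroup G) P) x.1 x.2} => i.1.2)
      ⟨(L i, W i), fblV h i⟩

theorem L_le (i : Fin k) : L i ≤ KV B ZJ (zl (S : Subgroup G) P) := LevD.blk_le_K0 (fblV h i)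

/-- **the dichotomy** for the restricted family -/
theorem casesV : NLoc (KV B ZJ (zl (S : Subgroup G) P)) ∨ (o2 (KV B ZJ (zl (S : Subgroup G) P)) ≠ ⊥ ∧
    o2 (KV B ZJ (zl (S : Subgroup G) P)) ≤ B ∧ KV B ZJ (zl (S : Subgroup G) P) ⊔ normalizer (B : Set G) ≤
      normalizer (o2 (KV B ZJ (zl (S : Subgroup G) P)) : Set G)) := by
  by_cases h0 : NLoc (KV B ZJ (zl (S : Subgroup G) P))
  · exact Or.inl h0
  · right
    unfold NLoc at h0
    push Not at h0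
    obtain ⟨R, hR, hRn, hR1⟩ := h0
    exact LevD.Fam.dich h.lb (famV h) hR hR1 hRn

/-- **`KV = ⟨C_G(Z_J), L_1, .., L_k⟩`** -/
theorem KV_eq (hu : UniTwoV B ZJ (zl (S : Subgroup G) P) L W) :
    KV B ZJ (zl (S : Subgroup G) P) = centralizer (ZJ : Set G) ⊔ ⨆ i, L i := by
  apply le_antisymm
  · refine sup_le le_sup_left (iSup_le ?_)
    rintro ⟨⟨L', V'⟩, hb⟩
    obtain ⟨i, -, hle⟩ := hu L' V' hb
    refine hle.trans (sup_le (le_sup_of_le_right (le_iSup L i)) (le_sup_of_le_left (centralizer_le ?_)))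
    exact_mod_cast (le_sup_right : ZJ ≤ W i ⊔ ZJ)
  · exact sup_le cent_le (iSup_le fun i => L_le h i)

end mul

/-! ### The module of a block -/

/-- The module of an FF-block over `B` lies in every `L'`-invariant group over `Ω₁(Z(B))`. -/
theorem fb_V_le {B L' V' Z' X : Subgroup G} {q : ℕ} (h : FB B L' V' Z' q) (hX : zc B ≤ X)
    (hn : L' ≤ normalizer (X : Set G)) : V' ≤ X := by
  have h1 : ⁅V', B⁆ ≤ X := by
    rw [commutator_le]
    intro v hv b hb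
    have h2 : b * v * b⁻¹ * v⁻¹ ∈ Z' := h.com b hb v hv
    have h3 : b * v * b⁻¹ * v⁻¹ ∈ zc B := mem_zc.2 ⟨h.VB (h.ZV h2), SQ1.Bau.elem_sq h.el _ (h.ZV h2),
      fun y hy => h.cZ y hy _ h2⟩
    have h4 := inv_mem (hX h3)
    have e : (b * v * b⁻¹ * v⁻¹)⁻¹ = v * b * v⁻¹ * b⁻¹ := by group
    rw [e] at h4
    exact h4
  obtain ⟨l, hl, hle⟩ := h.sup
  refine hle.trans (sup_le h1 ?_)
  have h5 := cj_mono l h1
  rwa [cj_eq_of_mem_normalizer (hn hl)] at h5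

end defs

/-! ### The frame -/

/-- **The case (L), several natural blocks**: the frames `MulG` and `FrL`. -/
structure CaseV {G : Type u} [Group G] [Finite G] (S : Sylow 2 G) (P B ZJ : Subgroup G) {k : ℕ}
    (L W Z C A : Fin k → Subgroup G) (q : ℕ) : Prop where
  cl : CaseL S P
  eqZ : ZJ = zc (nxt (S : Subgroup G) (o2 P))
  eqB : B = (S : Subgroup G) ⊓ centralizer (ZJ : Set G)
  mul : MulG S P (nxt (S : Subgroup G) (o2 P)) B ZJ L W Z C q
  fr : FrL B (o2 P) (zl (S : Subgroup G) P) (zl (S : Subgroup G) P) ZJ L W Z C A q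

theorem exists_caseV {G : Type u} [Group G] [Finite G] {S : Sylow 2 G} {P : Subgroup G} (h : CaseL S P) {F : Type}
    [Field F] [Finite F] [CharP F 2] {k : ℕ} (hk : 2 ≤ k)
    (N : NatKM F (S : Subgroup G) P (zl (S : Subgroup G) P) (cv (S : Subgroup G) P) k) :
    ∃ (B ZJ : Subgroup G) (L W Z C A : Fin k → Subgroup G), CaseV S P B ZJ L W Z C A (Nat.card F) := by
  obtain ⟨M, L, Z, A, -, hfr, hB, -⟩ := Lev.Main.bg_K h.hypN h.levQ le_rfl (exists_BO_caseL h) hk N rfl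
  rw [h.zc_eq] at hfr
  exact ⟨_, _, L, _, Z, _, A, h, rfl, rfl,
    ⟨h.hypF, StgG.lev _ (top_caseL h), hB, F, inferInstance, inferInstance, inferInstance, rfl, ⟨N⟩⟩, hfr⟩

namespace CaseV

variable {G : Type u} [Group G] [Finite G] {S : Sylow 2 G} {P B ZJ : Subgroup G} {k : ℕ}
  {L W Z C A : Fin k → Subgroup G} {q : ℕ} (h : CaseV S P B ZJ L W Z C A q)
include h

theorem lb : LB S (nxt (S : Subgroup G) (o2 P)) B ZJ := h.mul.lb

theorem Q_le_S : o2 P ≤ (S : Subgroup G) := h.cl.pss.par.isLoc.o2_le S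

theorem Q_le_nxt : o2 P ≤ nxt (S : Subgroup G) (o2 P) := NO3S.Level.le_nxt h.Q_le_S

/-- **UNI+ for the family**, any `q`. -/
theorem uniV {L' V' : Subgroup G} (h' : FBlV B (zl (S : Subgroup G) P) L' V') :
    ∃ Z', FB B L' V' Z' q ∧ ∃ i, Z' = Z i ∧ UniPlus.NB B L' V' (Z i) q ∧ V' ≤ W i ⊔ ZJ ∧
      (∀ z ∈ ZJ, z ∈ C i ↔ ∀ l ∈ L', l * z = z * l) ∧
        (q = 2 → V' = W i ∧ L' ≤ L i ⊔ centralizer ((W i ⊔ ZJ : Subgroup G) : Set G)) := by
  obtain ⟨⟨⟨Z', q', hF⟩, -⟩, hX⟩ := h'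
  obtain ⟨rfl, i, hZ, h1⟩ := Lev.UniPlus.uniPlusX h.fr h.lb.Bp h.mul.bg.wc
    (fun g hg j => by
      obtain ⟨k, hk, -⟩ := (h.mul.bg.nrm g hg).2 j
      exact ⟨k, hk⟩) hF hX
  exact ⟨Z', hF, i, hZ, h1⟩

/-- `Ω₁(Z(B)) ≤ V_P` -/
theorem zc_B_le : zc B ≤ zl (S : Subgroup G) P := by
  intro z hz
  obtain ⟨h1, h2, h3⟩ := mem_zc.1 hz
  rw [← h.cl.zc_eq]
  exact h.cl.levQ.mem_of_comm (h.lb.BS h1) h2 fun y hy => h3 y (h.lb.KB (h.Q_le_nxt hy))

theorem zc_B : zc B = ZJ := by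
  ext z
  constructor
  · intro hz
    obtain ⟨h1, h2, h3⟩ := mem_zc.1 hz
    rw [h.eqZ]
    exact h.cl.levQ.next.mem_of_comm (h.lb.BS h1) h2 fun y hy => h3 y (h.lb.KB hy)
  · intro hz
    exact mem_zc.2 ⟨h.lb.ZB hz, h.lb.sq z hz, fun y hy => (mem_centralizer_iff.1 (h.lb.Bc hy) z hz).symm⟩

/-- **A minimal parabolic over `T ≤ S` which normalises `O₂(P)` is generated by `T` and a block of the family.** -/
theorem exists_fblkV {T R : Subgroup G} (hT : Syl T R) (hTS : T ≤ (S : Subgroup G)) (hB : B ≤ T) (hP : IsMinPar T R)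
    (hc : R ⊓ centralizer (o2 R : Set G) ≤ o2 R) (hK : o2 P ≤ o2 R) (hn : ¬ nxt (S : Subgroup G) (o2 P) ≤ o2 R)
    (hZ : ¬ R ≤ centralizer (zc T : Set G)) :
    ∃ L' V' : Subgroup G, FBlV B (zl (S : Subgroup G) P) L' V' ∧ L' ≤ R ∧ R ≤ L' ⊔ T := by
  have hb := h.lb
  have hle := hb.KB.trans hB
  have hT2 := hT.2.1
  have hQT : o2 P ≤ T := h.Q_le_nxt.trans hle
  have hjj : jj T = jj (S : Subgroup G) := jj_eq_of_jj_le (h.cl.levQ.jjle.trans hQT) hTS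
  have hL : Lev T (o2 P) :=
    { le := hQT
      jjle := by rw [hjj]; exact h.cl.levQ.jjle
      norm := fun T' h1 h2 => h.cl.levQ.norm T' h1 (h2.trans hTS) }
  have hBO : BO T (o2 P) = BO (S : Subgroup G) (o2 P) := by
    ext A
    constructor
    · exact fun hA => ⟨hA.1.trans hTS, hA.2⟩
    · exact fun hA => ⟨(NO3S.Level.BO.le_nxt hA).trans hle, hA.2⟩
  have hC : T ⊓ centralizer (zc (o2 P) : Set G) = (S : Subgroup G) ⊓ centralizer (zc (o2 P) : Set G) := by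
    refine le_antisymm (inf_le_inf_right _ hTS) (le_inf ?_ inf_le_right)
    exact (le_sup_left : _ ≤ nxt (S : Subgroup G) (o2 P)).trans hle
  have hnx : nxt T (o2 P) = nxt (S : Subgroup G) (o2 P) := by
    unfold nxt
    rw [hBO, hC]
  have hV : zl T R ≤ zc (o2 P) :=
    (MinSimple.VModule.zl_le_zc hT.1 hT2 (syl_not_dvd hT) hc).trans (hL.zc_o2_le hK (o2_le_syl hT))
  have hQC := BlkGen.inf_cent hT hP hZ
  obtain ⟨A, hA, hAQ⟩ : ∃ A ∈ BO T (o2 P), ¬ A ≤ o2 R := by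
    by_contra hcon
    push Not at hcon
    apply hn
    rw [← hnx]
    exact sup_le ((inf_le_inf_left _ (centralizer_le hV)).trans hQC) (sSup_le hcon)
  have hoff : OffM (zl T R) A := hA.2.offM hV fun h1 => hAQ ((le_inf hA.1 h1).trans hQC)
  obtain ⟨hno, hcon⟩ := FF.Glob.ffthmM G T R hT hP hc ⟨A, hA.1.trans hT.1, hoff⟩
  have hge := GE.of_lev hT hP hc hZ hL hK hno
  have hbz : BZ T (zc (o2 P)) (BO T (o2 P)) B ZJ :=
    { mem_ZJ := fun z => by
        rw [h.eqZ, ← hnx]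
        exact zc_nxt hL
      eqB := (hb.inf_eq hT2 hB).symm
      zcB := h.zc_B
      wn := fun R hR hBR => hb.two_le hR hBR
      sylB := fun R hR hBR hRc => hb.syl.2.2 R hRc hR hBR }
  have hw := hb.weakNormal
  have hRn : R ≤ normalizer (zl (S : Subgroup G) P : Set G) := by
    rw [← h.cl.zc_eq]
    exact (hL.le_norm_of_o2 hK (o2_le_syl hT)).trans (NO3S.Level.normalizer_le_zc _)
  have key : ∀ {L' V' Z' : Subgroup G} {q' : ℕ}, FB B L' V' Z' q' → L' ≤ R → V' ≤ zl (S : Subgroup G) P :=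
    fun hF hLR => fb_V_le hF h.zc_B_le (hLR.trans hRn)
  rcases hcon with ⟨F, _, _, _, k, hk, ⟨N⟩⟩ | ⟨k, m, hk, hm, hN⟩
  · obtain ⟨L, N', N₁, D', -, hLH, hpb, hsup⟩ := GNat.exists_pb hge hbz N hk ⟨A, hA, hAQ⟩
    exact ⟨L, _, ⟨⟨⟨_, _, hpb.fb⟩, hpb.block hw⟩, key hpb.fb hLH⟩, hLH, hsup.trans (sup_comm _ _).le⟩
  · obtain ⟨L, N', N₁, D', q, -, hLH, hpb, hsup⟩ := LevB.symBlk G T R _ _ _ _ k m hge hbz hk hm hN ⟨A, hA, hAQ⟩
    exact ⟨L, _, ⟨⟨⟨_, _, hpb.fb⟩, hpb.block hw⟩, key hpb.fb hLH⟩, hLH, hsup.trans (sup_comm _ _).le⟩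

end CaseV

/-- **UNI+ for the family**, `q = 2`. -/
theorem CaseV.uniTwoV {G : Type u} [Group G] [Finite G] {S : Sylow 2 G} {P B ZJ : Subgroup G} {k : ℕ}
    {L W Z C A : Fin k → Subgroup G} (h : CaseV S P B ZJ L W Z C A 2) :
    UniTwoV B ZJ (zl (S : Subgroup G) P) L W := by
  intro L' V' h'
  obtain ⟨-, -, i, -, -, -, -, h1⟩ := h.uniV h'
  exact ⟨i, h1 rfl⟩

/-! ### Sockets -/

section sockets

variable (K : Cls.{u}) (c : ℕ → ℕ → Prop)

/-- **(Om)**, case (L), for the restricted family. -/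
def OmV : Prop :=
  ∀ (G : Type u) [Group G] [Finite G], K G → ∀ (S : Sylow 2 G) (P B ZJ : Subgroup G) (k : ℕ)
    (L W Z C A : Fin k → Subgroup G) (q : ℕ), 2 ≤ k → c k q → CaseV S P B ZJ L W Z C A q →
      o2 (KV B ZJ (zl (S : Subgroup G) P)) ≠ ⊥ → o2 (KV B ZJ (zl (S : Subgroup G) P)) ≤ B →
      KV B ZJ (zl (S : Subgroup G) P) ⊔ normalizer (B : Set G) ≤
        normalizer (o2 (KV B ZJ (zl (S : Subgroup G) P)) : Set G) → IsKnownSimple' G

/-- **(E)**, case (L), for the restricted family. -/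
def EV : Prop :=
  ∀ (G : Type u) [Group G] [Finite G], K G → ∀ (S : Sylow 2 G) (P B ZJ : Subgroup G) (k : ℕ)
    (L W Z C A : Fin k → Subgroup G) (q : ℕ), 2 ≤ k → c k q → CaseV S P B ZJ L W Z C A q →
      NLoc (KV B ZJ (zl (S : Subgroup G) P)) → IsKnownSimple' G

end sockets

variable {K : Cls.{u}}

theorem known_ofV {c : ℕ → ℕ → Prop} (hO : OmV K c) (hE : EV K c) (G : Type u) [Group G] [Finite G] (hK : K G)
    (S : Sylow 2 G) (P : Subgroup G) (h : CaseL S P) (F : Type) [Field F] [Finite F] [CharP F 2] (k : ℕ) (hk : 2 ≤ k)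
    (hc : c k (Nat.card F))
    (N : NatKM F (S : Subgroup G) P (zl (S : Subgroup G) P) (cv (S : Subgroup G) P) k) : IsKnownSimple' G := by
  obtain ⟨B, ZJ, L, W, Z, C, A, hV⟩ := exists_caseV h hk N
  rcases casesV hV.mul with h1 | ⟨h1, h2, h3⟩
  · exact hE G hK S P B ZJ k L W Z C A _ hk hc hV h1
  · exact hO G hK S P B ZJ k L W Z C A _ hk hc hV h1 h2 h3

/-- **`MultiTwoH K CaseLP`.** -/
theorem multiTwoV_of (hO : OmV K fun _ q => q = 2) (hE : EV K fun k q => k = 2 ∧ q = 2)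
    (hE' : EV K fun k q => 3 ≤ k ∧ q = 2) : MultiTwoH K CaseLP := by
  intro G _ _ hK S P h F _ _ _ k hk hq N
  refine known_ofV (c := fun _ q => q = 2) hO ?_ G hK S P h F k hk hq N
  intro G _ _ hK S P B ZJ k L W Z C A q hk hq hV hN
  rcases Nat.lt_or_ge k 3 with hk3 | hk3
  · exact hE G hK S P B ZJ k L W Z C A q hk ⟨by omega, hq⟩ hV hN
  · exact hE' G hK S P B ZJ k L W Z C A q hk ⟨hk3, hq⟩ hV hN

/-- **`MultiQH K CaseLP`.** -/
theorem multiQV_of (hO : OmV K fun _ q => 4 ≤ q) (hE : EV K fun k q => k = 2 ∧ 4 ≤ q)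
    (hE' : EV K fun k q => 3 ≤ k ∧ 4 ≤ q) : MultiQH K CaseLP := by
  intro G _ _ hK S P h F _ _ _ k hk hq N
  refine known_ofV (c := fun _ q => 4 ≤ q) hO ?_ G hK S P h F k hk hq N
  intro G _ _ hK S P B ZJ k L W Z C A q hk hq hV hN
  rcases Nat.lt_or_ge k 3 with hk3 | hk3
  · exact hE G hK S P B ZJ k L W Z C A q hk ⟨by omega, hq⟩ hV hN
  · exact hE' G hK S P B ZJ k L W Z C A q hk ⟨hk3, hq⟩ hV hN

end Cfsg.Agent.Omega.Node.MulV
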