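import Cfsg.Agent.Omega.Node.MultiPlug
import Cfsg.Agent.Omega.EK3.GlueG
import Cfsg.Agent.Omega.EK3.UniLevK

/-!
# The leaf `MultiTwoL` of NO-3S from its two open inputs

* `two_of_uni` : from `UniLev` and `UniLevK`; `two_of_noLow` : from `NoLow` (`k = 2`) and `NoLowK` (`k ≥ 3`).
-/

set_option autoImplicit false

namespace Cfsg.Agent.Omega.Node.MultiEnd

open Cfsg.Agent.Omega.Frame (Cls)

universe u

variable {K : Cls.{u}}

/-- **`MultiTwoL K`** from UNI+ and block generation at the levels. -/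
theorem two_of_uni (hML : ML.Final.MLK.{u, u}) (hKL : KL.Quo.NoInp.{u, u}) (hU : TC.OfMul.UniLev K)
    (hUK : EK3.OfMul.UniLevK K) : NO3S.MultiTwoL K :=
  MultiPlug.two_of hML hKL hU hUK (EK3.eEndK_of hML hKL K)

/-- **`MultiTwoL K`** from the two statements on minimal parabolics of smaller stage. -/
theorem two_of_noLow (hML : ML.Final.MLK.{u, u}) (hKL : KL.Quo.NoInp.{u, u}) (hN : TC.UniLev.NoLow K)
    (hNK : EK3.UniLevK.NoLowK K) : NO3S.MultiTwoL K :=
  two_of_uni hML hKL (TC.UniLev.uniLev_of hN) (EK3.UniLevK.uniLevK_of hNK)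

end Cfsg.Agent.Omega.Node.MultiEnd
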