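import Cfsg.Agent.Omega.Node.OmLevFour
import Cfsg.Agent.Omega.Node.OmNegQ
import Cfsg.Agent.Omega.OM.SWQ.CaseFour
import Cfsg.Agent.Omega.FF.GlobEnd

/-!
# (Om) is impossible for `q ≥ 4`, all stages

`omLev_q : OmLev K (4 ≤ q)`, `omNeg_q : OmNeg K (4 ≤ q)`, `omOf_q : OmOf K (4 ≤ q)` (no hypotheses).
THEOREM SWQ (helper987, 340, 359, 362; `q = 4`: helper87, 203), (LL): helper584; stage `-1`: helper350, 359, 520, 87, 203.
-/

set_option autoImplicit false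

namespace Cfsg.Agent.Omega.Node.OmLevQ

open Cfsg.Agent.Omega.Frame (Cls)
open Cfsg.Agent.Omega.Node.MultiOf (OmLev OmNeg OmOf omOf_of)

universe u

/-- (4F) at the levels -/
theorem fourStmt : OmLevFour.FourStmt.{u} :=
  fun _ _ _ _ _ _ _ _ _ _ _ _ _ _ _ D _ _ _ hs hP hD hN hPhi hq =>
    D.case_four hs (fun i => (D.LP i).trans hP) hD hN hPhi hq

/-- **(Om), stage `n ≥ 0`, `q ≥ 4`.** -/
theorem omLev_q {K : Cls.{u}} : OmLev K fun _ q => 4 ≤ q := OmLevFour.omLev_q fourStmt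

/-- **(Om), stage `-1`, `q ≥ 4`.** -/
theorem omNeg_q {K : Cls.{u}} : OmNeg K fun _ q => 4 ≤ q := OmNegQ.omNeg_q FF.Glob.ffthm FF.Glob.aStmt

/-- **(Om), `q ≥ 4`.** -/
theorem omOf_q {K : Cls.{u}} : OmOf K fun _ q => 4 ≤ q := omOf_of omNeg_q omLev_q

end Cfsg.Agent.Omega.Node.OmLevQ
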