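import Cfsg.Agent.Omega.FrameLE
import Cfsg.Agent.Omega.NOThreeL.Pair

/-!
# OMEGA, leaf NO-3L (assembler: helper597; heads helper863, helper111, helper582)

`S` a Sylow 2-subgroup, `Z = Ω₁(Z(S))`, `C = C_G(Z) = CZ S`, `Q = O₂(C)`, `P* = {P | IsParS S P}`,
`V_P = zl S P`.  NO-3L: no mutual pair of the `V_P`, all `V_P ≤ Q`, `⟨P, C⟩` local for all `P ∈ P*`.

A *long* group is a local overgroup `H` of `C` (`IsLong S H`), `U_H = zl S H = ⟨Z^H⟩`.

* `exists_long` : in NO-3L there are two long groups `H₁`, `H₂ = ⟨P, C⟩` with `NonLoc H₁ H₂`;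
* `MutualL S H H' x` : `U_H` and `(U_{H'})^x` normalise each other and do not commute;
* `exists_mutualL` : #12384 (1) (Lean: helper489);
* `Data` : everything known at this point;
* `LongPair K` : **input, named Prop** (owners: helper863 #12149, helper111 #12384, helper582, helper337, helper597);
* `nodeNO3L` : `LongPair K → FrameNOFF.NodeNO3L K`.
-/

set_option autoImplicit false

namespace Cfsg.Agent.Omega.Node.NO3L

open Subgroup Cfsg Cfsg.Agent.ZN Cfsg.Agent.Omega.MinPar Cfsg.Agent.Omega.Frame Cfsg.Agent.Omega.FrameNOFF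
open Cfsg.Agent.MinSimple.VModule
open scoped Pointwise

universe u

section defs

variable {G : Type u} [Group G]

/-- a local overgroup of `C_G(Ω₁(Z(S)))` -/
structure IsLong (S H : Subgroup G) : Prop where
  loc : IsLoc S H
  cz : CZ S ≤ H

/-- `U_H` and `(U_{H'})^x` normalise each other and do not commute. -/
structure MutualL (S H H' : Subgroup G) (x : G) : Prop where
  long₁ : IsLong S H
  long₂ : IsLong S H'
  le₁ : zl S H ≤ normalizer ((MulAut.conj x • zl S H' : Subgroup G) : Set G)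
  le₂ : MulAut.conj x • zl S H' ≤ normalizer (zl S H : Set G)
  ne : ⁅zl S H, MulAut.conj x • zl S H'⁆ ≠ ⊥

/-- The situation of NO-3L. -/
structure Data (S : Subgroup G) : Prop where
  noff : ¬ FF S
  low : ∀ P : Subgroup G, IsParS S P → zl S P ≤ o2 (CZ S)
  loc : ∀ P : Subgroup G, IsParS S P → IsLong S (P ⊔ CZ S)

end defs

section facts

variable {G : Type u} [Group G] [Finite G]

theorem Data.mk' (S : Sylow 2 G) (hm : ¬ FF (S : Subgroup G))
    (hlow : ∀ P : Subgroup G, IsParS (S : Subgroup G) P → zl (S : Subgroup G) P ≤ o2 (CZ (S : Subgroup G)))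
    (hloc : ∀ P : Subgroup G, IsParS (S : Subgroup G) P → ¬ NonLoc P (CZ (S : Subgroup G))) :
    Data (S : Subgroup G) :=
  ⟨hm, hlow, fun P hP => ⟨(not_nonLoc_iff S hP.le).1 (hloc P hP), le_sup_right⟩⟩

/-- `O₂(H) ≤ O₂(C)` for a long group `H`. -/
theorem IsLong.o2_le (S : Sylow 2 G) {H : Subgroup G} (h : IsLong (S : Subgroup G) H) :
    o2 H ≤ o2 (CZ (S : Subgroup G)) :=
  o2_le_o2 S (le_CZ S) h.cz

/-- `U_H ≤ O₂(H)` -/
theorem IsLong.zl_le_o2 (hc : IsCharacteristicTwoType G) (S : Sylow 2 G) {H : Subgroup G}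
    (h : IsLong (S : Subgroup G) H) : zl (S : Subgroup G) H ≤ o2 H := by
  refine le_o2 (h.loc.zl_le S hc |>.trans (zc_le _) |>.trans (h.loc.o2_le S) |>.trans h.loc.le) ?_
    (le_normalizer_zl _ _)
  exact (o2_isPGroup H).to_le ((h.loc.zl_le S hc).trans (zc_le _))

/-- **Two long groups generating a nonlocal group.** -/
theorem exists_long (h : Ctx G) (S : Sylow 2 G) (hF : Full (S : Subgroup G)) (D : Data (S : Subgroup G)) :
    ∃ H₁ P : Subgroup G, IsLong (S : Subgroup G) H₁ ∧ IsMaxLoc (S : Subgroup G) H₁ ∧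
      IsParS (S : Subgroup G) P ∧ IsLong (S : Subgroup G) (P ⊔ CZ (S : Subgroup G)) ∧
      NonLoc H₁ (P ⊔ CZ (S : Subgroup G)) := by
  obtain ⟨H₁, hH, hC⟩ := exists_isMaxLoc S (isLoc_centralizer_zc S (h.sylow_ne_bot S))
  have hex : ∃ P, IsParS (S : Subgroup G) P ∧ ¬ P ≤ H₁ := by
    by_contra hcon
    push Not at hcon
    refine hH.o2_ne (eq_bot_of_norm h S hF (o2_isPGroup H₁) (fun P hP => ?_) ?_)
    · exact (hcon P hP).trans (le_normalizer_o2 H₁)
    · exact hC.trans (le_normalizer_o2 H₁)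
  obtain ⟨P, hP, hPH⟩ := hex
  refine ⟨H₁, P, ⟨hH.toIsLoc, hC⟩, hH, hP, D.loc P hP, fun U hU h1 h2 => ?_⟩
  by_contra hU1
  have h3 := hH.normalizer_eq S hU hU1 h1
  exact hPH (le_sup_left.trans (h3 ▸ h2))

/-- **#12384 (1)** (helper111; Lean helper489): a mutual noncommuting pair of long modules. -/
theorem exists_mutualL (hc : IsCharacteristicTwoType G) (S : Sylow 2 G) {H₁ H₂ : Subgroup G}
    (h₁ : IsLong (S : Subgroup G) H₁) (h₂ : IsLong (S : Subgroup G) H₂) (hn : NonLoc H₁ H₂) :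
    ∃ H H' : Subgroup G, (H = H₁ ∨ H = H₂) ∧ (H' = H₁ ∨ H' = H₂) ∧ ∃ x,
      MutualL (S : Subgroup G) H H' x := by
  obtain ⟨H, H', hH, hH', x, -, h1, h2, h3⟩ :=
    NOThreeL.Pair.exists_mutual_pair hc S h₁.loc h₂.loc h₁.cz h₂.cz hn
  refine ⟨H, H', hH, hH', x, ?_, ?_, h1, h2, h3⟩
  · rcases hH with rfl | rfl <;> assumption
  · rcases hH' with rfl | rfl <;> assumption

end facts

/-! ### Inputs -/

section inputs

variable (K : Cls.{u})

/-- **Input NO3L.LongPair** (owners: helper863 #12149, helper111 #12384, helper582, helper337; K-free attempt: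
helper597): two long groups `H₁` (maximal local) and `H₂ = ⟨P, C⟩` generating a nonlocal group. -/
def LongPair : Prop :=
  ∀ (G : Type u) [Group G] [Finite G], Ctx G → K G → ∀ (S : Sylow 2 G), Full (S : Subgroup G) →
    Data (S : Subgroup G) →
    ∀ H₁ P : Subgroup G, IsMaxLoc (S : Subgroup G) H₁ → IsLong (S : Subgroup G) H₁ →
      IsParS (S : Subgroup G) P → IsLong (S : Subgroup G) (P ⊔ CZ (S : Subgroup G)) →
      NonLoc H₁ (P ⊔ CZ (S : Subgroup G)) → IsKnownSimple' G

variable {K}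

/-- **The leaf NO-3L from its inputs.** -/
theorem nodeNO3L (h1 : LongPair K) : FrameNOFF.NodeNO3L K := by
  intro G _ _ hG hcl S hF hm hlow hloc
  have D := Data.mk' S hm hlow hloc
  obtain ⟨H₁, P, hL, hM, hP, hL2, hn⟩ := exists_long hG S hF D
  exact h1 G hG hcl S hF D H₁ P hM hL hP hL2 hn

end inputs

end Cfsg.Agent.Omega.Node.NO3L
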