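import Cfsg.Agent.Omega.Node.NO3LMain
import Cfsg.Agent.Omega.NO3b.BasePt.Done
import Cfsg.Agent.Omega.KL.NoInp
import Cfsg.Agent.Omega.NOThreeL.RRed.TCR
import Cfsg.Agent.Omega.ML.Ex.Ext

/-!
# The leaf NO-3L with (ML), the K-lists, `NotFFG` and `TCR` plugged in

* `notFFM : RTreeF.NotFFM K`, `tcr : RRed.TCR K` : theorems;
* `nodeNO3L_done` : the leaf NO-3L from `Ext`, `FourOf`, `WideAll`, `BrTOf` (box R, `V*` FF);
* **`OpenB.node`** : the same without `Ext` (helper585's `ML.Ex.Two.ext`).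
-/

set_option autoImplicit false

namespace Cfsg.Agent.Omega.Node.NO3LDone

open Cfsg.Agent.Omega.Frame Cfsg.Agent.Omega.NOThreeL

universe u

/-- **`RTreeF.NotFFM K`**. -/
theorem notFFM (K : Cls.{u}) : RTreeF.NotFFM K := RTreeF.NotFFM.of_G NO3b.BasePt.Done.notFFG

/-- **`RRed.TCR K`**: the smallest shape of box R. -/
theorem tcr (K : Cls.{u}) : RRed.TCR K := RRed.tcr_of ML.KnownAll.mlk KL.NoInp.noInp

/-- The last open sockets of the leaf NO-3L (box R, not (A), `V*` FF). -/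
structure OpenB (K : Cls.{u}) : Prop where
  /-- `RR S = 1`, `|Z| = 4`, `Thin S`, some `|V_P| ≠ 8`, (L2) -/
  four : RRed.GlueSig.FourOf K RRed.GlueSig.FBF.{u}
  /-- `RR S = 1`, some `|Z : C_Z(P)| ≥ 4` -/
  wide : RRed.GlueSig.WideAll K RRed.GlueSig.FBF.{u}
  /-- `RR S ≠ 1`, (L2) if `Thin S` -/
  br : RRed.GlueSig.BrTOf K RRed.GlueSig.FBF.{u}

/-- **The leaf NO-3L** from `Ext` and the three sockets of box R. -/
theorem nodeNO3L_done {K : Cls.{u}} (hE : ML.Ex.Two.Ext.{u, u}) (h : OpenB K) : FrameNOFF.NodeNO3L K :=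
  NO3LMain.nodeNO3L_sig ML.KnownAll.mlk hE (notFFM K) (tcr K) h.four h.wide h.br

/-- **The leaf NO-3L** from the three sockets of box R. -/
theorem OpenB.node {K : Cls.{u}} (h : OpenB K) : FrameNOFF.NodeNO3L K := nodeNO3L_done ML.Ex.Two.ext h

end Cfsg.Agent.Omega.Node.NO3LDone
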