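import Cfsg.Agent.Omega.Node.NO3LOpen
import Cfsg.Agent.Omega.NOThreeL.RRed.OneManyOf
import Cfsg.Agent.Omega.NOThreeL.RRed.TopQEnd
import Cfsg.Agent.Omega.NOThreeL.RRed.MvFam
import Cfsg.Agent.Omega.NOThreeL.RRed.Blk.InBOf
import Cfsg.Agent.Omega.NOThreeL.RWide.UniT.Fin
import Cfsg.Agent.Omega.NOThreeL.RZ.TwoE.NrEnd

/-!
# The leaf NO-3L is closed (assembler: helper597)

**`openR (L : Landed) (K) : OpenR K`**, **`node (L : Landed) (K) : NodeNO3L K`**.

* `nr` : helper568, 290 (THEOREM EX), 455, 892, 842, 878;  `noMv` : helper811, 702, 342, 374, 878;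
* `leftMany` : helper823, 258, 848 and the theorem `parT` (helper971, 860, 995, 801, 528, 480);
* `oneTwo`, `oneMany` : helper776, 778, 540, 381, 192, 49, 391, 739, 727.
-/

set_option autoImplicit false

namespace Cfsg.Agent.Omega.Node.NO3LDone2

open Cfsg.Agent.Omega.Frame Cfsg.Agent.Omega.NOThreeL
open Cfsg.Agent.Omega.NOThreeL.RRed Cfsg.Agent.Omega.NOThreeL.RRed.GlueSig
open Cfsg.Agent.Omega.Landed (Landed)
open Cfsg.Agent.Omega.Node.NO3LOpen (BF OpenR)

universe u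

/-- `RedP`, from the landed rows -/
theorem redP (L : Landed.{u}) : NO3b.EndX.RedP.{u, u} :=
  NO3b.EndX.redP_of L.mlk (NO3b.EndX.simpP L.rows L.mlk)

/-- `AbsP`, from the landed rows -/
theorem absP (L : Landed.{u}) : NO3b.EndX.AbsP.{u, u} := NO3b.EndX.absP_all L.mlk L.rows

theorem isR : TopQEnd.IsR BF.{u} := fun _ _ _ _ h => h.1

/-- one class, one orbit of natural blocks, `q ≥ 8` -/
theorem orbD (L : Landed.{u}) : OneTwoOf.OrbD BF.{u} := TopQEnd.orbD_of isR L.mlk (absP L)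

/-- one class, `≥ 2` orbits of natural blocks, `≥ 3` blocks -/
theorem allOrb (L : Landed.{u}) : OneManyOf.AllOrb BF.{u} :=
  TopQEnd.allOrb_of isR L.mlk (redP L) L.ext (absP L)

/-- **All sockets of the leaf NO-3L.** -/
theorem openR (L : Landed.{u}) (K : Cls.{u}) : OpenR K where
  nr := RZ.TwoE.NrEnd.nr L.mlk (redP L) L.ext Blk.InBOf.inB
  noMv := MvFam.wNoMv_of_inB Blk.InBOf.inB K
  leftMany := UPar.wLeftMany_of L.mlk (KL.StarM.noInpM_of L.mlk) RWide.UniT.parX K BF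
  oneTwo := OneTwoOf.wOneTwo_of_orbD (orbD L)
  oneMany := OneManyOf.wOneMany_of_orbD L.mlk (KL.StarM.noInpM_of L.mlk) RWide.UniT.parX (allOrb L) (orbD L)

/-- **The leaf NO-3L.** -/
theorem node (L : Landed.{u}) (K : Cls.{u}) : FrameNOFF.NodeNO3L K := (openR L K).node L

end Cfsg.Agent.Omega.Node.NO3LDone2
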