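import Cfsg.Agent.Omega.Node.NO3LOpen
import Cfsg.Agent.Omega.NOThreeL.RRed.UPar
import Cfsg.Agent.Omega.NOThreeL.RRed.OneManyOf
import Cfsg.Agent.Omega.NOThreeL.RRed.OneStd
import Cfsg.Agent.Omega.NOThreeL.RRed.MvFam
import Cfsg.Agent.Omega.NOThreeL.RZ.TwoE.TvEnd
import Cfsg.Agent.Omega.NOThreeL.RZ.TwoE.SpEnd
import Cfsg.Agent.Omega.NOThreeL.RZ.TwoE.NsEnd

/-!
# The leaf NO-3L: a finer cut of the open sockets (assembler: helper597)

* `nr` : `RZ/TwoE/NrTree` (helper568), `TvO` (helper290, THEOREM EX), `SpO` (helper455), `NsO` (helper892): `inB`;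
* `noMv` : `RRed/MvFam` (helper811): `inB`;
* `leftMany` : `RRed/UPar` (helper823, 258): `parX`;
* `oneTwo` : `RRed/OneTwoOf`, `RRed/OneStd` (helper776, 49): `topD`;
* `oneMany` : `RRed/OneManyOf` (helper727): `parX`, `topD`, `allOrb`.

* **`OpenF.toR (L : Landed) : OpenF K → OpenR K`**.
-/

set_option autoImplicit false

namespace Cfsg.Agent.Omega.Node.NO3LFine

open Cfsg.Agent.Omega.Frame Cfsg.Agent.Omega.NOThreeL
open Cfsg.Agent.Omega.NOThreeL.RRed Cfsg.Agent.Omega.NOThreeL.RRed.GlueSig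
open Cfsg.Agent.Omega.Landed (Landed)
open Cfsg.Agent.Omega.Node.NO3LOpen (BF OpenR)

universe u

/-- `RedP`, from the landed rows -/
theorem redP (L : Landed.{u}) : NO3b.EndX.RedP.{u, u} :=
  NO3b.EndX.redP_of L.mlk (NO3b.EndX.simpP L.rows L.mlk)

/-- **The open sockets of the leaf NO-3L, finer.** -/
structure OpenF (K : Cls.{u}) : Prop where
  /-- the inputs of the family of the nonsplit blocks (helper263, 426, 855) -/
  inB : RZ.TwoE.NsEnd.InB.{u}
  /-- `≥ 3` blocks: `parT` (helper971, 294) -/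
  parX : UPar.ParX.{u}
  /-- one class, one orbit of natural blocks, `q ≥ 8`, all levels centralise `V*` (helper49, 483, 739, 776) -/
  topD : OneTwoOf.TopD BF.{u}
  /-- one class, `≥ 2` orbits, `≥ 3` blocks: `𝒜(O)` moves every block (helper739, 391) -/
  allOrb : OneManyOf.AllOrb BF.{u}

variable {K : Cls.{u}}

/-- **`C_Z(E₁) ≠ 1`** (the tree of helper568) -/
theorem OpenF.nr (L : Landed.{u}) (I : OpenF K) : NrOf K EOne.E1Fr :=
  RZ.TwoE.NrTree.nrOf (RZ.TwoE.TvEnd.tvO L.mlk (redP L) L.ext) (RZ.TwoE.NatFam.spO L.mlk (redP L) L.ext)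
    (RZ.TwoE.NsEnd.nsO L.mlk (redP L) L.ext I.inB)

/-- **`≥ 3` blocks in the left case** (helper823, 258) -/
theorem OpenF.leftMany (L : Landed.{u}) (I : OpenF K) : WideTree.WLeftMany K BF :=
  UPar.wLeftMany_of L.mlk (KL.StarM.noInpM_of L.mlk) I.parX K BF

/-- **`≥ 3` blocks, one class** (helper727) -/
theorem OpenF.oneMany (L : Landed.{u}) (I : OpenF K) : WideTree.WOneMany K BF :=
  OneManyOf.wOneMany_of_orbD L.mlk (KL.StarM.noInpM_of L.mlk) I.parX I.allOrb (OneStd.orbD_of_top I.topD)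

/-- **The sockets of `OpenR` from the finer ones.** -/
theorem OpenF.toR (L : Landed.{u}) (I : OpenF K) : OpenR K where
  nr := I.nr L
  noMv := MvFam.wNoMv_of_inB I.inB K
  leftMany := I.leftMany L
  oneTwo := OneStd.wOneTwo_of_top I.topD
  oneMany := I.oneMany L

end Cfsg.Agent.Omega.Node.NO3LFine
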