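import Cfsg.Agent.Omega.Node.NoWFivePlug
import Cfsg.Agent.Omega.NO3S.WY.Tor.SFiveY
import Cfsg.Agent.Omega.NO3S.WY.Tor.SFiveM
import Cfsg.Agent.Omega.NO3S.WY.Tor.SFiveSyl

/-!
# NoW for one `S₅`: the facts `Y5`

* `kE` : `Q ⊓ C(W) = O₂(Y) ⊓ C(p 0)` is normalised by `O²(Y)`;
* **`y5Of : Y5Of`**; `noWFive' : FinF K → TorSOf K → NoWFive K`.
-/

set_option autoImplicit false
set_option linter.unusedSectionVars false
set_option linter.dupNamespace false

namespace Cfsg.Agent.Omega.Node.NoWFiveYFive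

open Subgroup Cfsg Cfsg.Agent.ZN Cfsg.Agent.ZN.ChoiceBase
open Cfsg.Agent.Omega.FFThm (NatKM ActsSL)
open Cfsg.Agent.Omega.FrameFF (cv)
open Cfsg.Agent.Omega.Frame (Cls)
open Cfsg.Agent.Omega.NTwo (Std nn aa)
open Cfsg.Agent.MinSimple.VModule (oddGen oddGen_le)
open Cfsg.Agent.Omega.NO3b.EZero (cl)
open Cfsg.Agent.Omega.NO3S.WY.Tor.SFive (TorS Y5)
open Cfsg.Agent.Omega.NO3S.WY.Tor.SFiveI
open Cfsg.Agent.Omega.Node.NoWFiveSel Cfsg.Agent.Omega.Node.NoWFivePlug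
open Cfsg.Agent.Omega.Node.ELXUni (NoWFive)

universe u

variable {G : Type u} [Group G] [Finite G] {S : Sylow 2 G} {P Y : Subgroup G} {p : Fin 5 → G}

theorem inf_eq (t : TorS S P p Y) (h24 : p 2 * p 4 ∈ zl (Std.T (S : Subgroup G) p) Y) :
    o2 P ⊓ centralizer (cl (zpowers (p 2 * p 3)) Y : Set G) = o2 Y ⊓ centralizer ({p 0} : Set G) := by
  refine le_antisymm ?_ ?_
  · rintro q ⟨hq, hqW⟩
    refine ⟨t.ker (Q_T t hq) fun v hv => ?_, ?_⟩
    · have h1 : zl (Std.T (S : Subgroup G) p) Y ≤ centralizer ({q} : Set G) := by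
        refine (V0_le_W t).trans (sup_le ?_ ?_)
        · exact fun w hw => mem_centralizer_singleton_iff.2 (mem_centralizer_iff.1 hqW w hw)
        · exact fun w hw => mem_centralizer_singleton_iff.2
            (mem_centralizer_iff.1 (Y_Lm t (Q_Y t hq)) w hw)
      have h2 := mem_centralizer_singleton_iff.1 (h1 hv)
      rw [← h2, mul_inv_cancel_right, mul_inv_cancel]
      exact one_mem _
    · exact mem_centralizer_singleton_iff.2 (mem_centralizer_iff.1 (Q_L t hq) _ (t.five.toFive.p_mem 0)).symm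
  · rintro y ⟨hy, hy0⟩
    have hc : ∀ v ∈ zl (Std.T (S : Subgroup G) p) Y, y * v = v * y := fun v hv =>
      (mem_centralizer_iff.1 (t.cent_zl hy) v hv).symm
    refine ⟨S_L t ⟨Std.T_le (t.o2T hy), ?_⟩, mem_centralizer_iff.2 fun w hw => (hc w (W_V0 t hw)).symm⟩
    exact cent_L_of t (mem_centralizer_singleton_iff.1 hy0) (hc _ (nn_V0 t)) (hc _ (aa_V0 t)) (hc _ h24)

theorem kE (t : TorS S P p Y) (h24 : p 2 * p 4 ∈ zl (Std.T (S : Subgroup G) p) Y) :
    oddGen Y ≤ normalizer ((o2 P ⊓ centralizer (cl (zpowers (p 2 * p 3)) Y : Set G) : Subgroup G) : Set G) := by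
  intro k hk
  have h1 : k ∈ centralizer ({p 0} : Set G) := mem_centralizer_singleton_iff.2 (t.K0 k hk)
  rw [inf_eq t h24, mem_normalizer_iff_cj, cj_inf,
    cj_eq_of_mem_normalizer (ZN.le_normalizer_o2 Y (oddGen_le Y hk)), cj_eq_of_mem_normalizer (le_normalizer h1)]

/-- **the facts `Y5`** -/
theorem y5Of : Y5Of.{u} := by
  intro G _ _ S P p Y t
  obtain ⟨F, _, _, _, N, f4, hl, hu⟩ := t.nat
  have h24 : p 2 * p 4 ∈ zl (Std.T (S : Subgroup G) p) Y := W_V0 t (mem24 t N f4 hl hu)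
  exact y5_of t N f4 hl hu t.K0 (kE t h24)
    (t.syl_of N hl (fun d hd => cv_eq t N f4 hl hu hd) h24 t.K0)

/-- **NoW for one `S₅`** from the finite stage and `TorS` -/
theorem noWFive' {K : Cls.{u}} (hF : FinF K) (hT : TorSOf K) : NoWFive K := noWFive hF hT y5Of

end Cfsg.Agent.Omega.Node.NoWFiveYFive
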