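import Cfsg.Agent.Omega.EK3.QL.Fin
import Cfsg.Agent.Omega.NO3S.CaseLW.QWrelPlug

/-!
# THEOREM L(q) over `MulL` (`OffNK K`) from the family `HFam` of relative QW

* `offN_of_fam : HFam h → OffN h`;
* `HFamK K`, **`offNK_of : HFamK K → OffNK K`**.
-/

set_option autoImplicit false

namespace Cfsg.Agent.Omega.Node.OffNOf

open Subgroup Cfsg Cfsg.Agent.ZN.ChoiceBase
open Cfsg.Agent.ZN (jj zj bau zc zl o2)
open Cfsg.Agent.Omega.Frame (Cls)
open Cfsg.Agent.Omega.Node.MulX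
open Cfsg.Agent.Omega.EK3.QL (OffN OffNK)
open Cfsg.Agent.Omega.NO3S.CaseLW.QWrelPlug (HFam best_gen)

universe u

theorem offN_of_fam {G : Type u} [Group G] [Finite G] {S : Sylow 2 G} {P B ZJ : Subgroup G} {k : ℕ}
    {L W Z C A : Fin k → Subgroup G} {q : ℕ} (h : MulL S P B ZJ L W Z C A q) (hf : HFam h) : OffN h := by
  intro D _ hm T R hT hB hP hch hR hn hl hK
  refine best_gen h hf hT ?_ hP hch (fun l => ?_) hl hK hn
  · rw [h.eB, h.eZ]
    exact hB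
  · obtain ⟨z, hz, hz1, hzD⟩ := hm l
    exact ⟨z, hz, hz1, hR.trans (centralizer_le (Set.singleton_subset_iff.2 hzD))⟩

/-- the family, `q ≥ 4` -/
def HFamK (K : Cls.{u}) : Prop :=
  ∀ (G : Type u) [Group G] [Finite G], K G → ∀ (S : Sylow 2 G) (P B ZJ : Subgroup G) (k : ℕ)
    (L W Z C A : Fin k → Subgroup G) (q : ℕ), 2 ≤ k → 4 ≤ q → ∀ h : MulL S P B ZJ L W Z C A q, HFam h

theorem offNK_of {K : Cls.{u}} (hf : HFamK K) : OffNK K :=
  fun G _ _ hG S P B ZJ k L W Z C A q hk hq h => offN_of_fam h (hf G hG S P B ZJ k L W Z C A q hk hq h)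

end Cfsg.Agent.Omega.Node.OffNOf
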