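import Cfsg.Agent.Omega.Node.NO3SWF
import Cfsg.Agent.Omega.NO3S.Level.Gamma
import Cfsg.Agent.Omega.NO3S.Sym.Light
import Cfsg.Agent.Omega.NO3b.CTwoFF.End
import Cfsg.Agent.Omega.NO3S.RedC.Main
import Cfsg.Agent.Omega.NO3S.GamRU
import Cfsg.Agent.Omega.NO3S.SFive.MainF

/-!
# The leaf NO-3S: the socket `GammaFF`, cut further

`EndsO K H` = what is missing of `Ends K H` (`NO3S/Level/Gamma.lean`) given `WF K` (`FullK`) and `Two K` (the exit of the
light case); `GamFive K` = (S5) with all its data; `gammaFF_of_caseL : Ends K CaseLP → .. → GammaFF K`.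
(S2), (S3), UNIQ are closed (`GamRU.lean`, helper570, 424, 422, 633, 365, 905, 794 and others), (C)(2) is closed (`NO3b/CTwoFF/End.lean`, helper194), `RedH K CaseLP` is closed (`RedC/Main.lean`, helper284), (S1) is
closed (`SOne/Plug.lean`, helper754, 894, 335, 748, 283, 480 and others), (S5) is closed (`SFive/MainF.lean`, helper214,
31, 422, 879, 618, 304, 747, 589 and others).
-/

set_option autoImplicit false

namespace Cfsg.Agent.Omega.NO3S

open Subgroup Cfsg Cfsg.Agent.ZN Cfsg.Agent.Omega.MinPar Cfsg.Agent.Omega.Frame Cfsg.Agent.Omega.FrameNOFF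
open Cfsg.Agent.Omega.NO3S.Level
open Cfsg.Agent.Omega.NO3S.Fld (Crd)
open Cfsg.Agent.Omega.FrameFF (cv)
open Cfsg.Agent.Omega.FFThm (SymKM)
open Cfsg.Agent.Omega.NOThreeL.Merge (MZ)

universe u

/-- The light case of `S₅` over a frame. -/
def LightH (K : Cls.{u}) (H : FrP.{u}) : Prop :=
  ∀ (G : Type u) [Group G] [Finite G], K G → ∀ (S : Sylow 2 G) (P : Subgroup G), H G S P →
    SymKM (S : Subgroup G) P (zl (S : Subgroup G) P) (cv (S : Subgroup G) P) 1 2 →
      ∀ p : Fin 5 → G, Sym.Light.FiveL S P p → IsKnownSimple' G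

/-- The FF-ends over a frame `H` with more than one block or without field: open inputs. -/
structure EndsM (K : Cls.{u}) (H : FrP.{u}) : Prop where
  multiTwo : MultiTwoH K H
  multiQ : MultiQH K H
  light : LightH K H
  symBig : SymBigH K H
  symMany : SymManyH K H

/-- The FF-ends over a frame `H`: open inputs. -/
structure EndsO (K : Cls.{u}) (H : FrP.{u}) : Prop extends EndsM K H where
  red : RedH K H

/-- **(S5)**: an active member with `C_Z(P) = 1`, `V_P` an FF-module, all members of `P*(S)` normalise `V_P`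
(it is impossible: helper422 #22571, 58 #22615 for `k ≥ 2` and `S_n`, helper879 #22996 for `k = 1`). -/
def GamFive (K : Cls.{u}) : Prop :=
  ∀ (G : Type u) [Group G] [Finite G], K G → ∀ (S : Sylow 2 G) (P F : Subgroup G), WSt S P F →
    zc (S : Subgroup G) ⊓ centralizer (P : Set G) = ⊥ → FFMod (S : Subgroup G) P →
      (∀ R, IsParS (S : Subgroup G) R → R ≤ normalizer (zl (S : Subgroup G) P : Set G)) →
        zl (S : Subgroup G) (MZ (S : Subgroup G)) = zl (S : Subgroup G) P →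
          (∃ R, PSS (S : Subgroup G) R ∧ zl (S : Subgroup G) R = zl (S : Subgroup G) P) → IsKnownSimple' G

variable {K : Cls.{u}} {H : FrP.{u}}

theorem symTwoH_of (hH : ∀ (G : Type u) [Group G] [Finite G] (S : Sylow 2 G) (P : Subgroup G), H G S P → Hyp S P)
    (h2 : Two K) (hl : LightH K H) : SymTwoH K H := by
  intro G _ _ hK S P h M
  obtain ⟨p, hp⟩ := Sym.Exit.exists_five (hH G S P h) M.toSymK
  by_cases hc : ∃ T₀ : Sylow 2 G, ∀ x ∈ (T₀ : Subgroup G), x * NTwo.nn p * x⁻¹ = NTwo.nn p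
  · obtain ⟨T₀, hT₀⟩ := hc
    exact Sym.Exit.known_of_central h2 hK hp T₀ hT₀
  · push Not at hc
    exact hl G hK S P h M p ⟨hp, fun T₀ h0 => by
      obtain ⟨x, hx, h1⟩ := hc T₀
      exact h1 (h0 x hx)⟩

theorem EndsO.toEnds (hF : ∀ (G : Type u) [Group G] [Finite G] (S : Sylow 2 G) (P : Subgroup G), H G S P → HypF S P)
    (h2 : Two K) (hw : WF K) (E : EndsO K H) : Ends K H where
  red := E.red
  w := fun G _ _ hK S P h F _ _ _ hF' M B R hB hf n y hn hy => hw G hK S P (hF G S P h) F hF' M B R hB hf n y hn hy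
  multiTwo := E.multiTwo
  multiQ := E.multiQ
  symTwo := symTwoH_of (fun G _ _ S P h => (hF G S P h).toHyp) h2 E.light
  symBig := E.symBig
  symMany := E.symMany

theorem caseLP_hypF (G : Type u) [Group G] [Finite G] (S : Sylow 2 G) (P : Subgroup G) (h : CaseLP G S P) :
    HypF S P := CaseL.hypF h

theorem fiveP_hypF (G : Type u) [Group G] [Finite G] (S : Sylow 2 G) (P : Subgroup G) (h : FiveP G S P) :
    HypF S P := by
  obtain ⟨h1, ⟨F, hw⟩, -, -⟩ := h
  exact { toHypN := hw.toHypC.hypN h1.par h1.nonLoc, four := fun Q hQ => hw.toHypC.four Q hQ.par hQ.nonLoc }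

/-- The data of `GamFive`. -/
theorem five_data {G : Type u} [Group G] [Finite G] {S : Sylow 2 G} {P F : Subgroup G} (h : WSt S P F)
    (hff : FFMod (S : Subgroup G) P)
    (hall : ∀ R, IsParS (S : Subgroup G) R → R ≤ normalizer (zl (S : Subgroup G) P : Set G))
    (hc : (∃ R, PSS (S : Subgroup G) R ∧
        zl (S : Subgroup G) (MZ (S : Subgroup G)) = zl (S : Subgroup G) R) ∨
      (¬ FFMod (S : Subgroup G) (MZ (S : Subgroup G)) ∧
        ¬ zl (S : Subgroup G) (MZ (S : Subgroup G)) ≤ o2 (CZ (S : Subgroup G)))) :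
    zl (S : Subgroup G) (MZ (S : Subgroup G)) = zl (S : Subgroup G) P ∧
      ∃ R, PSS (S : Subgroup G) R ∧ zl (S : Subgroup G) R = zl (S : Subgroup G) P := by
  have he : zl (S : Subgroup G) (MZ (S : Subgroup G)) = zl (S : Subgroup G) P := by
    refine le_antisymm (ZN.zl_le ZN.zc_le_zl (sSup_le fun R hR => hall R hR)) ?_
    exact ZN.zl_le ZN.zc_le_zl (le_trans (le_sSup h.par) (ZN.le_normalizer_zl _ _))
  refine ⟨he, ?_⟩
  rcases hc with ⟨R, hR, hRe⟩ | ⟨h1, -⟩
  · exact ⟨R, hR, hRe.symm.trans he⟩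
  · refine absurd ?_ h1
    obtain ⟨A, hA, hAo⟩ := hff
    exact ⟨A, hA, by rw [he]; exact hAo⟩

/-- **`GammaFF` from the ends in the case (L).** -/
theorem gammaFF_of_caseL (hE : Ends K CaseLP) (h1 : FOneB K) (h1' : OneB K) (h3 : MidBF K) (h4 : FarBF K)
    (h5 : NOThreeL.Merge.NotFFG K) (h6 : GamG K) : GammaFF K := by
  intro G _ _ hK S h hV
  have hff : ∀ P, PSS (S : Subgroup G) P → FFMod (S : Subgroup G) P := fun P hP => (hV P hP).2
  rcases cut' h hff (fun P hP => (hV P hP).1) with ⟨P, hP⟩ | hG | ⟨P, F, hw, hc⟩ | ⟨w, hn, R, hR, he⟩ | ⟨P, hP⟩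
  · exact hE.known (redAll_caseL hE.red) h1 h1' h3 h4 hK (H := CaseLP) hP hP.hypF (hP.ff P hP.pss)
  · exact h5 G hK S _ hG
  · by_cases hr : ∀ R F' : Subgroup G, WSt S R F' → zc (S : Subgroup G) ⊓ centralizer (R : Set G) ≠ ⊥
    · exact GamRU.gamRad K G hK S P F hw hr
    · push Not at hr
      obtain ⟨P', F', hw', hz⟩ := hr
      rcases GamRU.gamUniq K G hK S P' F' hw' hz with ⟨hfP, hall⟩ | hk
      · obtain ⟨he, hR⟩ := five_data hw' hfP hall hc
        exact SFive.gamFive K G hK S P' F' hw' hz hfP hall he hR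
      · exact hk
  · exact (NO3b.CTwoFF.ctwo w hn hR he).elim
  · exact h6 G hK S P hP

end Cfsg.Agent.Omega.NO3S
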