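import Cfsg.Agent.Omega.Node.NO3S
import Cfsg.Agent.Omega.NO3S.FF
import Cfsg.Agent.Omega.NO3S.TwoOne.Main
import Cfsg.Agent.Omega.NO3S.OneLine.Socket
import Cfsg.Agent.Omega.NO3S.OneQ
import Cfsg.Agent.Omega.TitsIso.MainIso
import Cfsg.Agent.Omega.ML.Final
import Cfsg.Agent.WeakTI.FlatBorel
import Cfsg.Agent.Omega.KL.Quo
import Cfsg.Agent.Omega.ML.Ex.Known
import Cfsg.Agent.Omega.ML.Ex.Two

/-!
# The leaf NO-3S: the inputs which are still open

`Open K` = the inputs of `NO3S.In K` (`Node/NO3S.lean`) which are not yet proved; `Open.toIn`, `Open.node`.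
Plugged: the FF theorem (`FF/GlobEnd.lean`, helper645), TITS-ISO (`TitsIso/MainIso.lean`, helper303, 55),
`UniqQ` (`NO3S/OneLine/Socket.lean`, helper109, 44), `TwoOneFin` cut into (F1), `FitP`, `CompP`
(`NO3S/TwoOne/Main.lean`, helper391), `OneQ` cut down to `OneSz` (`W / Z` natural for `Sz(q)`; `NO3S/OneQ.lean`,
helper606, 279, 452, 792) modulo `Landed` (Bender, S1144: theorems with a large import closure).
-/

set_option autoImplicit false

namespace Cfsg.Agent.Omega.NO3S

open Cfsg Cfsg.Agent.Omega.Frame Cfsg.Agent.Omega.FrameNOFF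

universe u

theorem titsIso : TitsIso.{u} := fun _ _ _ _ hG _ _ h => TitsIso.MainIso.isoTits h hG

theorem uniqQ {K : Cls.{u}} : UniqQ K := OneLine.uniqQ FF.Glob.ffthm

/-- Landed theorems with a large import closure (to be plugged with `S0000`). -/
structure Landed : Prop where
  /-- `fun Y _ _ => StrongEmb.Main.bender Y` -/
  bender : RootLemma.Bender.{u}
  /-- `S1144.result` -/
  s1144 : Exits.St1144.{u}
  /-- `S1762.result` -/
  s1762 : Exits.St1762.{u}
  /-- (ML) for K-groups: `ML.KnownAll.mlk` -/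
  mlk : ML.Final.MLK.{u, u}
  /-- Aschbacher's criterion (S1175) -/
  crit : Cfsg.Agent.WeakTI.FlatBorel.CritAll.{u}
  /-- Bender's theorem for simple groups -/
  benderS : Frame.Bender.{u}
  /-- THEOREM KL: `KL.NoInp.noInp` -/
  noInp : KL.Quo.NoInp.{u, u}
  /-- the K-list for exact subgroups: `ML.Ex.KnownDone.rows` -/
  rows : ML.Ex.RowsX.{u, u}
  /-- the common exact end -/
  ext : ML.Ex.Two.Ext.{u, u}

/-- The open inputs of the leaf. -/
structure Open (K : Cls.{u}) : Prop where
  twoFar : TwoFar K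
  twoMid : TwoMid K
  fOneP : TwoOne.FOneP K
  fitP : TwoOne.FitP K
  compP : TwoOne.CompP K
  fld : Fld K
  farQ : FarQ K
  midQ : MidQ K
  oneSz : OneSz K
  multiTwo : MultiTwo K
  multiQ : MultiQ K
  symTwo : SymTwo K
  symBig : SymBig K
  symMany : SymMany K
  notFF : NotFF K
  ffJ : FFJ K

variable {K : Cls.{u}}

theorem Open.toIn (L : Landed.{u}) (I : Open K) : In K where
  ff := FF.Glob.ffthm
  twoFar := I.twoFar
  twoMid := I.twoMid
  twoOneFin := TwoOne.twoOneFin I.fOneP I.fitP I.compP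
  titsIso := titsIso
  fld := I.fld
  uniqQ := uniqQ
  farQ := I.farQ
  midQ := I.midQ
  oneQ := oneQ L.bender L.s1144 I.oneSz
  multiTwo := I.multiTwo
  multiQ := I.multiQ
  symTwo := I.symTwo
  symBig := I.symBig
  symMany := I.symMany
  notFF := I.notFF
  ffJ := I.ffJ

/-- **The leaf NO-3S from its open inputs.** -/
theorem Open.node (L : Landed.{u}) (I : Open K) : NodeNO3S K := (I.toIn L).node

/-- The target "EXIT N2" of case FF from its open inputs. -/
theorem two_of (h1 : TwoFar K) (h2 : TwoMid K) (h3 : TwoOne.FOneP K) (h4 : TwoOne.FitP K)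
    (h5 : TwoOne.CompP K) : Two K :=
  two h1 h2 (twoOne (TwoOne.twoOneFin h3 h4 h5) titsIso)

end Cfsg.Agent.Omega.NO3S
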