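import Cfsg.Agent.Omega.Node.NoWFiveLin
import Cfsg.Agent.Omega.OM.LowT.LinGen

/-!
# NoW for one `S₅`, case (L), finite stage: (LIN)

`linH_sym` : `SymL`, `Y` over `B` with the maximality in the form `hYb` ⊢ `LinH S P B Y j`;
**`linH_five`** : for `WdF`, `MxF` and `¬ lev S j ≤ O₂(Y)`; `linH_zero` : `j = 0`, `¬ J(S) ≤ O₂(Y)`.
-/

set_option autoImplicit false
set_option linter.unusedSectionVars false

namespace Cfsg.Agent.Omega.Node.NoWFiveLin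

open Subgroup Cfsg Cfsg.Agent.ZN.ChoiceBase
open Cfsg.Agent.ZN.ChoiceSit (Syl)
open Cfsg.Agent.ZN (jj zc zl o2)
open Cfsg.Agent.MinSimple.MinParabolic (IsMinPar)
open Cfsg.Agent.Omega.NO3S.Level (nxt CaseL lev lev_wc)
open Cfsg.Agent.Omega.NTwo
open Cfsg.Agent.Omega.Node.MulX (SymL)
open Cfsg.Agent.Omega.Node.NoWFiveSel
open Cfsg.Agent.Omega.OM
open Cfsg.Agent.Omega.OM.SWT (Ln nL BT ZT)
open Cfsg.Agent.Omega.OM.LowT (LinH)

universe u

variable {G : Type u} [Group G] [Finite G] {S : Sylow 2 G} {P B ZJ : Subgroup G} {ι : Type}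
  {L W Z C A : ι → Subgroup G} {k m : ℕ} {p : Fin 5 → G} {Y : Subgroup G}

/-- **(LIN)** for `SymL`. -/
theorem linH_sym (h : SymL S P B ZJ L W Z C A k m) (hT : Syl B Y) (hP : IsMinPar B Y)
    (hc : Y ⊓ centralizer (o2 Y : Set G) ≤ o2 Y) (hZ : ¬ Y ≤ centralizer (ZJ : Set G)) {j : ℕ}
    (hj : lev (S : Subgroup G) j ≤ o2 P) (hlow : ∀ i < j, lev (S : Subgroup G) i ≤ o2 Y)
    (hnj : ¬ lev (S : Subgroup G) j ≤ o2 Y)
    (hYb : ∀ R' : Subgroup G, IsMinPar B R' → R' ≤ Y → R' ≤ normalizer (LevB.BL (S : Subgroup G) j : Set G) →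
      R' ≤ normalizer (o2 P : Set G) ∨ R' ≤ centralizer (ZJ : Set G)) : LinH S P B Y j := by
  have := h.fin
  have hzB : zc B = ZJ := zc_B h
  have cl : CaseL S P := h.cl
  have eB : B = BT (nL cl) := h.eqB
  have eZ : ZJ = ZT (nL cl) := h.eZ
  have hl : Ln P (nL cl) L W Z C A 2 := lnS h
  clear h
  rw [← hzB] at hZ
  clear hzB
  subst eB eZ
  exact LowT.LinGen.linH_of hl rfl (fun g hg => cl.norm_o2_le hg) hT hP hc hZ hj hlow hnj hYb

/-- **(LIN)** for the weird `Y` with `|DX S P Y|` maximal. -/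
theorem linH_five (h : SymL S P B ZJ L W Z C A k m) (hw : WdF S P B ZJ p Y) (hmx : MxF S P B ZJ p Y) {j : ℕ}
    (hj : lev (S : Subgroup G) j ≤ o2 P) (hlow : ∀ i < j, lev (S : Subgroup G) i ≤ o2 Y)
    (hnj : ¬ lev (S : Subgroup G) j ≤ o2 Y) : LinH S P B Y j :=
  linH_sym h hw.syl hw.min hw.c2 hw.mv hj hlow hnj (hYb_five h hw hmx hj hnj)

/-- **(LIN)**, `J(S) ≰ O₂(Y)`. -/
theorem linH_zero (h : SymL S P B ZJ L W Z C A k m) (hw : WdF S P B ZJ p Y) (hmx : MxF S P B ZJ p Y)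
    (hnj : ¬ jj (S : Subgroup G) ≤ o2 Y) : LinH S P B Y 0 :=
  linH_five h hw hmx (j := 0) (h.cl.hj P h.cl.pss.par) (fun i hi => absurd hi (Nat.not_lt_zero i)) hnj

end Cfsg.Agent.Omega.Node.NoWFiveLin
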