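import Cfsg.Agent.Omega.Node.NoWFiveFin
import Cfsg.Agent.Omega.Node.NoWFiveLinH

/-!
# NoW for one `S₅`, case (L): the finite stage is void (`FinF K`)
-/

set_option autoImplicit false

namespace Cfsg.Agent.Omega.Node.NoWFiveFin

open Cfsg.Agent.Omega.Frame (Cls)
open Cfsg.Agent.Omega.Node.NoWFiveSel

universe u

/-- **`FinF K`** -/
theorem finF (K : Cls.{u}) : FinF K :=
  finF_of fun _ _ _ _ _ _ _ _ _ _ _ _ _ _ hM _ _ _ hw hm hJ => NoWFiveLin.linH_zero hM hw hm hJ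

end Cfsg.Agent.Omega.Node.NoWFiveFin
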