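import Cfsg.Agent.Omega.Node.NO3SOneB
import Cfsg.Agent.Omega.Node.NO3SGam
import Cfsg.Agent.Omega.Node.NO3SPlug
import Cfsg.Agent.Omega.Landed
import Cfsg.Agent.Omega.NO3S.Fit.Final
import Cfsg.Agent.Omega.NO3S.SN.Plug
import Cfsg.Agent.Omega.NO3S.Sym.Light
import Cfsg.Agent.Omega.NO3S.Fld.LEnd
import Cfsg.Agent.Omega.NO3S.TwoMid.FinalF
import Cfsg.Agent.Omega.NO3S.TwoOne.Final
import Cfsg.Agent.Omega.NO3S.TwoFar.FullNode
import Cfsg.Agent.Omega.NO3S.WZero.Landed
import Cfsg.Agent.Omega.NO3S.FarQ.Free.End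
import Cfsg.Agent.Omega.NO3S.MidB.Plug
import Cfsg.Agent.Omega.NO3S.OneQ.SzEnd
import Cfsg.Agent.Omega.NO3b.ExEnd.Final
import Cfsg.Agent.Omega.NO3b.EndX.AbsAll
import Cfsg.Agent.Omega.Node.CaseLPEnds
import Cfsg.Agent.Omega.ML.Ex.Lie2.Fin
import Cfsg.Agent.Omega.ML.Ex.RedFin
import Cfsg.Agent.Omega.ML.Ex.EndPlug
import Cfsg.Agent.Omega.NO3b.BasePt.Main
import Cfsg.Agent.Omega.NO3b.Seed.EndG
import Cfsg.Agent.Omega.NO3S.FullQ.PlugT
import Cfsg.Agent.Omega.FOne.ThmR.ToFs
import Cfsg.Agent.Omega.FOne.QR.Plug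
import Cfsg.Agent.Omega.Node.OmLevZ
import Cfsg.Agent.Omega.Node.MultiPlug
import Cfsg.Agent.Omega.EK3.GlueG
import Cfsg.Agent.Omega.EDel.PlugL
import Cfsg.Agent.Omega.EK3.Q.Main
import Cfsg.Agent.Omega.TC.NoLow
import Cfsg.Agent.Omega.NO3S.EThree.Row7Fin
import Cfsg.Agent.Omega.Node.CaseLPOpen
import Cfsg.Agent.Omega.OM.Lev.Low.TorusK.Done
import Cfsg.Agent.Omega.NO3S.CaseLW.LamQ.End
import Cfsg.Agent.Omega.LFive.FalseLF
import Cfsg.Agent.Omega.LFive.ELightOf
import Cfsg.Agent.Omega.Node.CaseLPX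
import Cfsg.Agent.Omega.NO3S.EThree.Row7J
import Cfsg.Agent.Omega.NO3S.WY.FinDone
import Cfsg.Agent.Omega.NO3S.WY.TorEndOf
import Cfsg.Agent.Omega.CaseLQ.TorFin
import Cfsg.Agent.Omega.EK3.QL.Fin
import Cfsg.Agent.Omega.Node.NoWFivePlug
import Cfsg.Agent.Omega.Node.NoWFiveDone
import Cfsg.Agent.Omega.Node.LightOf

/-!
# The leaf NO-3S: the inputs which are still open, with levels

`OpenL K` = what is missing of `InL K` (`Node/NO3SLevel.lean`); `OpenL.toInL`, `OpenL.node : Landed → OpenL K →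
NodeNO3S K`, `OpenL.toIn : Landed → OpenL K → In K` (the old structure; every field of it follows); `Landed` =
Bender and S1144 (`Node/NO3SPlug.lean`: theorems with a large import closure).
Plugged: the FF theorem, TITS-ISO, `UniqQ` (helper109, 44), `FitP` (helper311, 568, 539, 885, ...), `CompP` (helper391
and others), THEOREM B (helper365), `RedL` (helper163, 240, 417, 973, 749, 427), `TwoMidF` (helper598 and others),
`TwoFarF` (helper292, 855, 460, 543 and others), `FarBF` (helper238, 404, 241, 961, 533, 49, 244 and others), `MidBF`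
(helper475, 426, 491, 831, 756, 42, 588, 864, 129, 49, 317 and others), (ML) (helper484, 721 and others), `SymTwoL` from the light case (helper237),
`OneB` (`OneSzBF`: helper846, 859, 46, 246, 482, 982, 248, 418 and others), `WF` (helper973, 471, 298, 391, 426, 543,
649, 983 and others), (F1), (Om) for the symmetric types (helper394, 590 and others), `NotFFG`, `GamG`, `GamRad`, `GamUniq`, `GamFive`,
the symmetric types but the light one (helper164, 787, 487, 647, 313 and others), (Om) for natural modules, (E) for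
`q = 2`, UNI+ (helper186, 584, 109, 646, 314, 236, 668, 607, 543, 472, 12, 548 and others), QW, LAMBDA.
-/

set_option autoImplicit false

namespace Cfsg.Agent.Omega.NO3S

open Subgroup Cfsg Cfsg.Agent.ZN Cfsg.Agent.Omega.MinPar Cfsg.Agent.Omega.Frame Cfsg.Agent.Omega.FrameNOFF

universe u

/-- `SymTwoL`, the light case: no Sylow 2-subgroup centralises `nn p`. Paper: helper215 #14965, 237 #16855, 872
#16764, 755 #16817. -/
def LightL (K : Cls.{u}) : Prop :=
  ∀ (G : Type u) [Group G] [Finite G], K G → ∀ (S : Sylow 2 G) (P : Subgroup G), HypL S P →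
    ∀ p : Fin 5 → G, Sym.Light.FiveL S P p → IsKnownSimple' G

/-- The open inputs of the leaf, with levels. -/
structure OpenL (K : Cls.{u}) : Prop where
  /-- case (L), natural, `q ≥ 4`: THEOREM L(q) -/
  offN : EK3.QL.OffNK K
  /-- case (L), `S₅`, light vectors not 2-central: a weird `Y` of the infinite stage -/
  torS : Node.NoWFivePlug.TorSOf K
  /-- case (L), `S₅`: the facts at `Y` -/
  y5 : Node.NoWFivePlug.Y5Of.{u}

variable {K : Cls.{u}}

theorem eLight_of (h : LightL K) : Node.SymOf.ELight K := fun G _ _ hK S P _ _ _ _ _ _ _ _ hM _ p hp =>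
  h G hK S P hM.hyp p hp

/-- `NO3S.Landed` from the landed inputs of the tree (`Omega/Landed.lean`). -/
theorem landed_of (L : Cfsg.Agent.Omega.Landed.Landed.{u}) : Landed.{u} :=
  ⟨L.benderAll, L.lib.s1144, L.lib.s1762, L.mlk, L.crit, L.lib.bender, L.noInp, L.rows, L.ext⟩

theorem fullTwo_of (h1 : TwoOne.FOneP K) (h2 : WTwo K) : FullTwo K := by
  intro G _ _ hK S P h hc n y hn hy
  obtain ⟨z, hz1⟩ := Subgroup.ne_bot_iff_exists_ne_one.1
    (MinSimple.Basic.zc_ne_bot S.isPGroup' (h.ctx.sylow_ne_bot S))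
  have hz1' : (z : G) ≠ 1 := fun e => hz1 (Subtype.ext e)
  rcases h1 G hK S P h hc z z.2 hz1' with h3 | h3
  · exact h2 G hK S P h hc z z.2 hz1' h3 n y hn hy
  · exact Or.inr h3

/-- **The pieces behind (F1)** (844 / 995 red, 441 / 484 rows, 993 / 721 / 72 Lie(2), 325, 848 and others). -/
theorem endPieces (L : Landed.{u}) : ML.Ex.EndPieces.{u, u, u} where
  red := ML.Ex.psRed L.mlk
  exit := fun _ _ _ _ _ _ _ _ _ _ hI hS => L.rows.exit hI hS
  lie2 := ML.Ex.Lie2.lie2
  u33 := ML.Ex.u33W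
  a6 := ML.Ex.a6W

/-- **(F1)**, `q = 2` (425, 396, 854, 728, 451, 721 and others). -/
theorem fOneP (L : Landed.{u}) : TwoOne.FOneP K := FOne.ThmR.fOneP L.mlk (endPieces L) K

/-- **(F1)**, `q ≥ 4` (241, 69, 232, 142 and others). -/
theorem fOneB (L : Landed.{u}) : FOneB K := FOne.QR.fOneB L.mlk (endPieces L)

/-- The world `W0` (`|V_P| = 4`) is void (helper56 #21024; 467, 124, 251, 180, 937, 292, 865, 692). -/
theorem fullTwo (L : Landed.{u}) : FullTwo K := fullTwo_of (fOneP L) (WZero.wTwo L.mlk)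

theorem twoFar_closed (L : Landed.{u}) : TwoFar K := twoFar_of (fullTwo L) (TwoFar.twoFarF L.mlk)

theorem twoMid_closed (L : Landed.{u}) : TwoMid K := twoMid_of (fullTwo L) (TwoMid.twoMidF L.mlk)

/-- **`CompP` is closed** (helper391, 204, 409, 881, 225, 311, 885, 396, 568, 867, 246, 982, 180, 918, 46). -/
theorem compP_closed (L : Landed.{u}) : TwoOne.CompP K := TwoOne.compP' L.s1762

/-- **The exit `Two`** is closed. -/
theorem two_closed (L : Landed.{u}) : Two K :=
  NO3S.two (twoFar_closed L) (twoMid_closed L)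
    (twoOne (TwoOne.twoOneFin (fOneP L) (Fit.fitP K) (compP_closed L)) titsIso)

theorem oneB_closed (L : Landed.{u}) : OneB K :=
  NO3S.oneB L.bender L.s1144 (oneSzB_of (fOneB L) (oneSzBF L.crit L.benderS))

/-- **`NotFFG` is closed** (NO-3S and NO-3L; helper506, 957, 255, 823, 96, 235, 811, 442 and others). -/
theorem notFFG_closed (L : Landed.{u}) : NOThreeL.Merge.NotFFG K :=
  NO3b.ExEnd.notFFG_of_absP L.mlk (NO3b.EndX.absP_all L.mlk L.rows) NO3b.BasePt.basePoint

/-- **(S4) is closed** (helper826, 759, 449, 459 and others). -/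
theorem gamG_closed (L : Landed.{u}) : GamG K := fun _ _ _ _ _ _ h => by
  obtain ⟨_, _, _, _, hb⟩ := h.exists_baseFlag
  exact (NO3b.ExEnd.baseFlag_false h.ctx L.mlk (NO3b.EndX.absP_all L.mlk L.rows) hb).elim

/-- **(E) for `S₅`, light vectors not 2-central** (helper693, 736, 411, 237, 904, 286, 337, 433, 586, 604, 457 and
others). -/
theorem eLight (L : Landed.{u}) : Node.SymOf.ELight K := LFive.eLight_of (LFive.falseLF L.mlk L.ext)

theorem noWX : EThree.Row7X.NoWX K := fun G _ _ hK S P B ZJ L W Z C A q hq hM _ _ =>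
  Node.CaseLPX.noWQ K G hK S P B ZJ 2 L W Z C A q le_rfl hq hM 1

/-- **No weird `Y ≤ C_G(Z_l : l ≠ j)`**, natural, `q = 2` (helper388, 186, 808, 366, 605, 459, 425, 602, 619, 922, 474,
839, 150, 613, 822, 312 and others). -/
theorem noW : Node.MulXTwo.NoW K :=
  WY.Sel.noW_of WY.FinOf.finP (WY.InfOf.infP_of CaseLQ.TorFin.torOf (WY.InfOf.torEnd K))

/-- The case (L) of GammaFF. -/
theorem OpenL.caseOp (L : Landed.{u}) (I : OpenL K) : Node.CaseLPOpen.CaseOp K where
  noW := noW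
  lamQ := CaseLW.LamQ.lamHQ K
  eTwoQ := EThree.Row7J.eX L.mlk L.ext (EK3.QL.tiX L.mlk L.ext I.offN) noWX
  eManyQ := Node.CaseLPX.eManyQ_of L.mlk L.ext (EK3.QL.tiWX L.mlk L.ext I.offN)
  light := LFive.elx_of (LFive.falseLF L.mlk L.ext)
    (Node.NoWFivePlug.noWFive (Node.NoWFiveFin.finF K) I.torS I.y5)

theorem OpenL.toInL (L : Landed.{u}) (I : OpenL K) : InL K where
  two := two_closed L
  redL := Fld.redL_all K
  fullB := fullB_of (fOneB L) (FullQ.wB L.mlk)
  farBF := FarQ.Free.farBF L.mlk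
  midBF := MidB.midBF' L.mlk
  oneB := oneB_closed L
  multiTwoL := Node.MultiPlug.two_of L.mlk L.noInp TC.UniLev.uniLev OM.Lev.Low.TorusK.Done.uniLevK (EK3.eEndK_of L.mlk L.noInp K)
  multiQL := Node.MultiPlug.q_of (EThree.Row7.row7 L.mlk L.ext) (EK3.Q.Tree.eOf L.mlk L.ext K)
  symTwoL := Node.SymOf.symTwoL_of_light (two_closed L) Node.OmLevZ.omS_two (eLight L)
  symBigL := EDel.PlugL.symBigL L.mlk
  symManyL := EDel.PlugL.symManyL L.mlk
  notFFG := notFFG_closed L
  gammaFF := gammaFF_of_caseL (((I.caseOp L).caseIn L.mlk L.noInp).ends (two_closed L) (FullQ.wF L.mlk)) (fOneB L) (oneB_closed L)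
    (MidB.midBF' L.mlk) (FarQ.Free.farBF L.mlk) (notFFG_closed L) (gamG_closed L)

/-- **The leaf NO-3S from its open inputs.** -/
theorem OpenL.node (L : Landed.{u}) (I : OpenL K) : NodeNO3S K := (I.toInL L).node

/-- The old structure. -/
theorem OpenL.toIn (L : Landed.{u}) (I : OpenL K) : In K where
  ff := FF.Glob.ffthm
  twoFar := twoFar_closed L
  twoMid := twoMid_closed L
  twoOneFin := TwoOne.twoOneFin (fOneP L) (Fit.fitP K) (compP_closed L)
  titsIso := titsIso
  fld := fun _ _ _ hK _ _ h _ _ _ _ _ _ _ => (I.toInL L).known_of_hypJ hK h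
  uniqQ := uniqQ
  farQ := fun _ _ _ hK _ _ h _ _ _ _ _ _ _ _ _ _ _ _ => (I.toInL L).known_of_hypJ hK h
  midQ := fun _ _ _ hK _ _ h _ _ _ _ _ _ _ _ _ _ => (I.toInL L).known_of_hypJ hK h
  oneQ := fun _ _ _ hK _ _ h _ _ _ _ _ _ _ _ _ _ => (I.toInL L).known_of_hypJ hK h
  multiTwo := fun _ _ _ hK _ _ h _ _ _ _ _ _ _ _ => (I.toInL L).known_of_hypJ hK h
  multiQ := fun _ _ _ hK _ _ h _ _ _ _ _ _ _ _ => (I.toInL L).known_of_hypJ hK h
  symTwo := fun _ _ _ hK _ _ h _ => (I.toInL L).known_of_hypJ hK h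
  symBig := fun _ _ _ hK _ _ h _ _ _ => (I.toInL L).known_of_hypJ hK h
  symMany := fun _ _ _ hK _ _ h _ _ _ _ _ => (I.toInL L).known_of_hypJ hK h
  notFF := NOThreeL.Merge.notFF_of (notFFG_closed L)
  ffJ := fun _ _ _ hK S _ h _ _ _ => (I.toInL L).jc _ hK S h

end Cfsg.Agent.Omega.NO3S
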