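import Cfsg.Agent.Omega.Node.NoWPlug

/-!
`MulXTwo.NoW K` is `Cfsg.Agent.Omega.Node.NoWPlug.noW` (in `NoWPlug.lean`).
-/
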