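import Cfsg.Agent.Omega.Node.NoWFivePlug
import Cfsg.Agent.Omega.Node.NoWFiveFin
import Cfsg.Agent.Omega.Node.NoWFiveLinH
import Cfsg.Agent.Omega.LFive.ELXEnd
import Cfsg.Agent.Omega.LFive.FalseLF

/-!
# NoW for one `S₅`, case (L): the finite stage is closed; `ELX K` from `TorSOf K` and `Y5Of`
-/

set_option autoImplicit false

namespace Cfsg.Agent.Omega.Node.NoWFivePlug

open Cfsg.Agent.Omega.Frame (Cls)
open Cfsg.Agent.Omega.Node.ELXUni (NoWFive)
open Cfsg.Agent.Omega.Node.NoWFiveSel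

universe u

/-- **the finite stage** -/
theorem finF {K : Cls.{u}} : FinF K :=
  NoWFiveFin.finF_of fun _ _ _ _ _ _ _ _ _ _ _ _ _ _ hM _ _ _ hw hm hJ => NoWFiveLin.linH_zero hM hw hm hJ

/-- **`NoWFive K`** from `TorSOf K` and `Y5Of` -/
theorem noWFive_of_tor {K : Cls.{u}} (hT : TorSOf K) (hY : Y5Of.{u}) : NoWFive K := noWFive finF hT hY

/-- **`ELX K`** from `TorSOf K` and `Y5Of` -/
theorem elx_of_tor {K : Cls.{u}} (hML : ML.Final.MLK.{u, u}) (hE : ML.Ex.Two.Ext.{u, u}) (hT : TorSOf K)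
    (hY : Y5Of.{u}) : Node.CaseLPEnds.ELX K :=
  LFive.elx_of (LFive.falseLF hML hE) (noWFive_of_tor hT hY)

end Cfsg.Agent.Omega.Node.NoWFivePlug
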