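import Cfsg.Agent.Omega.Node.NoWFiveElx
import Cfsg.Agent.Omega.CaseLQ.FiveTor
import Cfsg.Agent.Omega.NO3S.WY.Tor.SFiveY
import Cfsg.Agent.Omega.NO3S.WY.Tor.SFiveM
import Cfsg.Agent.Omega.NO3S.WY.Tor.SFiveKE
import Cfsg.Agent.Omega.NO3S.WY.Tor.SFiveSyl

/-!
# NoW for one `S₅`, case (L) : closed
-/

set_option autoImplicit false

namespace Cfsg.Agent.Omega.Node.NoWFiveEnd

open Cfsg.Agent.Omega.Frame (Cls)
open Cfsg.Agent.Omega.Node.ELXUni (NoWFive)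
open Cfsg.Agent.Omega.Node.NoWFivePlug
open Cfsg.Agent.Omega.NO3S.WY.Tor

universe u

/-- `Y5Of` -/
theorem y5Of : Y5Of.{u} := by
  intro G _ _ S P p Y t
  obtain ⟨F, _, _, _, N, f4, hl, hu⟩ := t.nat
  have h24 := SFiveI.W_V0 t (SFiveI.mem24 t N f4 hl hu)
  have K0 := t.K0
  exact SFiveI.y5_of t N f4 hl hu K0 (t.KE_of h24 K0) (t.syl_of N hl (fun _ hd => SFiveI.cv_eq t N f4 hl hu hd) h24 K0)

/-- **`NoWFive K`** -/
theorem noWFive (K : Cls.{u}) : NoWFive K := noWFive_of_tor CaseLQ.FiveI.torSOf y5Of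

/-- **`ELX K`** -/
theorem elx (hML : ML.Final.MLK.{u, u}) (hE : ML.Ex.Two.Ext.{u, u}) (K : Cls.{u}) : Node.CaseLPEnds.ELX K :=
  elx_of_tor hML hE CaseLQ.FiveI.torSOf y5Of

end Cfsg.Agent.Omega.Node.NoWFiveEnd
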