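import Cfsg.Agent.Omega.NO3S.WY.FinDone
import Cfsg.Agent.Omega.NO3S.WY.TorEndOf
import Cfsg.Agent.Omega.CaseLQ.TorFin

/-!
# `MulXTwo.NoW K`

* **`noW (K) : MulXTwo.NoW K`** : no weird minimal parabolic over `B` in the case (L), natural blocks, `q = 2`.
-/

set_option autoImplicit false

namespace Cfsg.Agent.Omega.Node.NoWPlug

open Cfsg.Agent.Omega.Frame (Cls)
open Cfsg.Agent.Omega.NO3S.WY
open Cfsg.Agent.Omega.Node.MulXTwo (NoW)

universe u

/-- the infinite stage -/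
theorem infP (K : Cls.{u}) : Sel.InfP K := InfOf.infP_of CaseLQ.TorFin.torOf (InfOf.torEnd K)

/-- **`NoW`** -/
theorem noW (K : Cls.{u}) : NoW K := Sel.noW_of FinOf.finP (infP K)

end Cfsg.Agent.Omega.Node.NoWPlug
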