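import Cfsg.Agent.Omega.OM.SwapT.QuietL
import Cfsg.Agent.Omega.NO3S.WY.Exact
import Cfsg.Agent.Omega.Node.OmTopQM
import Cfsg.Agent.Omega.ML.Final

/-!
# (Om) over the case (L): OffW from THEOREM QW

* `QWH` : THEOREM QW as a socket (helper866's `offW`);
* `offW_of` : `QuietL.OffW S P M`;
* `offC_of` : `SWT.OffC h M (CZ S)`; `offQ_of : QWH → MLK → OmTopQ.OffQ K`; `offHQ_of : QWH → MLK → OmTopQ.OffHQ K`.
-/

set_option autoImplicit false

namespace Cfsg.Agent.Omega.Node.QWEnd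

open Subgroup Cfsg Cfsg.Agent.ZN.ChoiceBase Cfsg.Agent.ZN.ChoiceSit
open Cfsg.Agent.ZN (jj zj bau zc zl o2)
open Cfsg.Agent.Omega.MinPar (IsLoc)
open Cfsg.Agent.MinSimple.MinParabolic (IsMinPar)
open Cfsg.Agent.MinSimple.VModule (oddGen oddGen_le)
open Cfsg.Agent.Omega.NO1.BestOff (Best)
open Cfsg.Agent.Omega.NO3S.Level (nxt Lev lim CaseL)
open Cfsg.Agent.Omega.NO3S.WY (WQ ZJ BB)
open Cfsg.Agent.Omega.NO3b.EZero (cl)
open Cfsg.Agent.Omega.FrameNOFF (CZ)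
open Cfsg.Agent.Omega.Frame (Cls Ctx)
open Cfsg.Agent.Omega.ML.Final (MLK)
open Cfsg.Agent.Omega.OM.LevD (LB)
open Cfsg.Agent.Omega.OM.Lev.Uni (FrL)
open Cfsg.Agent.Omega.OM.SwapT (ZT BT lb)
open Cfsg.Agent.Omega.OM.SwapT.QuietL (OffW)
open Cfsg.Agent.Omega.OM.SwapK (VF)
open Cfsg.Agent.Omega.OM.LevB (FBlk)
open Cfsg.Agent.Omega.OM.SWT (nL OffC exists_fblk)
open Cfsg.Agent.Omega.Node.OmTopQ (OmC)
open Cfsg.Agent.Omega.Node.MulX
open Cfsg.Agent.Omega.OM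

universe u

/-- **THEOREM QW**, as a socket. -/
def QWH : Prop :=
  ∀ (G : Type u) [Group G] [Finite G] (S : Sylow 2 G) (P T Y M : Subgroup G) (ι : Type) [Finite ι]
    (L W Z C A : ι → Subgroup G) (q : ℕ), WQ S P T Y → BB (S : Subgroup G) P ≤ T → Y ≤ CZ (S : Subgroup G) →
      IsLoc (S : Subgroup G) M → P ≤ M → centralizer (ZJ (S : Subgroup G) P : Set G) ≤ M →
      ¬ oddGen Y ≤ centralizer (ZJ (S : Subgroup G) P : Set G) →
      FrL (BB (S : Subgroup G) P) (o2 P) (zl (S : Subgroup G) P) (zl (S : Subgroup G) P) (ZJ (S : Subgroup G) P)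
        L W Z C A q → (∀ i : ι, ∃ j, j ≠ i) → MLK.{u, u} → IsKGroup M →
        ∃ A, A ≤ T ∧ Best (cl (zl (S : Subgroup G) P) Y) A ∧ ¬ A ≤ o2 Y

section one

variable {G : Type u} [Group G] [Finite G] {S : Sylow 2 G} {P M : Subgroup G}

/-- a 2-local over `S` is a `K`-group -/
theorem isKGroup (hG : Ctx G) (h : IsLoc (S : Subgroup G) M) : IsKGroup M := by
  have := hG.simple
  exact hG.kproper _ (h.ne_top S hG.not_isPGroup)

variable {ι : Type} [Finite ι] {L W Z C A : ι → Subgroup G} {q : ℕ}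

/-- **OffW** -/
theorem offW_of (hQ : QWH.{u}) (ml : MLK.{u, u}) (h : CaseL S P)
    (fr : FrL (BT (S : Subgroup G) (o2 P)) (o2 P) (zl (S : Subgroup G) P) (zl (S : Subgroup G) P)
      (ZT (S : Subgroup G) (o2 P)) L W Z C A q) (two : ∀ i : ι, ∃ j, j ≠ i) (hM : IsLoc (S : Subgroup G) M)
    (hP : P ≤ M) (hZ : centralizer (ZT (S : Subgroup G) (o2 P) : Set G) ≤ M) : OffW S P M := by
  intro T Y hw hB _ hY hn
  refine hQ G S P T Y M ι L W Z C A q hw hB hY hM hP hZ (fun hc => hn ?_) fr two ml (isKGroup h.ctx hM)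
  rw [← OM.Dich.oddGen_sup_syl hw.syl]
  exact sup_le (hc.trans hZ) (hw.TS.trans hM.le)

/-- **OffW** over the ground frame `Lt` -/
theorem offW_lt (hQ : QWH.{u}) (ml : MLK.{u, u}) (h : CaseL S P)
    (hL : OM.SwapT.Lt S P (o2 P) L W Z C A q) (hM : IsLoc (S : Subgroup G) M)
    (hP : P ≤ M) (hZ : centralizer (ZT (S : Subgroup G) (o2 P) : Set G) ≤ M) : OffW S P M := by
  have hfr := hL.fr
  rw [h.zc_eq] at hfr
  exact offW_of hQ ml h hfr hL.two hM hP hZ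

/-- **OffC** -/
theorem offC_of (h : CaseL S P) (ho : OffW S P M) (hSM : (S : Subgroup G) ≤ M)
    (hD : centralizer (zl (S : Subgroup G) P : Set G) ≤ M)
    (hN : normalizer (BT (S : Subgroup G) (o2 P) : Set G) ≤ M) : OffC h M (CZ (S : Subgroup G)) :=
  fun _ _ hq hl hn => ho.gen h hSM hD hN hq.syl hq.BT hq.syl.2.1 le_rfl hq.min hq.char2 hl hn hq.quiet hq.nM

end one

section nat

variable {G : Type u} [Group G] [Finite G] {S : Sylow 2 G} {P B ZJ : Subgroup G} {k : ℕ}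
  {L W Z C A : Fin k → Subgroup G} {q : ℕ}

/-- **OffC in the situation (Om)**, every `q` -/
theorem offC_of_omC (hQ : QWH.{u}) (ml : MLK.{u, u}) (h : OmC S P B ZJ L W Z C A q) :
    OffC h.mul.cl (normalizer (o2 (KX B ZJ (zl (S : Subgroup G) P)) : Set G)) (CZ (S : Subgroup G)) := by
  have hcl := h.mul.cl
  set X : Subgroup G := normalizer (o2 (KX B ZJ (zl (S : Subgroup G) P)) : Set G) with hX
  have eB : B = BT (S : Subgroup G) (o2 P) := h.mul.eqB
  have eZ : ZJ = ZT (S : Subgroup G) (o2 P) := h.mul.eZ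
  have hZV : ZT (S : Subgroup G) (o2 P) ≤ zl (S : Subgroup G) P := by rw [← eZ]; exact h.mul.fr.ZJV
  have hKX : KX B ZJ (zl (S : Subgroup G) P) ≤ X := le_sup_left.trans h.le
  have hN : normalizer (BT (S : Subgroup G) (o2 P) : Set G) ≤ X := by rw [← eB]; exact le_sup_right.trans h.le
  have hD : centralizer (ZT (S : Subgroup G) (o2 P) : Set G) ≤ X := by rw [← eZ]; exact cent_le.trans hKX
  have hSX : (S : Subgroup G) ≤ X := OM.SwapT.QuietL.S_le hcl.wc hN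
  have hP : P ≤ X := by
    have hst := hcl.hypN.star
    obtain ⟨L₁, V₁, -, h2, h3, h4⟩ := exists_fblk hcl hZV hcl.hypN.toHyp.syl (SWT.lb (nL hcl)).BS hst.toIsMinPar
      (hst.isLoc.char2 S hcl.ctx.char2) le_rfl (MulG.top_caseL hcl).nxt
      (fun hc => hst.not_zc (hc.trans (centralizer_le_normalizer _)))
    refine h4.trans (sup_le hSX ?_)
    have h5 : FBlk B L₁ V₁ := by rw [eB]; exact h2
    exact (blk_le ⟨⟨h5.fb, h5.blk⟩, h3⟩).trans hKX
  have hM : IsLoc (S : Subgroup G) X := MinPar.isLoc_normalizer S (isPGroup_o2 _) h.ne hSX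
  have hfr := h.mul.fr
  rw [eB, eZ] at hfr
  refine offC_of hcl (offW_of hQ ml hcl hfr (fun i => ?_) hM hP hD) hSX
    ((centralizer_le (by exact_mod_cast hZV)).trans hD) hN
  have : Fact (1 < k) := ⟨h.k2⟩
  have : Nontrivial (Fin k) := Fin.nontrivial_iff_two_le.2 h.k2
  exact exists_ne i

end nat

/-- **OffQ** -/
theorem offQ_of {K : Cls.{u}} (hQ : QWH.{u}) (ml : MLK.{u, u}) : OmTopQ.OffQ K :=
  fun _ _ _ _ _ _ _ _ _ _ _ _ _ _ _ _ h => offC_of_omC hQ ml h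

/-- **OffHQ** -/
theorem offHQ_of {K : Cls.{u}} (hQ : QWH.{u}) (ml : MLK.{u, u}) : OmTopQ.OffHQ K := by
  intro G _ _ _ S P B ZJ k L W Z C A q hk _ h M hM hP hZ _
  have hfr := h.fr
  rw [h.eqB, h.eZ] at hfr
  rw [h.eZ] at hZ
  refine offW_of hQ ml h.cl hfr (fun i => ?_) hM hP hZ
  have : Nontrivial (Fin k) := Fin.nontrivial_iff_two_le.2 hk
  exact exists_ne i

end Cfsg.Agent.Omega.Node.QWEnd
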