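import Cfsg.Agent.Omega.Node.LamHOf
import Cfsg.Agent.Omega.Node.QWEnd

/-!
# (Om) over the case (L), `q = 2`, natural and symmetric types, from THEOREM QW

* `offH_of_qw : QWH → MLK → OffH K`;
* `omX_of_qw : QWH → MLK → OmX K (fun _ q => q = 2)`, `omSX_of_qw : QWH → MLK → OmSX K (fun _ _ => True)`.
-/

set_option autoImplicit false

namespace Cfsg.Agent.Omega.Node.OffHOf

open Subgroup Cfsg
open Cfsg.Agent.Omega.Frame (Cls)
open Cfsg.Agent.Omega.ML.Final (MLK)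
open Cfsg.Agent.Omega.Node.MulX (OmX OmSX)
open Cfsg.Agent.Omega.Node.QWEnd (QWH)
open Cfsg.Agent.Omega.Node.OmXOf (OffH)

universe u

/-- **OffH** -/
theorem offH_of_qw {K : Cls.{u}} (hQ : QWH.{u}) (ml : MLK.{u, u}) : OffH K :=
  fun _ _ _ _ _ _ _ _ _ _ _ _ _ hF _ hM =>
    QWEnd.offW_lt hQ ml hF.cl hF.lt hM.loc hM.P_le hM.D_le

/-- **(Om)**, case (L), natural blocks, `q = 2`, from THEOREM QW. -/
theorem omX_of_qw {K : Cls.{u}} (hQ : QWH.{u}) (ml : MLK.{u, u}) : OmX K fun _ q => q = 2 :=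
  OmXOf.omX_of_off (offH_of_qw hQ ml)

/-- **(Om)**, case (L), symmetric blocks, from THEOREM QW. -/
theorem omSX_of_qw {K : Cls.{u}} (hQ : QWH.{u}) (ml : MLK.{u, u}) : OmSX K fun _ _ => True :=
  OmXOf.omSX_of_off (offH_of_qw hQ ml)

end Cfsg.Agent.Omega.Node.OffHOf
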