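import Cfsg.Agent.Omega.OM.SWQ.CaseOne
import Cfsg.Agent.Omega.OM.SWQ.CaseTwoEnd
import Cfsg.Agent.Omega.OM.SwapL.BG
import Cfsg.Agent.Omega.OM.Lev.Low.LowMain
import Cfsg.Agent.Omega.Node.MultiOf

/-!
# THEOREM SWQ (#21705): (Om) is impossible at stage `n ≥ 0`, `q ≥ 4`

* `FourStmt` : `q = 4`, the case in which `T` normalises all `Z i` (helper87);
* `le_of_char2Q` : every subgroup of characteristic 2 over `B` is contained in every `X ≥ C_G(Z_J), L_i, N_G(B)`;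
* `nlocQ` : `K0` normalises no nontrivial 2-subgroup;
* `omLev_q` : the socket `MultiOf.OmLev K (fun _ q => 4 ≤ q)`.
-/

set_option autoImplicit false

namespace Cfsg.Agent.Omega.Node.OmLevFour

open Subgroup Cfsg Cfsg.Agent.ZN.ChoiceBase Cfsg.Agent.ZN.ChoiceSit
open Cfsg.Agent.ZN (jj zj bau zc zl o2)
open Cfsg.Agent.Omega.NO3S (HypN HypL)
open Cfsg.Agent.Omega.NO3S.Level (lev)
open Cfsg.Agent.Omega.NO3S.OneLine (NatC)
open Cfsg.Agent.Omega.FFThm (NatK NatKM)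
open Cfsg.Agent.Omega.FrameFF (cv)
open Cfsg.Agent.Omega.Frame (Cls)
open Cfsg.Agent.Omega.OM
open Cfsg.Agent.Omega.OM.LevD (Fam)
open Cfsg.Agent.Omega.OM.LevB (FBlk)
open Cfsg.Agent.Omega.OM.SwapL (BL ZL Ln BM BG lb Phi Pair)
open Cfsg.Agent.Omega.OM.SWQ (DtL Sel exists_dtl exists_sel phi_univ)
open Cfsg.Agent.Omega.Node.MultiOf (FBl KZ NLoc OmLev)

universe u

/-- the case `q = 4`, `T` normalises all `Z i` (helper87: `DtL.case_four`) -/
def FourStmt : Prop :=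
  ∀ (G : Type u) [Group G] [Finite G] (S : Sylow 2 G) (P : Subgroup G) (n : ℕ) (F : Type) [Field F] [Finite F]
    [CharP F 2] (k : ℕ) (M : NatC F (S : Subgroup G) P (zl (S : Subgroup G) P) (cv (S : Subgroup G) P) k)
    (L Z A : Fin k → Subgroup G) (D : DtL S P n M L Z A) (X T Y : Subgroup G), Sel D X T Y → P ≤ X →
      centralizer (ZL (S : Subgroup G) n : Set G) ≤ X → normalizer (BL (S : Subgroup G) n : Set G) ≤ X →
      (∀ i, i ∈ Phi Z T) → Nat.card F = 4 → False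

section line

variable {G : Type u} [Group G] [Finite G] {S : Sylow 2 G} {P : Subgroup G} {n : ℕ} {F : Type} [Field F] [Finite F]
  [CharP F 2] {k : ℕ} {M : NatC F (S : Subgroup G) P (zl (S : Subgroup G) P) (cv (S : Subgroup G) P) k}
  {L Z A : Fin k → Subgroup G}

/-- **THEOREM SWQ.** -/
theorem le_of_char2Q (h4 : FourStmt.{u}) (D : DtL S P n M L Z A) (hq : 4 ≤ Nat.card F) {X H : Subgroup G}
    (hBM : BM S n X) (hLM : ∀ i, L i ≤ X) (hP : P ≤ X) (hD : centralizer (ZL (S : Subgroup G) n : Set G) ≤ X)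
    (hN : normalizer (BL (S : Subgroup G) n : Set G) ≤ X)
    (hB : BL (S : Subgroup G) n ≤ H) (hc : H ⊓ centralizer (o2 H : Set G) ≤ o2 H) : H ≤ X := by
  by_contra hM
  obtain ⟨T, Y, s⟩ := exists_sel D hBM hD hN hB hc hM
  have hPhi : ∀ i, i ∈ Phi Z T := phi_univ D s hLM hD hN hq
  by_cases hF : Nat.card F = 4
  · exact h4 G S P n F k M L Z A D X T Y s hP hD hN hPhi hF
  · exact D.case_two s hD hN hPhi hF

/-- **`K0` normalises no nontrivial 2-subgroup, `q ≥ 4`.** -/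
theorem nlocD (h4 : FourStmt.{u}) (D : DtL S P n M L Z A) (hq : 4 ≤ Nat.card F)
    (hn1 : ¬ lev (S : Subgroup G) (n + 1) ≤ o2 P)
    (hF : Fam (BL (S : Subgroup G) n) (ZL (S : Subgroup G) n) (FBl (BL (S : Subgroup G) n)))
    (hL : ∀ i, FBl (BL (S : Subgroup G) n) (L i) (Lev.Nat.Wn M i)) :
    NLoc (KZ (BL (S : Subgroup G) n) (ZL (S : Subgroup G) n)) := by
  have hBG : BG S n (FBl (BL (S : Subgroup G) n)) :=
    Lev.Low.bg_four D.ln (by omega) fun L' V' h => ⟨h.fb, h.blk⟩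
  intro R hR hRn
  by_contra hR1
  obtain ⟨ho, hoB, hle⟩ := hF.dich (lb S n) hR hR1 hRn
  set O : Subgroup G := o2 (LevD.K0 (ZL (S : Subgroup G) n) (FBl (BL (S : Subgroup G) n))) with hO
  set X : Subgroup G := normalizer (O : Set G) with hX
  have hK : LevD.K0 (ZL (S : Subgroup G) n) (FBl (BL (S : Subgroup G) n)) ≤ X := le_sup_left.trans hle
  have hN : normalizer (BL (S : Subgroup G) n : Set G) ≤ X := le_sup_right.trans hle
  have hSM : (S : Subgroup G) ≤ X := D.S_norm.trans hN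
  have hS1 : (S : Subgroup G) ≠ ⊥ := D.ln.hyp.ctx.sylow_ne_bot S
  have h1 := MinPar.isLoc_centralizer_zc S hS1
  have hP : P ≤ X := by
    have h3 := hBG S P D.ln.hyp.toHyp.syl D.BS D.ln.hyp.star.toIsMinPar
      (D.ln.hyp.star.isLoc.char2 S D.ln.hyp.ctx.char2) hn1
      (fun hc => D.ln.hyp.star.not_zc (hc.trans (centralizer_le_normalizer _)))
    exact h3.trans (sup_le hK hSM)
  have hCZ : FrameNOFF.CZ (S : Subgroup G) ≤ X :=
    le_of_char2Q h4 D hq (hBG.bm hK hN) (fun i => (LevD.blk_le_K0 (hL i)).trans hK) hP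
      (LevD.cent_le_K0.trans hK) hN (D.BS.trans h1.le) (h1.char2 S D.ln.hyp.ctx.char2)
  exact ho (D.ln.hyp.nonLoc _ (isPGroup_o2 _) hP hCZ)

end line

/-- **(Om) is impossible at stage `n`, `q ≥ 4`.** -/
theorem nlocQ (h4 : FourStmt.{u}) {G : Type u} [Group G] [Finite G] {S : Sylow 2 G}
    {P : Subgroup G} {k : ℕ} (h : HypL S P) {n : ℕ}
    (hall : ∀ R, MinPar.IsParS (S : Subgroup G) R → lev (S : Subgroup G) n ≤ o2 R)
    (hn1 : ¬ lev (S : Subgroup G) (n + 1) ≤ o2 P) (hk : 2 ≤ k)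
    {F : Type} [Field F] [Finite F] [CharP F 2] (hF : 4 ≤ Nat.card F)
    (N : NatKM F (S : Subgroup G) P (zl (S : Subgroup G) P) (cv (S : Subgroup G) P) k) :
    NLoc (KZ (BL (S : Subgroup G) n) (ZL (S : Subgroup G) n)) := by
  obtain ⟨M, L, Z, A, -, D⟩ := exists_dtl h.toHypN (hall P h.star) hn1 hk N
  have hm : Node.MultiOf.Mul S P (lev (S : Subgroup G) (n + 1)) (BL (S : Subgroup G) n) (ZL (S : Subgroup G) n)
      L _ Z _ (Nat.card F) :=
    ⟨h, Node.MultiOf.StgP.lev n hall (hall P h.star) hn1, D.bg, F, inferInstance, inferInstance, inferInstance, rfl,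
      ⟨N⟩⟩
  exact nlocD h4 D hF hn1 hm.fam hm.fbl

/-- **(Om), stage `n ≥ 0`, `q ≥ 4`.** -/
theorem omLev_q {K : Cls.{u}} (h4 : FourStmt.{u}) : OmLev K fun _ q => 4 ≤ q := by
  intro G _ _ hK S P k h n hall hn1 hk F _ _ _ hF N B ZJ hZJ hB ho
  subst hZJ hB
  exact absurd (nlocQ h4 h hall hn1 hk hF N _ (isPGroup_o2 _) (le_normalizer_o2 _)) ho

end Cfsg.Agent.Omega.Node.OmLevFour
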