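import Cfsg.Agent.Omega.Node.MulX
import Cfsg.Agent.Omega.OM.SWT.Dt
import Cfsg.Agent.Omega.OM.SWT.LowLev

/-!
# (Om) over the case (L) of GammaFF, natural blocks, `q ≥ 4`

* `CoreQ` : THEOREM SWQ over the ground frame `Dt P n M L Z A` (`OM/SWT`): `C_G(Ω₁Z(S)) ≤ X`;
* `OmC` : the situation (Om) of `MulX.OmX`; `LowQ K`, `OffQ K` : LL and OffW in `C_G(Ω₁Z(S))`;
* `omX_of : CoreQ → LowQ K → OffQ K → OmX K (4 ≤ q)`.
-/

set_option autoImplicit false
set_option linter.unusedSectionVars false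

namespace Cfsg.Agent.Omega.Node.OmTopQ

open Subgroup Cfsg Cfsg.Agent.ZN.ChoiceBase Cfsg.Agent.ZN.ChoiceSit
open Cfsg.Agent.ZN (jj zj bau zc zl o2)
open Cfsg.Agent.Omega.NO3S.Level (nxt Lev CaseL)
open Cfsg.Agent.Omega.NO3S.OneLine (NatC)
open Cfsg.Agent.Omega.FFThm (NatK NatKM)
open Cfsg.Agent.Omega.FrameFF (cv)
open Cfsg.Agent.Omega.FrameNOFF (CZ)
open Cfsg.Agent.Omega.Frame (Cls)
open Cfsg.Agent.Omega.OM
open Cfsg.Agent.Omega.OM.LevB (FBlk)
open Cfsg.Agent.Omega.OM.SWT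
open Cfsg.Agent.Omega.Node.MultiOf (FBl)
open Cfsg.Agent.Omega.Node.MulX

universe u

/-- **THEOREM SWQ** over a general top level. -/
def CoreQ : Prop :=
  ∀ (G : Type u) [Group G] [Finite G] (S : Sylow 2 G) (P : Subgroup G) (n : LV S) (F : Type) [Field F] [Finite F]
    [CharP F 2] (k : ℕ) (M : NatC F (S : Subgroup G) P (zl (S : Subgroup G) P) (cv (S : Subgroup G) P) k)
    (L Z A : Fin k → Subgroup G), Dt P n M L Z A → 4 ≤ Nat.card F → ∀ X : Subgroup G,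
      (∀ m ∈ normalizer (BT n : Set G), BM n X (cj m (CZ (S : Subgroup G)))) →
      (∀ m ∈ normalizer (BT n : Set G), QFix n X (cj m (CZ (S : Subgroup G)))) →
      (∀ m ∈ normalizer (BT n : Set G), QFam P n X (cj m (CZ (S : Subgroup G)))) →
      (∀ i, L i ≤ X) → P ≤ X → centralizer (ZT n : Set G) ≤ X → normalizer (BT n : Set G) ≤ X →
        CZ (S : Subgroup G) ≤ X

section one

variable {G : Type u} [Group G] [Finite G] {S : Sylow 2 G} {P B ZJ : Subgroup G} {k : ℕ}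
  {L W Z C A : Fin k → Subgroup G} {q : ℕ}

/-- The situation (Om). -/
structure OmC (S : Sylow 2 G) (P B ZJ : Subgroup G) (L W Z C A : Fin k → Subgroup G) (q : ℕ) : Prop where
  mul : MulL S P B ZJ L W Z C A q
  k2 : 2 ≤ k
  ne : o2 (KX B ZJ (zl (S : Subgroup G) P)) ≠ ⊥
  leB : o2 (KX B ZJ (zl (S : Subgroup G) P)) ≤ B
  le : KX B ZJ (zl (S : Subgroup G) P) ⊔ normalizer (B : Set G) ≤
    normalizer (o2 (KX B ZJ (zl (S : Subgroup G) P)) : Set G)

/-- **(Om) is impossible in the case (L), `q ≥ 4`.** -/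
theorem OmC.false (hcore : CoreQ.{u}) (h : OmC S P B ZJ L W Z C A q) (hq : 4 ≤ q)
    (hL : LowW h.mul.cl (CZ (S : Subgroup G)))
    (hO : OffC h.mul.cl (normalizer (o2 (KX B ZJ (zl (S : Subgroup G) P)) : Set G)) (CZ (S : Subgroup G))) : False := by
  have hcl := h.mul.cl
  set X : Subgroup G := normalizer (o2 (KX B ZJ (zl (S : Subgroup G) P)) : Set G) with hX
  have eB : B = BT (nL hcl) := h.mul.eqB
  have eZ : ZJ = ZT (nL hcl) := h.mul.eZ
  obtain ⟨F, _, _, _, hF, ⟨N⟩⟩ := h.mul.nat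
  obtain ⟨M, L', Z', A', -, D⟩ := exists_dt (n := nL hcl) hcl.hypN le_rfl (MulG.exists_BO_caseL hcl) h.k2 N
  have hZV : ZT (nL hcl) ≤ zl (S : Subgroup G) P := by rw [← eZ]; exact h.mul.fr.ZJV
  replace hL : LowC hcl (CZ (S : Subgroup G)) := lowC_of hcl D.ln (by rw [hF]; omega) hL
  have hKX : KX B ZJ (zl (S : Subgroup G) P) ≤ X := le_sup_left.trans h.le
  have hN : normalizer (BT (nL hcl) : Set G) ≤ X := by rw [← eB]; exact le_sup_right.trans h.le
  have hD : centralizer (ZT (nL hcl) : Set G) ≤ X := by rw [← eZ]; exact cent_le.trans hKX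
  have hblk : ∀ L' V' : Subgroup G, FBlk (BT (nL hcl)) L' V' → V' ≤ zl (S : Subgroup G) P → L' ≤ X := by
    intro L' V' h1 h2
    rw [← eB] at h1
    exact (blk_le ⟨⟨h1.fb, h1.blk⟩, h2⟩).trans hKX
  have hSX : (S : Subgroup G) ≤ X := ((lb (nL hcl)).two_le S.isPGroup' (lb (nL hcl)).BS).trans hN
  have hZM : normalizer (ZT (nL hcl) : Set G) ≤ X := by
    have h1 := LevD.norm_le_M (𝓑 := fun _ _ => False) (lb (nL hcl))
      (sup_le hD (iSup_le fun i => i.2.elim)) hN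
    exact h1
  have hP : P ≤ X := by
    have hst := hcl.hypN.star
    obtain ⟨L₁, V₁, -, h2, h3, h4⟩ := exists_fblk hcl hZV hcl.hypN.toHyp.syl (lb (nL hcl)).BS hst.toIsMinPar
      (hst.isLoc.char2 S hcl.ctx.char2) le_rfl (MulG.top_caseL hcl).nxt
      (fun hc => hst.not_zc (hc.trans (centralizer_le_normalizer _)))
    exact h4.trans (sup_le hSX (hblk L₁ V₁ h2 h3))
  have hLX : ∀ i, L' i ≤ X := fun i =>
    hblk (L' i) _ ⟨⟨_, _, D.bg.fr.blk i⟩, D.bg.block i⟩ fun v hv => hv.1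
  have hCZ : CZ (S : Subgroup G) ≤ X := by
    refine hcore G S P (nL hcl) F k M L' Z' A' D (by rw [hF]; exact hq) X (fun m hm => ?_) (fun m hm => ?_)
      (fun m hm => ?_) hLX hP hD hN
    · exact bm_of hcl hZV (lowC_cj hcl hL hm) hblk hN
    · exact qfix_of hcl hZV (offC_cj hcl hO hN hm)
    · exact qfam_of hcl hZM (lowC_cj hcl hL hm) (offC_cj hcl hO hN hm)
  exact h.ne (hcl.hypN.nonLoc _ (isPGroup_o2 _) hP hCZ)

end one

section sockets

variable (K : Cls.{u})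

/-- **LL** in `C_G(Ω₁Z(S))`, case (L), natural, `q ≥ 4`, for the `Y` with `lim S ≤ O₂(Y)`, `O₂(P) ≰ O₂(Y)`. -/
def LowQ : Prop :=
  ∀ (G : Type u) [Group G] [Finite G], K G → ∀ (S : Sylow 2 G) (P B ZJ : Subgroup G) (k : ℕ)
    (L W Z C A : Fin k → Subgroup G) (q : ℕ), 4 ≤ q → ∀ h : OmC S P B ZJ L W Z C A q,
      LowW h.mul.cl (CZ (S : Subgroup G))

/-- **OffW** in `C_G(Ω₁Z(S))`, case (L), natural, `q ≥ 4`. -/
def OffQ : Prop :=
  ∀ (G : Type u) [Group G] [Finite G], K G → ∀ (S : Sylow 2 G) (P B ZJ : Subgroup G) (k : ℕ)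
    (L W Z C A : Fin k → Subgroup G) (q : ℕ), 4 ≤ q → ∀ h : OmC S P B ZJ L W Z C A q,
      OffC h.mul.cl (normalizer (o2 (KX B ZJ (zl (S : Subgroup G) P)) : Set G)) (CZ (S : Subgroup G))

end sockets

/-- **(Om), case (L), natural, `q ≥ 4`.** -/
theorem omX_of {K : Cls.{u}} (hcore : CoreQ.{u}) (hL : LowQ K) (hO : OffQ K) : OmX K fun _ q => 4 ≤ q := by
  intro G _ _ hK S P B ZJ k L W Z C A q hk hq hM h1 h2 h3
  have h : OmC S P B ZJ L W Z C A q := ⟨hM, hk, h1, h2, h3⟩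
  exact (h.false hcore hq (hL G hK S P B ZJ k L W Z C A q hq h) (hO G hK S P B ZJ k L W Z C A q hq h)).elim

end Cfsg.Agent.Omega.Node.OmTopQ
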