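import Cfsg.Agent.Omega.OM.SWT.Core
import Cfsg.Agent.Omega.Node.OmTopQM

/-!
# (Om) over the case (L) of GammaFF, natural blocks, `q ≥ 4`: the end

* `omQ_of : OffHQ K → LamHQ K → OmX K (4 ≤ q)`.
-/

set_option autoImplicit false

namespace Cfsg.Agent.Omega.Node.OmTopQ

open Cfsg.Agent.Omega.Frame (Cls)
open Cfsg.Agent.Omega.Node.MulX (OmX)

universe u

/-- **(Om), case (L), natural, `q ≥ 4`**, from THEOREM QW and LAMBDA. -/
theorem omQ_of {K : Cls.{u}} (hO : OffHQ K) (hL : LamHQ K) : OmX K fun _ q => 4 ≤ q :=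
  omX_of_lam OM.SWT.coreQ hO hL

end Cfsg.Agent.Omega.Node.OmTopQ
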