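import Cfsg.Agent.Omega.Node.LamHOf

/-! THEOREM LAMBDA plugged into `Node/OmXOf.lean`: see `Node/LamHOf.lean` (`lamH`, `omX_of_off`, `omSX_of_off`). -/
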