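import Cfsg.Agent.Omega.NO3S.CaseLW.QWPlug
import Cfsg.Agent.Omega.NO3S.CaseLW.QWoFr
import Cfsg.Agent.Omega.NO3S.CaseLW.LowOne
import Cfsg.Agent.Omega.Node.LamHOf

/-!
# THEOREM QW: the sockets `OffH K` (`q = 2`, natural and symmetric types), `OffHQ K` (`q ≥ 4`) of (Om)

* `ho_of` : (2') over `CaseL`, any `q`, from `V_P ≤ O₂(C_G(z))`, `z ∈ Ω₁(Z(S))` of full support;
* `frX_ho` : (2'), `q = 2`;  **`offH : MLK → OffH K`**; `offHQ : MLK → OffHQ K`;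
* **`omX : MLK → OmX K (fun _ q => q = 2)`**, **`omSX : MLK → OmSX K (fun _ _ => True)`**.
-/

set_option autoImplicit false
set_option linter.unusedSectionVars false

namespace Cfsg.Agent.Omega.Node.QWAll

open Subgroup Cfsg Cfsg.Agent.ZN Cfsg.Agent.ZN.ChoiceBase Cfsg.Agent.Omega.MinPar
open Cfsg.Agent.Omega.Frame (Cls)
open Cfsg.Agent.Omega.FrameNOFF (CZ)
open Cfsg.Agent.Omega.NO3S.Level (lim nxt CaseL)
open Cfsg.Agent.Omega.NO3S.WY (WQ ZJ BB)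
open Cfsg.Agent.Omega.OM.Lev.Uni (FrL)
open Cfsg.Agent.Omega.OM
open Cfsg.Agent.Omega.ML.Final (MLK)
open Cfsg.Agent.Omega.Node.OmXOf
open Cfsg.Agent.Omega.Node.MulX (MulL OmX OmSX)
open Cfsg.Agent.Omega.Node.OmTopQ (OffHQ)
open Cfsg.Agent.Omega.NO3S.CaseLW.QWPlug (HoQ)

universe u

variable {G : Type u} [Group G] [Finite G] {S : Sylow 2 G} {P : Subgroup G}

/-- **(2')** in the case (L), any `q`. -/
theorem ho_of (h : CaseL S P) {ι : Type*} [Finite ι] {L W Z C A : ι → Subgroup G} {q : ℕ} {X : Subgroup G}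
    (eX : X = zc (o2 P)) (fr : FrL (BB (S : Subgroup G) P) (o2 P) (zl (S : Subgroup G) P) X (ZJ (S : Subgroup G) P) L W Z C A q)
    (two : ∀ i : ι, ∃ j, j ≠ i) {z : G} (hz : z ∈ zc (S : Subgroup G)) (hf : ∀ i, z ∉ C i)
    (hVo : zl (S : Subgroup G) P ≤ o2 (centralizer ({z} : Set G))) :
    ∀ i, ∀ c ∈ Z i, W i ≤ o2 (centralizer ({z * c} : Set G)) := by
  intro i c hc
  have hlb := SWT.lb (SWT.nL h)
  refine NO3S.CaseLW.QWoFr.le_o2_q fr h.ctx.char2 (S.isPGroup'.to_le inf_le_left) (fun R hR hB => hlb.two_le hR hB) ?_ two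
    ?_ hf hVo i hc
  · rw [eX]
    exact (SWT.norm_K (SWT.nL h)).trans (NO3S.Level.normalizer_le_zc _)
  · exact h.levQ.next.zc_le hz

/-- **(2')**, `q = 2`. -/
theorem frX_ho {ι : Type} [Finite ι] {L W Z C A : ι → Subgroup G} (h : FrX S P L W Z C A) :
    ∃ z ∈ zc (S : Subgroup G), z ≠ 1 ∧ ∀ i, ∀ c ∈ Z i, W i ≤ o2 (centralizer ({z * c} : Set G)) := by
  obtain ⟨z, hz, hf, hiff⟩ := h.exists_c
  have hzS : z ∈ zc (S : Subgroup G) := (hiff z).2 (Or.inr rfl)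
  have hz1 : z ≠ 1 := by
    obtain ⟨b, hb⟩ := Subgroup.ne_bot_iff_exists_ne_one.1 h.lt.hyp.toHyp.zc_ne
    rintro rfl
    rcases (hiff b).1 b.2 with e | e
    · exact hb (Subtype.ext e)
    · exact hb (Subtype.ext e)
  have e : CZ (S : Subgroup G) = centralizer ({z} : Set G) := by
    apply le_antisymm (centralizer_le (Set.singleton_subset_iff.2 hzS))
    intro x hx
    refine mem_centralizer_iff.2 fun y hy => ?_
    rcases (hiff y).1 hy with rfl | rfl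
    · simp
    · exact (mem_centralizer_singleton_iff.1 hx).symm
  exact ⟨z, hzS, hz1, ho_of h.cl rfl h.lt.fr h.lt.two hzS hf (e ▸ h.cl.low P h.cl.pss.par)⟩

/-- **The socket `OffH K`** (THEOREM QW, `q = 2`, natural and symmetric types). -/
theorem offH (ml : MLK.{u, u}) (K : Cls.{u}) : OffH K := by
  intro G _ _ _ S P ι _ L W Z C A h M hM
  obtain ⟨z, hz, hz1, ho⟩ := frX_ho h
  exact NO3S.CaseLW.QWPlug.offW h.cl ml hM.loc hM.P_le hM.D_le h.lt.fr hz hz1 ho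

/-- **(Om)**, case (L), natural blocks, `q = 2`. -/
theorem omX (ml : MLK.{u, u}) (K : Cls.{u}) : OmX K fun _ q => q = 2 := OmXOf.omX_of_off (offH ml K)

/-- **(Om)**, case (L), symmetric blocks. -/
theorem omSX (ml : MLK.{u, u}) (K : Cls.{u}) : OmSX K fun _ _ => True := OmXOf.omSX_of_off (offH ml K)

/-! ### `q ≥ 4` -/

theorem hoQ (ml : MLK.{u, u}) (K : Cls.{u}) : HoQ K := by
  intro G _ _ _ S P B ZJ' k L W Z C A q hk hq h
  obtain ⟨b, hb⟩ := Subgroup.ne_bot_iff_exists_ne_one.1 h.cl.hypN.toHyp.zc_ne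
  have hz : (b : G) ∈ zc (S : Subgroup G) := b.2
  have hz1 : (b : G) ≠ 1 := fun e => hb (Subtype.ext e)
  have eB : B = BB (S : Subgroup G) P := h.eqB
  have eZ : ZJ' = ZJ (S : Subgroup G) P := h.eZ
  subst eB eZ
  refine ⟨b, hz, hz1, ho_of h.cl h.cl.zc_eq.symm h.fr h.bg.two hz (fun i => NO3S.CaseLW.LowOne.supp h hz hz1 i)
    (NO3S.CaseLW.LowOne.low_one h ml hz hz1)⟩

/-- **The socket `OffHQ K`** (THEOREM QW, `q ≥ 4`). -/
theorem offHQ (ml : MLK.{u, u}) (K : Cls.{u}) : OffHQ K := NO3S.CaseLW.QWPlug.offHQ_of_ho ml (hoQ ml K)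

end Cfsg.Agent.Omega.Node.QWAll
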