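import Cfsg.Agent.Omega.NO3S.CaseLW.QWd
import Cfsg.Agent.Omega.NO3S.CaseLW.QWex
import Cfsg.Agent.Omega.NO3S.CaseLW.QWm
import Cfsg.Agent.Omega.NO3S.CaseLW.QWoFr
import Cfsg.Agent.Omega.OM.SwapT.QuietL

/-!
# THEOREM QW (helper866 #24897, helper276 #25131), the glue over `FrL`, every `q`

`WQ S P T Y`, `B ≤ T`, `Y ≤ C_G(Z)`, `M` 2-local, `P, C_G(Z_J) ≤ M`, `Y ≰ M`, `V_P ≤ O₂(C_G(z))` for one
`1 ≠ z ∈ Z` of full support: some best offender `A ≤ T` on `⟨V_P^Y⟩` is not in `O₂(Y)`.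
-/

set_option autoImplicit false

namespace Cfsg.Agent.Omega.Node.QWGlue

open Subgroup Cfsg Cfsg.Agent.ZN.ChoiceBase Cfsg.Agent.ZN.ChoiceSit
open Cfsg.Agent.ZN (jj zj bau zc zl o2)
open Cfsg.Agent.Omega.MinPar (IsLoc)
open Cfsg.Agent.Omega.NO1.BestOff (Best)
open Cfsg.Agent.Omega.NO3S.Level (nxt Lev lim CaseL)
open Cfsg.Agent.Omega.NO3S.WY (WQ ZJ BB)
open Cfsg.Agent.Omega.NO3b.EZero (cl)
open Cfsg.Agent.Omega.FrameNOFF (CZ)
open Cfsg.Agent.Omega.ML.Final (MLK)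
open Cfsg.Agent.Omega.OM.Lev.Uni (FrL)
open Cfsg.Agent.Omega.OM.SwapT (lb norm_K)
open Cfsg.Agent.Omega.NO3S.CaseLW

universe u

variable {G : Type u} [Group G] [Finite G] {S : Sylow 2 G} {P T Y M : Subgroup G}

/-- `U ≤ O₂(C_G(Z))` -/
theorem U_le_o2 (h : WQ S P T Y) (hY : Y ≤ CZ (S : Subgroup G)) :
    cl (zl (S : Subgroup G) P) Y ≤ o2 (CZ (S : Subgroup G)) := by
  refine NO3b.EZero.cl_le fun y hy => ?_
  have h1 := cj_mono y (h.cl.low P h.parP)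
  rwa [cj_eq_of_mem_normalizer (ZN.le_normalizer_o2 _ (hY hy))] at h1

theorem U_sq (h : WQ S P T Y) : ∀ x ∈ cl (zl (S : Subgroup G) P) Y, x * x = 1 := fun x hx => by
  rw [← sq]
  exact h.V_sq x (h.zl_GX_le (QWc.U_le_zl h hx))

/-- **THEOREM QW** -/
theorem offW (h : WQ S P T Y) (BT : BB (S : Subgroup G) P ≤ T) (hY : Y ≤ CZ (S : Subgroup G))
    (hM : IsLoc (S : Subgroup G) M) (hPM : P ≤ M) (hZM : centralizer (ZJ (S : Subgroup G) P : Set G) ≤ M)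
    (hYM : ¬ Y ≤ M) (ml : MLK.{u, u}) (hK : IsKGroup M) {ι : Type*} [Finite ι] {L W Z C A : ι → Subgroup G} {q : ℕ}
    (fr : FrL (BB (S : Subgroup G) P) (o2 P) (zl (S : Subgroup G) P) (zl (S : Subgroup G) P)
      (ZJ (S : Subgroup G) P) L W Z C A q) (two : ∀ i : ι, ∃ j, j ≠ i) {z : G} (hz : z ∈ zc (S : Subgroup G))
    (hf : ∀ i, z ∉ C i) (lowz : zl (S : Subgroup G) P ≤ o2 (centralizer ({z} : Set G))) :
    ∃ A ≤ T, Best (cl (zl (S : Subgroup G) P) Y) A ∧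
      ¬ A ≤ centralizer (cl (zl (S : Subgroup G) P) Y : Set G) ∧ ¬ A ≤ o2 Y := by
  have hcl := h.cl
  have hLB := lb hcl.wc
  have hN : normalizer (BB (S : Subgroup G) P : Set G) ≤ normalizer (zl (S : Subgroup G) P : Set G) := fun g hg =>
    hcl.norm_o2_le (norm_K hcl.wc hg)
  have hzJ : z ∈ ZJ (S : Subgroup G) P := hcl.levQ.next.zc_le hz
  have ho : ∀ i, ∀ c ∈ Z i, W i ≤ o2 (centralizer ({z * c} : Set G)) := fun i c hc =>
    QWoFr.le_o2_q fr h.hG hLB.Bp (fun R hR hB => hLB.two_le hR hB) hN two hzJ hf lowz i hc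
  refine QWd.exists_best_of h BT hY hZM hPM hYM fun neg => ?_
  have hUC : cl (zl (S : Subgroup G) P) Y ≤ centralizer (ZJ (S : Subgroup G) P : Set G) :=
    (QWc.U_comm h).trans (centralizer_le ((NO3S.WY.ZJ_le hcl).trans (NO3b.EZero.le_cl _ _)))
  have hUZ := U_le_o2 h hY
  have hUO : cl (zl (S : Subgroup G) P) Y ≤ o2 (M ⊓ CZ (S : Subgroup G)) := by
    refine fun x hx => ?_
    have h1 : x ∈ M := hZM (hUC hx)
    refine MinSimple.VModule.le_o2 (L := M ⊓ CZ (S : Subgroup G)) (N := M ⊓ o2 (CZ (S : Subgroup G)))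
      (inf_le_inf_left _ (MinSimple.VModule.o2_le _)) ((isPGroup_o2 _).to_le inf_le_right) (fun g hg => ?_) ⟨h1, hUZ hx⟩
    rw [mem_normalizer_iff_cj, cj_inf, cj_eq_of_mem_normalizer (le_normalizer hg.1),
      cj_eq_of_mem_normalizer (ZN.le_normalizer_o2 _ hg.2)]
  have hcent := QW.cent_zl_q S h.hG ml hM hK (MinSimple.VModule.zc_le_zl _ _ hz) (U_sq h) hUO
    fun off hne => QWex.hex h hM hPM neg fr hY hz ho off hne
  exact QW.le_o2_M S hM.le (h.cl.ctx.sylow_ne_bot S) hcent hUZ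

end Cfsg.Agent.Omega.Node.QWGlue
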