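import Cfsg.Agent.Omega.Node.SEPOf
import Cfsg.Agent.Omega.Lie.End.KMov

/-!
# `SEP K` : `C_{W/R}(S₁ ∩ C(R)) = V/R` (II.a, `q ≥ 4`), no open input
-/

set_option autoImplicit false

namespace Cfsg.Agent.Omega.IIa4

open Cfsg.Agent.Omega.Frame Cfsg.Agent.Omega.FrameFF

universe u

/-- **`SEP K`** -/
theorem sep {K : Cls.{u}} : SEP K := sep_of Lie.End.kSideX

end Cfsg.Agent.Omega.IIa4
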