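import Cfsg.Agent.Omega.SQEnd.GZeroOf
import Cfsg.Agent.Omega.SQEnd.PLocOf
import Cfsg.Agent.Omega.SQEnd.HexFour
import Cfsg.Agent.Omega.SQEnd.SylOf
import Cfsg.Agent.Omega.Node.LeafA4
import Cfsg.Agent.Omega.GTwoFour.InstFourOf
import Cfsg.Agent.HexGlob.GlobFrame
import Cfsg.Agent.StrongEmb.Main

/-!
# The rank one end of II.a, `q ≥ 4` (assembler: helper326)

`RankOne V R`: `K ⊴ N(R i)`, `[K, R i] = 1`, `K / W i ≅ SL₂(k)`, `W i U j / W i` a Sylow 2-subgroup of it.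
`known_or`: `Sit`, `SemiOut`, `RankOne` imply `GZero V R` (`|k| > 4`: `G₂(q)`, `³D₄(q)`) or `G` is known (`|k| = 4`:
`G₂(4)`).  No open input.

Texts: bb OMEGA #12947 (helper326), #11322 (helper195), #12713 (helper352).  Lean: `SQEnd/` (helper326, 392, 165, 688,
78), `Hex/` (helper195), `GTwoFour/` (helper352, 468).
-/

set_option autoImplicit false

universe u

namespace Cfsg.Agent.Omega.Node.SQEnd

open Subgroup Cfsg Cfsg.Agent.ZN Cfsg.Agent.Omega.NatPair Cfsg.Agent.Omega.BTwo Cfsg.Agent.Omega.Hex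
open Cfsg.Agent.Omega.Frame Cfsg.Agent.Omega.FrameFF Cfsg.Agent.Omega.IIa4 Cfsg.Agent.Omega.SQEnd

/-- **rank one** -/
def RankOne {G : Type*} [Group G] {ι : Type*} (V : Subgroup G) (R : ι → Subgroup G) : Prop :=
  ∃ (i j : ι) (k : Type) (_ : Field k) (K : Subgroup G) (φ : K →* Matrix.SpecialLinearGroup (Fin 2) k),
    KD V R i j K φ

variable {G : Type u} [Group G] [Finite G] {S : Sylow 2 G} {P : Subgroup G} {g : G} {F : Type} [Field F]
  [Finite F] [CharP F 2] {M : NatMod F (zl (S : Subgroup G) P)}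

/-- **The rank one end.** -/
theorem known_or (h : Sit S P g M) (hsemi : SemiOut (zl (S : Subgroup G) P) (pt M))
    (hr : RankOne (zl (S : Subgroup G) P) (pt M)) :
    GZero (zl (S : Subgroup G) P) (pt M) ∨ IsKnownSimple' G := by
  obtain ⟨i, j, k, _, K, φ, kd⟩ := hr
  obtain ⟨v, w1, w2, c⟩ := h.exists_coord kd.ne
  obtain ⟨S₁, hSV, hSR⟩ := sit_exists_sylow h i
  obtain ⟨hC, hQ⟩ := hsemi i
  have hNAe := NAe h.btc hC.le c kd h.four (odd_relIndex S₁ hSV hSR)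
  have h4 := four_le_card h.btc c kd hNAe h.four
  rcases h4.lt_or_eq with h5 | h5
  · exact Or.inl (gZero h.btc c kd hC.le hQ hNAe h.four h5 (fun Y _ _ => StrongEmb.Main.bender Y) h.ctx.char2 S₁ hSR)
  · right
    have := h.ctx.simple
    have hF := card_k_eq h.btc c kd hNAe h.four h5.symm
    obtain ⟨P₁, P₂, B, U, X₁, X₂, h₁, h₂, n₁, n₂, hH, h1, h2, h3, hf, hX₁, hX₂, -, -⟩ :=
      exists_four h.btc c kd hC.le hNAe hF h5.symm S₁ hSV hSR
    exact GTwoFour.close_of HexGlob.GlobFrame.globalFrame GTwoFour.instFour h.ctx.char2 S₁ hH h1 h2 h3 hf hX₁ hX₂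

end Cfsg.Agent.Omega.Node.SQEnd
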