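import Cfsg.Agent.Omega.FrameExtra
import Cfsg.Agent.Omega.Node.LargeOf
import Cfsg.Agent.Omega.Exit.WeakClosed

/-!
# The leaf WC: `O₂(C_G(z))` extraspecial of width at least 5, `z` weakly closed (helper888)
-/

set_option autoImplicit false

namespace Cfsg.Agent.Omega.Node.WC

open Subgroup Cfsg Cfsg.Agent.ZN Cfsg.Agent.Omega.Frame Cfsg.Agent.Omega.FrameExtra Cfsg.Agent.Omega.Exits
open Cfsg.Agent.Omega.Node.LargeOf

universe u

/-- **LeafWC** -/
theorem leafWC (K : Cls.{u}) : LeafWC K := by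
  intro G _ _ hG _ z n hn h _ hwc
  have := hG.simple
  refine Cfsg.Agent.Omega.Exit.WeakClosed.known_of_wc hG.nonComm (large hG.char2 h) ?_ hwc
  rw [card_o2 h]
  exact Nat.pow_le_pow_right (by norm_num) (by omega)

end Cfsg.Agent.Omega.Node.WC
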